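import Cfsg.Agent.GW.AltAut
import Cfsg.Agent.S4198
import Cfsg.Agent.H1.Frattini
import Cfsg.Agent.H1.Generation

/-!
# Odd order automorphisms of alternating groups (degree six included)
-/

set_option autoImplicit false
set_option linter.unusedSectionVars false

namespace Cfsg.Agent.H26

open Equiv Equiv.Perm Subgroup Cfsg.Agent.GW

variable {α : Type*} [Fintype α] [DecidableEq α]

theorem exists_conj_of_three (h4 : 4 ≤ Fintype.card α) (f : MulAut (alternatingGroup α))
    (h6 : ∀ x : alternatingGroup α, IsThreeCycle (x : Perm α) → IsThreeCycle (f x : Perm α)) :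
    ∃ g : Perm α, ∀ x : alternatingGroup α, (f x : Perm α) = g * x * g⁻¹ := by
  obtain ⟨l, hl, hl4⟩ : ∃ l : List α, l.Nodup ∧ l.length = 4 := by
    obtain ⟨s, -, hs⟩ := Finset.exists_subset_card_eq (s := (Finset.univ : Finset α)) h4
    exact ⟨s.toList, s.nodup_toList, by rw [Finset.length_toList, hs]⟩
  obtain ⟨a, b, c, d, rfl⟩ : ∃ a b c d, l = [a, b, c, d] := by
    match l, hl4 with
    | [a, b, c, d], _ => exact ⟨a, b, c, d, rfl⟩
  have ab : a ≠ b := by grind
  let u : ∀ k, a ≠ k → b ≠ k → alternatingGroup α := fun k h1 h2 =>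
    ⟨c3 a b k, (c3_isThreeCycle ab h1 h2).mem_alternatingGroup⟩
  have t3 : ∀ k h1 h2, IsThreeCycle (f (u k h1 h2) : Perm α) := fun k h1 h2 =>
    h6 _ (c3_isThreeCycle ab h1 h2)
  have edge : ∀ k h1 h2 k' h1' h2', k ≠ k' → (f (u k h1 h2) : Perm α) ≠ f (u k' h1' h2') ∧
      ∃ p, (f (u k h1 h2) : Perm α) p ≠ p ∧
        (f (u k' h1' h2') : Perm α) p = (f (u k h1 h2) : Perm α) p := by
    intro k h1 h2 k' h1' h2' hk
    have h7 := c3_mul_sq (a := a) (b := b) (c := k) (d := k') (by grind)
    refine ⟨fun e => ?_, exists_edge (t3 k h1 h2) (t3 k' h1' h2') ?_ fun e => h7.2 ?_⟩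
    · have e1 : c3 a b k = c3 a b k' := congrArg Subtype.val (f.injective (Subtype.ext e))
      have := DFunLike.congr_fun e1 b
      simp only [c3, Perm.mul_apply, swap_apply_left] at this
      exact hk ((swap a b).injective this)
    · rw [← Subgroup.coe_mul, ← map_mul, ← Subgroup.coe_mul, ← map_mul]
      have : u k h1 h2 * u k' h1' h2' * (u k h1 h2 * u k' h1' h2') = 1 := Subtype.ext h7.1
      rw [this, map_one]; rfl
    · rw [← Subgroup.coe_mul, ← map_mul, OneMemClass.coe_eq_one, MulEquiv.map_eq_one_iff] at e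
      exact congrArg Subtype.val e
  have ac : a ≠ c := by grind
  have bc : b ≠ c := by grind
  have ad : a ≠ d := by grind
  have bd : b ≠ d := by grind
  obtain ⟨hne, p, hp, ep⟩ := edge c ac bc d ad bd (by grind)
  have all : ∀ k h1 h2, (f (u k h1 h2) : Perm α) p = (f (u c ac bc) : Perm α) p := by
    intro k h1 h2
    by_cases e1 : c = k
    · subst e1; rfl
    by_cases e2 : d = k
    · subst e2; exact ep
    exact third_edge (t3 c ac bc) (t3 d ad bd) (t3 k h1 h2) hp ep hne (edge c ac bc k h1 h2 e1).2
      (edge d ad bd k h1 h2 e2).2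
  set q := (f (u c ac bc) : Perm α) p
  have frm : ∀ k h1 h2, (f (u k h1 h2) : Perm α) = c3 p q ((f (u k h1 h2) : Perm α) q) ∧
      [p, q, (f (u k h1 h2) : Perm α) q].Nodup := fun k h1 h2 => by
    have h7 : (f (u k h1 h2) : Perm α) p ≠ p := by rw [all k h1 h2]; exact hp
    have h8 := eq_c3 (t3 k h1 h2) h7
    have h9 := (t3 k h1 h2).nodup_iff_mem_support.2 (mem_support.2 h7)
    rw [all k h1 h2] at h8 h9
    exact ⟨h8, h9⟩
  let s : α → α := fun k => if h1 : a = k then p else if h2 : b = k then q else
    (f (u k h1 h2) : Perm α) q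
  have sa : s a = p := by simp [s]
  have sb : s b = q := by simp [s, ab]
  have sk : ∀ k h1 h2, s k = (f (u k h1 h2) : Perm α) q := fun k h1 h2 => by simp [s, h1, h2]
  have hs : Function.Injective s := by
    intro k k' e
    by_contra hk
    by_cases h1 : a = k <;> by_cases h2 : b = k <;> by_cases h1' : a = k' <;>
      by_cases h2' : b = k' <;> grind
  let g : Perm α := Equiv.ofBijective s (Finite.injective_iff_bijective.1 hs)
  refine ⟨g, fun x => ?_⟩
  let H : Subgroup (alternatingGroup α) :=
    f.toMonoidHom.eqLocus (MulAut.conjNormal g : MulAut (alternatingGroup α)).toMonoidHom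
  have hH : alternatingGroup α ≤ H.map (alternatingGroup α).subtype := by
    refine alt_le_of_c3 ab fun k h1 h2 => ⟨u k h1 h2, Subtype.ext ?_, rfl⟩
    change (f (u k h1 h2) : Perm α) = g * c3 a b k * g⁻¹
    rw [conj_c3, (frm k h1 h2).1, ← sk k h1 h2, ← sa, ← sb]
    rfl
  obtain ⟨y, hy, e⟩ := hH x.2
  obtain rfl : y = x := Subtype.ext e
  exact congrArg Subtype.val hy

theorem isConj_alt_of_count {x y : alternatingGroup α}
    (h : (x : Perm α).cycleType = (y : Perm α).cycleType) {i : ℕ}
    (hi : 1 < (x : Perm α).cycleType.count i) : IsConj x y := by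
  by_contra h'
  obtain ⟨g, h1, hg⟩ := S4198.conj_cases h h'
  have : Subgroup.centralizer {(x : Perm α)} ≤ alternatingGroup α := by
    intro c hc
    rcases Int.units_eq_one_or (sign c) with h2 | h2
    · exact h2
    · refine absurd (isConj_iff.2 ⟨⟨g * c, by simp [h1, h2]⟩, Subtype.ext ?_⟩) h'
      show g * c * x * (g * c)⁻¹ = y
      rw [mul_assoc g, Subgroup.mem_centralizer_singleton_iff.1 hc, ← hg]; group
  exact absurd ((centralizer_le_alternating_iff.1 this).2.2 i) (by omega)

theorem isThreeCycle_aut_odd (h5 : 5 ≤ Fintype.card α) (f : MulAut (alternatingGroup α))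
    (hf : Odd (orderOf f)) (x : alternatingGroup α) (hx : IsThreeCycle (x : Perm α)) :
    IsThreeCycle (f x : Perm α) := by
  by_cases h6 : Fintype.card α = 6
  swap
  · exact isThreeCycle_aut h6 f hx
  by_contra hfx
  have h5' : 5 ≤ Nat.card α := by rwa [Nat.card_eq_fintype_card]
  have cj : ∀ {a b : alternatingGroup α}, IsConj a b → IsThreeCycle (a : Perm α) →
      IsThreeCycle (b : Perm α) := fun {a b} h ha =>
    (isConj_iff_cycleType_eq.1 ((alternatingGroup α).subtype.map_isConj h)).symm.trans ha
  have ty : ∀ y : alternatingGroup α, orderOf y = 3 → ¬ IsThreeCycle (y : Perm α) →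
      (y : Perm α).cycleType = {3, 3} := by
    intro y ho hy
    rw [← orderOf_coe] at ho
    obtain ⟨k, hk⟩ := cycleType_prime_order (σ := (y : Perm α)) (by rw [ho]; exact Nat.prime_three)
    rw [ho] at hk
    have h3 := (y : Perm α).sum_cycleType_le
    rw [hk, Multiset.sum_replicate, smul_eq_mul, h6] at h3
    have : k = 0 ∨ k = 1 := by omega
    rcases this with rfl | rfl
    · exact absurd hk hy
    · exact hk
  have hA : ∀ y : alternatingGroup α, IsThreeCycle (y : Perm α) → ¬ IsThreeCycle (f y : Perm α) :=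
    fun y hy h => hfx (cj (f.toMonoidHom.map_isConj (alternatingGroup.isThreeCycle_isConj h5' hy hx)) h)
  have hox : orderOf x = 3 := by rw [← orderOf_coe, hx.orderOf]
  have hB : ∀ y : alternatingGroup α, orderOf y = 3 → ¬ IsThreeCycle (y : Perm α) →
      IsThreeCycle (f y : Perm α) := by
    intro y ho hy
    have h1 : ¬ IsThreeCycle ((f.symm x : alternatingGroup α) : Perm α) := fun h =>
      hA _ h (by simpa using hx)
    have h2 := ty _ (by rw [MulEquiv.orderOf_eq, hox]) h1
    have h3 := isConj_alt_of_count (i := 3) (h2.trans (ty y ho hy).symm) (by rw [h2]; decide)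
    exact cj (f.toMonoidHom.map_isConj h3) (by simpa using hx)
  have key : ∀ k : ℕ, IsThreeCycle (((f ^ (2 * k)) x : alternatingGroup α) : Perm α) := by
    intro k
    induction k with
    | zero => simpa using hx
    | succ k ih =>
      rw [show 2 * (k + 1) = 1 + 1 + 2 * k by ring, pow_add, pow_add, pow_one, MulAut.mul_apply,
        MulAut.mul_apply]
      exact hB _ (by rw [MulEquiv.orderOf_eq, MulEquiv.orderOf_eq, hox]) (hA _ ih)
  obtain ⟨k, hk⟩ := hf
  have := hA _ (key k)
  rw [← MulAut.mul_apply, ← pow_succ', ← hk, pow_orderOf_eq_one] at this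
  exact this hx

theorem mem_range_conjNormal_of_odd (h5 : 5 ≤ Fintype.card α) (f : MulAut (alternatingGroup α))
    (hf : Odd (orderOf f)) : f ∈ (MulAut.conjNormal : Perm α →* MulAut (alternatingGroup α)).range := by
  obtain ⟨g, hg⟩ := exists_conj_of_three (by omega) f (isThreeCycle_aut_odd h5 f hf)
  exact ⟨g, MulEquiv.ext fun x => Subtype.ext (hg x).symm⟩

theorem conjNormal_alt_injective (h4 : 4 ≤ Fintype.card α) :
    Function.Injective (MulAut.conjNormal : Perm α →* MulAut (alternatingGroup α)) := by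
  rw [injective_iff_map_eq_one]
  intro g hg
  exact eq_one_of_centralizes_alt h4 fun x hx => by
    have := congrArg Subtype.val (DFunLike.congr_fun hg ⟨x, hx⟩)
    exact this

theorem comm_of_card_lt_sq {q : ℕ} [hq : Fact q.Prime] (h : Fintype.card α < q ^ 2)
    {R : Subgroup (Perm α)} (hR : IsPGroup q R) : IsMulCommutative R := by
  haveI := hR.isNilpotent
  have key : ∀ x : α, _root_.commutator R ≤ MulAction.stabilizer R x := by
    intro x
    obtain ⟨k, hk⟩ := hR.index (MulAction.stabilizer R x)
    have h1 : (MulAction.stabilizer R x).index ≤ Fintype.card α := by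
      rw [MulAction.index_stabilizer, ← Nat.card_eq_fintype_card, ← Set.ncard_univ]
      exact Set.ncard_le_ncard (Set.subset_univ _)
    have h2 : k < 2 := (Nat.pow_lt_pow_iff_right hq.out.one_lt).1 (by omega)
    interval_cases k
    · rw [index_eq_one.1 hk]; exact le_top
    · have hc := H1.isCoatom_of_index_prime (H := MulAction.stabilizer R x) (by rw [hk, pow_one]; exact hq.out)
      haveI := H1.normal_of_isCoatom hc
      exact H1.commutator_le_of_isCoatom_of_normal hc
  refine ⟨⟨fun a b => ?_⟩⟩
  rw [← commutatorElement_eq_one_iff_mul_comm]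
  exact Subtype.ext (Equiv.ext fun x => key x (commutator_mem_commutator (mem_top a) (mem_top b)))

end Cfsg.Agent.H26
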