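import Cfsg.Agent.H26.Frob
import Cfsg.Agent.H26.ClassSize

/-! Centralizers in Frobenius groups. -/

set_option autoImplicit false

namespace Cfsg.Agent.H26
open Subgroup
open scoped Pointwise

variable {G : Type*} [Group G]

theorem exists_conj_of_not_mem_frobeniusKernel {H : Subgroup G} {x : G} (hx : x ∉ frobeniusKernel H) :
    x ≠ 1 ∧ ∃ g : G, g⁻¹ * x * g ∈ H := by
  simp only [frobeniusKernel, Set.mem_setOf_eq, not_or, not_forall, not_not] at hx
  obtain ⟨h1, g, hg⟩ := hx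
  exact ⟨h1, g, H1.mem_conj_smul.mp hg⟩

theorem eq_one_of_mem_frobeniusKernel {H : Subgroup G} {x g : G} (hx : x ∈ frobeniusKernel H)
    (hg : g⁻¹ * x * g ∈ H) : x = 1 :=
  hx.resolve_right fun h => h g (H1.mem_conj_smul.mpr hg)

theorem mem_frobeniusKernel_of_commute {H : Subgroup G} (hH : IsFrobeniusComplement H) {x y : G}
    (hx : x ∈ frobeniusKernel H) (hx1 : x ≠ 1) (h : y * x = x * y) : y ∈ frobeniusKernel H := by
  by_contra hy
  obtain ⟨h1, g, hg⟩ := exists_conj_of_not_mem_frobeniusKernel hy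
  have h2 := H1.centralizer_le_of_isFrobeniusComplement hH hg (fun e => h1 (by
    have : y = g * (g⁻¹ * y * g) * g⁻¹ := by group
    rw [this, e]; group))
  refine hx1 (eq_one_of_mem_frobeniusKernel hx (g := g) (h2 (mem_cent.mpr ?_)))
  calc g⁻¹ * x * g * (g⁻¹ * y * g) = g⁻¹ * (x * y) * g := by group
    _ = _ := by rw [← h]; group

/-- package: the kernel of a finite Frobenius group -/
theorem exists_frobeniusKernel [Finite G] {H : Subgroup G} (hH : IsFrobeniusComplement H) :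
    ∃ K : Subgroup G, (K : Set G) = frobeniusKernel H ∧ K.Normal ∧ IsComplement' K H ∧ K ≠ ⊥ ∧
      (∀ h ∈ H, h ≠ 1 → K ⊓ centralizer {h} = ⊥) ∧ (Nat.card H).Coprime (Nat.card K) ∧
      (∀ k ∈ K, k ≠ 1 → centralizer {k} ≤ K) := by
  obtain ⟨K, h1, h2, h3⟩ := H4.frobenius_theorem H hH
  have h4 := H1.fpf_of_isFrobeniusComplement hH h3.disjoint
  refine ⟨K, h1, h2, h3, ?_, h4, H1.coprime_card_of_fpf le_normalizer_of_normal h4, ?_⟩
  · rintro rfl
    exact hH.2.1 (isComplement'_bot_left.mp h3)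
  · intro k hk hk1 y hy
    rw [← SetLike.mem_coe, h1] at hk ⊢
    exact mem_frobeniusKernel_of_commute hH hk hk1 (mem_cent.mp hy)

end Cfsg.Agent.H26
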