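import Cfsg.Agent.H1.ONS
import Cfsg.Agent.H4.Burnside
import Cfsg.Agent.H12.Lin
import Cfsg.Agent.S0713
import Cfsg.Agent.S0678
import Cfsg.Agent.S0998
import Cfsg.Agent.S0496
import Cfsg.Agent.S0495
import Cfsg.Agent.S0494
import Cfsg.Agent.S0991
import Cfsg.Agent.S0989
import Cfsg.Agent.S0990
import Cfsg.Agent.S2119
import Cfsg.Agent.S0255
import Cfsg.Agent.S0256

/-! Subgroups of `A₈` without solvable normal subgroups. -/

set_option autoImplicit false

namespace Cfsg.Agent.H26.A8

open Subgroup Equiv Equiv.Perm Cfsg.Agent.H2 Cfsg.Agent.H1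

theorem gl_equiv_psl (n : ℕ) : Nonempty (GL (Fin (n + 1)) (ZMod 2) ≃*
    Matrix.ProjectiveSpecialLinearGroup (Fin (n + 1)) (ZMod 2)) := by
  have hc : Subgroup.center (Matrix.SpecialLinearGroup (Fin (n + 1)) (ZMod 2)) = ⊥ := by
    rw [← Subgroup.card_eq_one, H12.card_center_SL]; simp
  refine ⟨(MulEquiv.ofBijective Matrix.SpecialLinearGroup.toGL
    ⟨Matrix.SpecialLinearGroup.toGL_injective, fun g => ⟨⟨g.1, ?_⟩, Units.ext rfl⟩⟩).symm.trans
    ((QuotientGroup.quotientMulEquivOfEq hc).trans QuotientGroup.quotientBot).symm⟩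
  have : ∀ x : ZMod 2, x ≠ 0 → x = 1 := by decide
  exact this _ g.det_ne_zero

theorem gl4 : Nonempty (GL (Fin 4) (ZMod 2) ≃* alternatingGroup (Fin 8)) :=
  ⟨(gl_equiv_psl 3).some.trans (S0256.result (ZMod.card 2)).some⟩

theorem card_a8 : Nat.card (alternatingGroup (Fin 8)) = 20160 := by
  rw [nat_card_alternatingGroup]; simp [Nat.factorial]

theorem no35 (g : Perm (Fin 8)) : orderOf g ≠ 35 := by
  intro h
  have key : ∀ p : ℕ, p.Prime → p ∣ 35 → ∃ m ∈ g.cycleType, p ∣ m := by
    intro p hp hd
    rw [← h, ← lcm_cycleType] at hd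
    revert hd
    induction g.cycleType using Multiset.induction_on with
    | empty => intro hd; exact absurd (Nat.dvd_one.1 hd) hp.ne_one
    | cons a s ih =>
      intro hd
      rw [Multiset.lcm_cons] at hd
      rcases (hp.dvd_mul).1 (hd.trans (lcm_dvd_mul _ _)) with h | h
      · exact ⟨a, by simp, h⟩
      · obtain ⟨m, hm, h⟩ := ih h
        exact ⟨m, by simp [hm], h⟩
  obtain ⟨a, ha, ha'⟩ := key 5 (by norm_num) (by norm_num)
  obtain ⟨b, hb, hb'⟩ := key 7 (by norm_num) (by norm_num)
  have hs : g.cycleType.sum ≤ 8 := by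
    rw [sum_cycleType]; simpa using g.support.card_le_univ
  have h1 := two_le_of_mem_cycleType ha
  have h2 := two_le_of_mem_cycleType hb
  obtain ⟨s, hs'⟩ := Multiset.exists_cons_of_mem ha
  rw [hs'] at hb hs
  rw [Multiset.sum_cons] at hs
  rcases Multiset.mem_cons.1 hb with rfl | hb
  · omega
  · have := Multiset.le_sum_of_mem hb; omega

theorem exists_three {α : Type*} [Fintype α] [DecidableEq α] (H : Subgroup (Perm α))
    (h3 : 3 ≤ Fintype.card α) (h : 3 ^ (Fintype.card α).factorial.factorization 3 ∣ Nat.card H) :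
    ∃ c ∈ H, IsThreeCycle c := by
  have := Fact.mk Nat.prime_three
  obtain ⟨K, hK⟩ := Sylow.exists_subgroup_card_pow_prime 3 h
  have hc : Nat.card (K.map H.subtype) = 3 ^ (Nat.card (Perm α)).factorization 3 := by
    rw [card_map_of_injective H.subtype_injective, hK, Nat.card_perm, Nat.card_eq_fintype_card]
  obtain ⟨c, hc3⟩ : ∃ c : Perm α, IsThreeCycle c := by
    obtain ⟨c, h⟩ := (exists_with_cycleType_iff α (m := {3})).2 (by simpa using h3)
    exact ⟨c, h⟩
  obtain ⟨Q, hQ⟩ := (IsPGroup.of_card (p := 3) (n := 1) (G := zpowers c)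
    (by rw [Nat.card_zpowers, hc3.orderOf]; rfl)).exists_le_sylow
  obtain ⟨g, hg⟩ := MulAction.exists_smul_eq (Perm α) Q (Sylow.ofCard _ hc)
  refine ⟨g * c * g⁻¹, map_subtype_le K ?_, by rw [IsThreeCycle, cycleType_conj]; exact hc3⟩
  have : g * c * g⁻¹ ∈ (g • Q : Sylow 3 (Perm α)) :=
    smul_mem_pointwise_smul c (MulAut.conj g) (Q : Subgroup (Perm α)) (hQ (mem_zpowers c))
  rwa [hg] at this

variable {G : Type*} [Group G]

theorem alt_or_perm {α : Type*} [Fintype α] [DecidableEq α] {n : ℕ} (hn : Fintype.card α = n)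
    (h2 : 2 ≤ n) (ψ : G →* Perm α) (hψ : Function.Injective ψ) (h : alternatingGroup α ≤ ψ.range) :
    Nonempty (G ≃* alternatingGroup (Fin n)) ∨ Nonempty (G ≃* Perm (Fin n)) := by
  have : Nontrivial α := Fintype.one_lt_card_iff_nontrivial.1 (by omega)
  let e := Fintype.equivFinOfCardEq hn
  have hd := index_dvd_of_le h
  rw [alternatingGroup.index_eq_two] at hd
  rcases (Nat.dvd_prime Nat.prime_two).1 hd with h1 | h1
  · right
    exact ⟨(MulEquiv.ofBijective ψ ⟨hψ, MonoidHom.range_eq_top.1 (index_eq_one.1 h1)⟩).trans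
      e.permCongrHom⟩
  · left
    exact ⟨((MonoidHom.ofInjective hψ).trans (MulEquiv.subgroupCongr
      (eq_alternatingGroup_of_index_eq_two h1))).trans e.altCongrHom⟩

theorem five_le_index {T : Type*} [Group T] [Finite T] [IsSimpleGroup T]
    (hT : ¬ Group.IsSolvable T) {U : Subgroup T} (hU : U ≠ ⊤) : 5 ≤ U.index := by
  by_contra h
  obtain ⟨f, hf⟩ := S0991.result (fun h => hT (Group.isSolvable_of_comm h.is_comm.comm)) U hU
  have h1 := card_dvd_of_injective ((alternatingGroup _).subtype.comp f)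
    ((subtype_injective _).comp hf)
  rw [Nat.card_perm, Nat.card_fin] at h1
  have h2 : Nat.card T ∣ 2 ^ 3 * 3 := h1.trans (Nat.factorial_dvd_factorial (n := 4) (by omega))
  refine hT (H4.isSolvable_of_forall_prime_dvd Nat.prime_two Nat.prime_three fun r hr hd => ?_)
  rcases (Nat.Prime.dvd_mul hr).1 (hd.trans h2) with h | h
  · exact .inl ((Nat.prime_dvd_prime_iff_eq hr Nat.prime_two).1 (hr.dvd_of_dvd_pow h))
  · exact .inr ((Nat.prime_dvd_prime_iff_eq hr Nat.prime_three).1 h)

theorem prime_dvd {r : ℕ} (hr : r.Prime) (h : r ∣ 20160) : r = 2 ∨ r = 3 ∨ r = 5 ∨ r = 7 := by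
  have := hr.two_le
  have h' : r ∣ 2 ^ 6 * (3 ^ 2 * (5 * 7)) := h
  simp only [hr.dvd_mul] at h'
  rcases h' with h | h | h | h
  · exact .inl ((Nat.prime_dvd_prime_iff_eq hr Nat.prime_two).1 (hr.dvd_of_dvd_pow h))
  · exact .inr (.inl ((Nat.prime_dvd_prime_iff_eq hr Nat.prime_three).1 (hr.dvd_of_dvd_pow h)))
  · exact .inr (.inr (.inl ((Nat.prime_dvd_prime_iff_eq hr (by norm_num)).1 h)))
  · exact .inr (.inr (.inr ((Nat.prime_dvd_prime_iff_eq hr (by norm_num)).1 h)))

/-- a nonsolvable group of order dividing `20160` misses at most one of the primes `2,3,5,7` -/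
theorem three_primes {T : Type*} [Group T] [Finite T] (hT : ¬ Group.IsSolvable T)
    (h : Nat.card T ∣ 20160) : (5 ∣ Nat.card T ∨ 7 ∣ Nat.card T) ∧
      (3 ∣ Nat.card T ∨ 7 ∣ Nat.card T) ∧ (3 ∣ Nat.card T ∨ 5 ∣ Nat.card T) := by
  refine ⟨?_, ?_, ?_⟩ <;> by_contra! hc
  · refine hT (H4.isSolvable_of_forall_prime_dvd Nat.prime_two Nat.prime_three fun r hr hd => ?_)
    rcases prime_dvd hr (hd.trans h) with rfl | rfl | rfl | rfl <;> tauto
  · refine hT (H4.isSolvable_of_forall_prime_dvd Nat.prime_two Nat.prime_five fun r hr hd => ?_)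
    rcases prime_dvd hr (hd.trans h) with rfl | rfl | rfl | rfl <;> tauto
  · refine hT (H4.isSolvable_of_forall_prime_dvd Nat.prime_two (q := 7) (by norm_num)
      fun r hr hd => ?_)
    rcases prime_dvd hr (hd.trans h) with rfl | rfl | rfl | rfl <;> tauto

variable [Finite G] (φ : G →* alternatingGroup (Fin 8)) (hφ : Function.Injective φ)
include hφ

theorem card_dvd : Nat.card G ∣ 20160 := card_a8 ▸ card_dvd_of_injective φ hφ

theorem inf_ne {A B : Subgroup G} (hA : ¬ Group.IsSolvable A) (hB : ¬ Group.IsSolvable B)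
    (h : A ≤ centralizer (B : Set G)) : A ⊓ B ≠ ⊥ := by
  intro hb
  have key : ∀ p q : ℕ, p.Prime → q.Prime → p ∣ Nat.card A → q ∣ Nat.card B →
      p * q ∣ 20160 ∧ (p ≠ q → ∃ g : G, orderOf g = p * q) := by
    intro p q hp hq h1 h2
    have := Fact.mk hp
    have := Fact.mk hq
    obtain ⟨a, ha⟩ := exists_prime_orderOf_dvd_card' p h1
    obtain ⟨b, hb'⟩ := exists_prime_orderOf_dvd_card' q h2
    have hc : ∀ (a : A) (b : B), Commute (A.subtype a) (B.subtype b) :=
      fun a b => (h a.2 b b.2).symm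
    refine ⟨(Nat.mul_dvd_mul h1 h2).trans ?_, fun hpq => ⟨a * b, ?_⟩⟩
    · rw [← Nat.card_prod]
      refine (card_dvd_of_injective (A.subtype.noncommCoprod B.subtype hc) ?_).trans
        (card_dvd φ hφ)
      rw [MonoidHom.noncommCoprod_injective]
      exact ⟨A.subtype_injective, B.subtype_injective, by simpa [disjoint_iff] using hb⟩
    · rw [← Subgroup.orderOf_coe] at ha hb'
      rw [Commute.orderOf_mul_eq_mul_orderOf_of_coprime (x := (a : G)) (y := b) (hc a b)
        (by simpa [ha, hb'] using (Nat.coprime_primes hp hq).2 hpq), ha, hb']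
  have n35 : ∀ g : G, orderOf g ≠ 35 := fun g h => no35 (φ g) (by
    rw [Subgroup.orderOf_coe, orderOf_injective φ hφ, h])
  rcases (three_primes hA ((card_subgroup_dvd_card A).trans (card_dvd φ hφ))).1 with h1 | h1 <;>
    rcases (three_primes hB ((card_subgroup_dvd_card B).trans (card_dvd φ hφ))).1 with h2 | h2
  · exact absurd (key _ _ (by norm_num) (by norm_num) h1 h2).1 (by norm_num)
  · obtain ⟨g, hg⟩ := (key _ _ (by norm_num) (by norm_num) h1 h2).2 (by norm_num); exact n35 g hg
  · obtain ⟨g, hg⟩ := (key _ _ (by norm_num) (by norm_num) h1 h2).2 (by norm_num); exact n35 g hg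
  · exact absurd (key _ _ (by norm_num) (by norm_num) h1 h2).1 (by norm_num)

theorem card_normalizer_seven [Fact (Nat.Prime 7)] (P : Sylow 7 G) (h : 7 ∣ Nat.card G) :
    Nat.card (normalizer ((P : Subgroup G) : Set G)) ∣ 21 := by
  have hP : Nat.card (P : Subgroup G) = 7 := by
    refine P.card_eq_multiplicity.trans ?_
    have h1 := (Nat.Prime.dvd_iff_one_le_factorization (by norm_num) Nat.card_pos.ne').1 h
    have h2 := (Nat.factorization_le_iff_dvd Nat.card_pos.ne' (by norm_num)).2 (card_dvd φ hφ) 7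
    have h3 : Nat.factorization 20160 7 = 1 := by decide +kernel
    rw [show (Nat.card G).factorization 7 = 1 by omega]; rfl
  have hc : Nat.card (((P : Subgroup G).map φ).map (alternatingGroup _).subtype) =
      7 ^ (Nat.card (Perm (Fin 8))).factorization 7 := by
    rw [card_map_of_injective (subtype_injective _), card_map_of_injective hφ, hP, Nat.card_perm,
      Nat.card_eq_fintype_card, Fintype.card_fin]
    decide +kernel
  have h1 := (S0990.result (by simp) 7 (by norm_num) (Sylow.ofCard _ hc)).2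
  rw [S0989.result 7 (by simp), Sylow.coe_ofCard, subgroupOf, comap_map_eq_self_of_injective
    (subtype_injective _)] at h1
  rw [← card_map_of_injective hφ, show 21 = Nat.card (normalizer
    (((P : Subgroup G).map φ : Subgroup _) : Set (alternatingGroup (Fin 8)))) by omega]
  exact card_dvd_of_le (le_normalizer_map φ)

variable (hR : ∀ N : Subgroup G, N.Normal → Group.IsSolvable N → N = ⊥)
include hR

theorem socle [Nontrivial G] : ∃ N : Subgroup G, N.Normal ∧ IsSimpleGroup N ∧
    ¬ Group.IsSolvable N ∧ ∀ K : Subgroup G, K.Normal → K ≠ ⊥ → N ≤ K := by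
  obtain ⟨N, hN⟩ := exists_isMinNormal (G := G)
  have ns : ∀ {N : Subgroup G}, IsMinNormal N → ¬ Group.IsSolvable N := fun h hs =>
    h.ne_bot (hR _ h.normal hs)
  obtain ⟨T, hT⟩ := exists_fac hN fun h => ns hN (Group.isSolvable_of_comm h.is_comm.comm)
  have e : T = N := by
    by_contra e
    obtain ⟨T', h1, h2⟩ := hT.exists_ne e
    exact inf_ne φ hφ h1.not_sol hT.not_sol (h1.cent hT h2) (h1.inf hT h2)
  subst e
  refine ⟨T, hN.normal, hT.simple, ns hN, fun K hK h0 => ?_⟩
  obtain ⟨M, hM, hMK⟩ := exists_isMinNormal_le hK h0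
  by_cases e : T = M
  · exact e ▸ hMK
  · have := hN.normal
    have := hM.normal
    have h3 := hN.inf_eq_bot_of_ne hM e
    refine absurd h3 (inf_ne φ hφ (ns hN) (ns hM) ?_)
    rw [← commutator_eq_bot_iff_le_centralizer, eq_bot_iff, ← h3]
    exact commutator_le_inf T M

theorem main [Nontrivial G] :
    (∃ n : ℕ, 5 ≤ n ∧ n ≤ 8 ∧ Nonempty (G ≃* alternatingGroup (Fin n))) ∨
    Nonempty (G ≃* Perm (Fin 5)) ∨ Nonempty (G ≃* Perm (Fin 6)) ∨
      Nonempty (G ≃* GL (Fin 3) (ZMod 2)) := by
  classical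
  obtain ⟨N, hNn, hNs, hN, huniq⟩ := socle φ hφ hR
  have hG : ¬ Group.IsSolvable G := fun h => hN inferInstance
  have hcard := card_dvd φ hφ
  have hNG := card_subgroup_dvd_card N
  have idx : ∀ U : Subgroup G, ¬ N ≤ U → 5 ≤ U.relIndex N := fun U h =>
    five_le_index hN (by rwa [Ne, subgroupOf_eq_top])
  have l32 : Nat.card G = 168 → IsSimpleGroup G → Nonempty (G ≃* GL (Fin 3) (ZMod 2)) := by
    intro h1 h2
    have := Fact.mk (show Nat.Prime 7 by norm_num)
    exact ⟨((S0495.result h1 (ZMod.card 7)).some.trans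
      (S0255.result (ZMod.card 7) (ZMod.card 2)).some).trans (gl_equiv_psl 2).some.symm⟩
  -- a faithful primitive action
  let φ' := (alternatingGroup _).subtype.comp φ
  obtain ⟨x, hx⟩ : ∃ x : Fin 8, ¬ N ≤ (MulAction.stabilizer (Perm (Fin 8)) x).comap φ' := by
    by_contra! h
    refine hN (by
      rw [(eq_bot_iff (a := N)).2 fun g hg => mem_bot.2 (hφ (Subtype.ext (Equiv.ext fun x => by
        rw [map_one]; exact h x hg)))]
      infer_instance)
  set U := (MulAction.stabilizer (Perm (Fin 8)) x).comap φ' with hU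
  have hU8 : U.index ≤ 8 := by
    rw [hU, index_comap]
    refine (relIndex_le_of_le_right le_top index_ne_zero_of_finite).trans ?_
    rw [relIndex_top_right, MulAction.index_stabilizer_of_transitive]; simp
  obtain ⟨M, hM, hUM⟩ := exists_isCoatom_ge (H := U) fun h => hx (h ▸ le_top)
  have hrel := relIndex_mul_index hUM
  have hNM : ¬ N ≤ M := by
    intro h
    have h1 := (idx U hx).trans (relIndex_le_of_le_right h index_ne_zero_of_finite)
    have h2 : M.index ≠ 1 := by rw [Ne, index_eq_one]; exact hM.1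
    have h3 : M.index ≠ 0 := index_ne_zero_of_finite
    nlinarith [show 2 ≤ M.index by omega]
  have h5 : 5 ≤ M.index := (idx M hNM).trans
    ((relIndex_le_of_le_right le_top index_ne_zero_of_finite).trans (relIndex_top_right M).le)
  have h8 : M.index ≤ 8 := (Nat.le_of_dvd (Nat.pos_of_ne_zero index_ne_zero_of_finite)
    (index_dvd_of_le hUM)).trans hU8
  let := Fintype.ofFinite (G ⧸ M)
  have hn : Fintype.card (G ⧸ M) = M.index := Nat.card_eq_fintype_card.symm
  let ψ := MulAction.toPermHom G (G ⧸ M)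
  have hψ : Function.Injective ψ := by
    rw [← MonoidHom.ker_eq_bot_iff, ← normalCore_eq_ker]
    by_contra h
    exact hNM ((huniq _ inferInstance h).trans M.normalCore_le)
  have : Nontrivial (G ⧸ M) := Fintype.one_lt_card_iff_nontrivial.1 (by omega)
  have hp : MulAction.IsPreprimitive G (G ⧸ M) :=
    (MulAction.isCoatom_stabilizer_iff_preprimitive G ((1 : G) : G ⧸ M)).1
      (by rwa [MulAction.stabilizer_quotient])
  have hp' : MulAction.IsPreprimitive ψ.range (G ⧸ M) :=
    MulAction.IsPreprimitive.of_surjective (φ := ψ.rangeRestrict)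
      (f := ⟨id, fun _ _ => rfl⟩) Function.surjective_id
  have hcr : Nat.card ψ.range = Nat.card G := (Nat.card_congr (MonoidHom.ofInjective hψ).toEquiv).symm
  have hfac : Nat.card G ∣ M.index.factorial := by
    have := card_dvd_of_injective ψ hψ
    rwa [Nat.card_perm] at this
  by_cases hA : alternatingGroup (G ⧸ M) ≤ ψ.range
  · rcases alt_or_perm hn (by omega) ψ hψ hA with h | ⟨⟨e⟩⟩
    · exact .inl ⟨_, h5, h8, h⟩
    · have hc := Nat.card_congr e.toEquiv
      rw [Nat.card_perm, Nat.card_fin] at hc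
      generalize M.index = n at *
      interval_cases n
      · exact .inr (.inl ⟨e⟩)
      · exact .inr (.inr (.inl ⟨e⟩))
      · exfalso
        have h1 := φ.range.card_mul_index
        rw [card_a8, ← Nat.card_congr (MonoidHom.ofInjective hφ).toEquiv, hc] at h1
        have : IsSimpleGroup (alternatingGroup (Fin 8)) := alternatingGroup.isSimpleGroup (by simp)
        have h2 := five_le_index (T := alternatingGroup (Fin 8)) (U := φ.range)
          (fun h => hG (Group.isSolvable_of_isSolvable_injective hφ)) (by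
            intro h; rw [h, index_top] at h1; simp [Nat.factorial] at h1)
        simp only [Nat.factorial] at h1
        omega
      · rw [hc] at hcard; exact absurd hcard (by decide)
  have h3 : ¬ 3 ^ M.index.factorial.factorization 3 ∣ Nat.card G := fun h => by
    obtain ⟨c, h1, h2⟩ := exists_three ψ.range (by omega) (by rwa [hn, hcr])
    exact hA (alternatingGroup_le_of_isPreprimitive_of_isThreeCycle_mem hp' h2 h1)
  have f5 : (5 : ℕ).factorial.factorization 3 = 1 := by decide +kernel
  have f6 : (6 : ℕ).factorial.factorization 3 = 2 := by decide +kernel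
  have f8 : (8 : ℕ).factorial.factorization 3 = 2 := by decide +kernel
  have hNc : ¬ IsMulCommutative N := fun h => hN (Group.isSolvable_of_comm h.is_comm.comm)
  have div : ∀ {a m : ℕ}, a ∣ 9 * m → ¬ 9 ∣ a → m.Coprime 3 → a ∣ 3 * m := by
    intro a m h1 h2 h3
    obtain ⟨u, v, hu, hv, rfl⟩ := (Nat.dvd_mul).1 h1
    refine Nat.mul_dvd_mul ?_ hv
    have : u ≤ 9 := Nat.le_of_dvd (by norm_num) hu
    interval_cases u <;> simp_all
  rcases (show M.index = 5 ∨ M.index = 6 ∨ M.index = 7 ∨ M.index = 8 by omega) with h | h | h | h <;>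
    rw [h] at hfac h3 hn
  · rw [f5] at h3
    rcases (three_primes hG hcard).2.1 with h | h
    · exact absurd h h3
    · exact absurd (h.trans hfac) (by decide)
  · rw [f6] at h3
    have h1 : Nat.card G ∣ 3 * 80 := div hfac h3 (by norm_num)
    have h2 : Nat.card N = 60 := by
      have h2 := hNG.trans h1
      have h4 := Nat.le_of_dvd (by norm_num) h2
      rcases S0496.result hNc (by omega) with h | h | h | h | h | h <;> rw [h] at h2 <;> omega
    obtain ⟨e⟩ := S0494.result h2
    let χ : G →* Perm (Fin 5) := ((MulEquiv.ofBijective _ (S2119.result 5 (by norm_num)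
      (by norm_num))).symm.toMonoidHom.comp (MulAut.congr e).toMonoidHom).comp MulAut.conjNormal
    have hχ : Function.Injective χ := by
      suffices h : Function.Injective (MulAut.conjNormal : G →* MulAut N) from
        fun a b hab => h ((MulAut.congr e).injective ((MulEquiv.ofBijective _ (S2119.result 5
          (by norm_num) (by norm_num))).symm.injective hab))
      rw [← MonoidHom.ker_eq_bot_iff]
      by_contra h
      refine hNc ⟨⟨fun a b => ?_⟩⟩
      have h5 : MulAut.conjNormal (a : G) b = b := by rw [huniq _ inferInstance h a.2]; rfl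
      have h6 := congrArg Subtype.val h5
      rw [MulAut.conjNormal_apply, mul_inv_eq_iff_eq_mul] at h6
      exact Subtype.ext h6
    have h4 := χ.range.card_mul_index
    rw [← Nat.card_congr (MonoidHom.ofInjective hχ).toEquiv, Nat.card_perm, Nat.card_fin] at h4
    have h6 := Nat.le_of_dvd Nat.card_pos hNG
    rcases alt_or_perm (Fintype.card_fin 5) (by norm_num) χ hχ
      (alternatingGroup_le_of_index_le_two (by simp only [Nat.factorial] at h4; nlinarith)) with h | h
    · exact .inl ⟨5, le_rfl, by norm_num, h⟩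
    · exact .inr (.inl h)
  · obtain ⟨h1, h2⟩ := S0678.result hn ψ.range (fun h => hG (Group.isSolvable_of_isSolvable_injective
      (f := (MonoidHom.ofInjective hψ).toMonoidHom) (MulEquiv.injective _))) hA
    exact .inr (.inr (.inr (l32 (hcr ▸ h1) (MonoidHom.ofInjective hψ).isSimpleGroup)))
  · rw [f8] at h3
    have := Fact.mk Nat.prime_five
    have := Fact.mk (show Nat.Prime 7 by norm_num)
    have h5 : ¬ 5 ∣ Nat.card G := fun h => by
      obtain ⟨g, hg⟩ := exists_prime_orderOf_dvd_card' (G := ψ.range) 5 (hcr ▸ h)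
      rw [← Subgroup.orderOf_coe] at hg
      have hc := isCycle_of_prime_order' (σ := g.1) (hg ▸ Nat.prime_five) (by omega)
      exact hA (S0713.result _ hp' Nat.prime_five (by omega) (by omega) hc
        (hc.orderOf.symm.trans hg) g.2)
    have h1 : Nat.card G ∣ 3 * 7 * 2 ^ 6 := (Nat.Coprime.dvd_of_dvd_mul_left
      ((Nat.Prime.coprime_iff_not_dvd Nat.prime_five).2 h5).symm
      (div (m := 2240) hcard h3 (by norm_num) : _ ∣ 5 * (3 * 7 * 2 ^ 6)))
    have h5' : ¬ 5 ∣ Nat.card N := fun h => h5 (h.trans hNG)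
    obtain ⟨a1, -, a2⟩ := three_primes hN (hNG.trans hcard)
    have a3 : 3 * 7 ∣ Nat.card N :=
      Nat.Coprime.mul_dvd_of_dvd_of_dvd (by norm_num) (by tauto) (by tauto)
    obtain ⟨k, hk⟩ := a3
    obtain ⟨b, -, rfl⟩ := (Nat.dvd_prime_pow Nat.prime_two).1
      (Nat.dvd_of_mul_dvd_mul_left (by norm_num) (hk ▸ hNG.trans h1))
    have h168 : Nat.card N = 168 := by
      rcases S0998.result (G := N) (fun h => hNc inferInstance) 3 2 7 b (by norm_num) (by norm_num)
        (by norm_num) (by norm_num) (by norm_num) (by norm_num) hk with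
        ⟨F, _, _, hF, ⟨e⟩⟩ | ⟨F, _, _, hF, ⟨e⟩⟩
      · have := H12.card_PSL2 hF
        rw [← Nat.card_congr e.toEquiv] at this
        norm_num at this; omega
      · have := H12.card_PSL2 hF
        rw [← Nat.card_congr e.toEquiv] at this
        norm_num at this; omega
    obtain ⟨P⟩ := (inferInstance : Nonempty (Sylow 7 G))
    have hi := N.card_mul_index
    have hi8 : N.index ∣ 8 := by
      rw [← hi, h168] at h1
      exact Nat.dvd_of_mul_dvd_mul_left (by norm_num : 0 < 168) h1
    have hPN : (P : Subgroup G) ≤ N := by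
      rw [← relIndex_eq_one]
      obtain ⟨j, hj⟩ := P.isPGroup'.index (N.subgroupOf P)
      exact Nat.eq_one_of_dvd_coprimes (Nat.Coprime.pow_left j (show Nat.Coprime 7 8 by norm_num))
        (hj ▸ dvd_rfl) ((relIndex_dvd_index_of_normal N P).trans hi8)
    have h21 := card_normalizer_seven φ hφ P (dvd_trans (h168 ▸ by norm_num) hNG)
    have hi21 : N.index ∣ 21 := by
      rw [← relIndex_top_right, ← P.normalizer_sup_eq_top' hPN, relIndex_sup_right]
      exact (index_dvd_card _).trans h21
    have h1' : N.index = 1 := Nat.eq_one_of_dvd_coprimes (by norm_num) hi8 hi21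
    rw [h1', mul_one] at hi
    rw [index_eq_one] at h1'
    subst h1'
    exact .inr (.inr (.inr (l32 (hi ▸ h168) topEquiv.symm.isSimpleGroup)))

end Cfsg.Agent.H26.A8
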