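import Cfsg.Agent.H26.PElt
import Cfsg.Agent.H2.Basic

/-! Frobenius' theorem on the number of solutions of `x ^ n ∈ C`. -/

set_option autoImplicit false

namespace Cfsg.Agent.H26
open Subgroup
universe u

variable {G : Type*} [Group G]

theorem dvd_card_of_fiber {α β : Type*} [Finite α] [Finite β] (f : α → β) (n : ℕ)
    (h : ∀ a, n ∣ Nat.card {x // f x = f a}) : n ∣ Nat.card α := by
  classical
  have := Fintype.ofFinite β
  rw [← Nat.card_congr (Equiv.sigmaFiberEquiv f), Nat.card_sigma]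
  refine Finset.dvd_sum fun b _ => ?_
  by_cases hb : ∃ a, f a = b
  · obtain ⟨a, rfl⟩ := hb
    exact h a
  · have : IsEmpty {x // f x = b} := ⟨fun x => hb ⟨x.1, x.2⟩⟩
    simp

theorem card_isConj_pow [Finite G] (c : G) (n : ℕ) : Nat.card {x : G // IsConj c (x ^ n)} =
    (centralizer ({c} : Set G)).index * Nat.card {x : G // x ^ n = c} := by
  rw [index_cent_eq_ncard, ← Nat.card_coe_set_eq]
  refine card_eq_mul_of_fiber (fun x : {x : G // IsConj c (x ^ n)} =>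
    (⟨x.1 ^ n, x.2⟩ : {z | IsConj c z})) _ ?_
  rintro ⟨y, hy⟩
  obtain ⟨g, rfl⟩ := isConj_iff.mp hy
  refine (Nat.card_eq_of_bijective (fun x => ⟨⟨g * x.1 * g⁻¹, by rw [conj_pow, x.2]; exact hy⟩,
    Subtype.ext (by simp only [conj_pow, x.2])⟩) ⟨?_, ?_⟩).symm
  · intro a b h
    have : g * a.1 * g⁻¹ = g * b.1 * g⁻¹ := congrArg (fun t => t.1.1) h
    exact Subtype.ext (by simpa using this)
  · rintro ⟨⟨x, hx⟩, h⟩
    have h1 : x ^ n = g * c * g⁻¹ := congrArg Subtype.val h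
    refine ⟨⟨g⁻¹ * x * g⁻¹⁻¹, by rw [conj_pow, h1]; group⟩, Subtype.ext (Subtype.ext ?_)⟩
    simp [mul_assoc]

theorem card_pow_eq_centralizer (c : G) (n : ℕ) : Nat.card {x : G // x ^ n = c} =
    Nat.card {x : centralizer ({c} : Set G) // IsConj ⟨c, mem_cent_self c⟩ (x ^ n)} := by
  refine (Nat.card_eq_of_bijective (fun x => ⟨x.1.1, ?_⟩) ⟨?_, ?_⟩).symm
  rotate_right
  · obtain ⟨g, hg⟩ := isConj_iff.mp x.2
    have := congrArg Subtype.val hg
    simp only [coe_mul, coe_inv, coe_pow] at this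
    rw [← this, mem_cent.mp g.2, mul_inv_cancel_right]
  · intro a b h
    exact Subtype.ext (Subtype.ext (congrArg (fun t => t.1) h))
  · rintro ⟨x, rfl⟩
    exact ⟨⟨⟨x, mem_cent.mpr (Commute.self_pow x n)⟩, IsConj.refl _⟩, rfl⟩

theorem orderOf_eq_of_pow_eq [Finite G] {p e : ℕ} (hp : p.Prime) {x : G}
    (h : p ∣ orderOf (x ^ p ^ e)) : orderOf x = p ^ e * orderOf (x ^ p ^ e) := by
  have h1 := orderOf_pow (n := p ^ e) x
  obtain ⟨j, hj, h2⟩ := (Nat.dvd_prime_pow hp).mp (Nat.gcd_dvd_right (orderOf x) (p ^ e))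
  have h3 : orderOf x = p ^ j * orderOf (x ^ p ^ e) := by
    rw [h1, ← h2, Nat.mul_div_cancel' (Nat.gcd_dvd_left _ _)]
  rcases hj.eq_or_lt with rfl | hj
  · exact h3
  · exfalso
    have h4 : p ^ (j + 1) ∣ p ^ j := by
      rw [← h2]
      refine Nat.dvd_gcd ?_ (pow_dvd_pow p hj)
      rw [h3, pow_succ]
      exact Nat.mul_dvd_mul_left _ h
    have := (Nat.pow_dvd_pow_iff_le_right hp.one_lt).mp h4
    omega

open scoped IsMulCommutative in
theorem pow_dvd_card_pow_eq [Finite G] {p : ℕ} (hp : p.Prime) (e : ℕ) {c : G} (h : p ∣ orderOf c) :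
    p ^ e ∣ Nat.card {x : G // x ^ p ^ e = c} := by
  refine dvd_card_of_fiber (fun x => zpowers x.1) _ ?_
  rintro ⟨x, rfl⟩
  have h1 := IsCyclic.card_powMonoidHom_ker (zpowers x) (p ^ e)
  rw [Nat.card_zpowers, Nat.gcd_eq_right (Dvd.intro _ (orderOf_eq_of_pow_eq hp h).symm)] at h1
  have h2 : ∀ z : (powMonoidHom (p ^ e) : zpowers x →* zpowers x).ker, (x * z.1.1) ^ p ^ e = x ^ p ^ e := by
    intro z
    have : z.1.1 ^ p ^ e = 1 := congrArg Subtype.val z.2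
    rw [(commute_of_mem_zpowers (mem_zpowers x) z.1.2).mul_pow, this, mul_one]
  refine h1.symm.dvd.trans (Nat.card_eq_of_bijective (fun z => ⟨⟨x * z.1.1, h2 z⟩, ?_⟩) ⟨?_, ?_⟩).dvd
  rotate_right
  · refine eq_of_le_of_card_ge (zpowers_le.mpr (mul_mem (mem_zpowers x) z.1.2)) ?_
    rw [Nat.card_zpowers, Nat.card_zpowers, orderOf_eq_of_pow_eq hp h,
      orderOf_eq_of_pow_eq (e := e) (x := x * z.1.1) hp (by rwa [h2]), h2]
  · intro a b hab
    have : x * a.1.1 = x * b.1.1 := congrArg (fun t => t.1.1) hab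
    exact Subtype.ext (Subtype.ext (mul_left_cancel this))
  · rintro ⟨⟨y, hy⟩, h3⟩
    have h4 : y ∈ zpowers x := h3.le (mem_zpowers y)
    refine ⟨⟨⟨x⁻¹ * y, mul_mem (inv_mem (mem_zpowers x)) h4⟩, Subtype.ext ?_⟩, Subtype.ext (Subtype.ext ?_)⟩
    · change (x⁻¹ * y) ^ p ^ e = 1
      rw [(commute_of_mem_zpowers (inv_mem (mem_zpowers x)) h4).mul_pow, hy, inv_pow, inv_mul_cancel]
    · simp

theorem gcd_dvd_card_isConj_prime_pow {p : ℕ} (hp : p.Prime) (e : ℕ) (G : Type u) [Group G] [Finite G] :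
    ∀ c : G, Nat.gcd (p ^ e) (Nat.card G) ∣ Nat.card {x : G // IsConj c (x ^ p ^ e)} := by
  refine H2.card_induction (P := fun G _ _ =>
    ∀ c : G, Nat.gcd (p ^ e) (Nat.card G) ∣ Nat.card {x : G // IsConj c (x ^ p ^ e)}) ?_ G
  intro G _ _ ih
  have := Fact.mk hp
  have h1 : ∀ c : G, ¬ (c ∈ center G ∧ ¬ p ∣ orderOf c) →
      Nat.gcd (p ^ e) (Nat.card G) ∣ Nat.card {x : G // IsConj c (x ^ p ^ e)} := by
    intro c hc
    rw [card_isConj_pow]
    by_cases hd : p ∣ orderOf c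
    · exact (Nat.gcd_dvd_left _ _).trans ((pow_dvd_card_pow_eq hp e hd).mul_left _)
    have h2 := ih _ (H1.card_lt_of_ne_top (mt cent_eq_top_iff.mp fun h => hc ⟨h, hd⟩))
      ⟨c, mem_cent_self c⟩
    rw [card_pow_eq_centralizer]
    refine dvd_trans ?_ (Nat.mul_dvd_mul_left _ h2)
    rw [← Nat.gcd_mul_left, index_mul_card]
    exact Nat.gcd_dvd_gcd_of_dvd_left _ (dvd_mul_left _ _)
  intro c
  by_cases hc : c ∈ center G ∧ ¬ p ∣ orderOf c
  swap
  · exact h1 c hc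
  let B : Subgroup G :=
    { carrier := {z | z ∈ center G ∧ ¬ p ∣ orderOf z}
      one_mem' := ⟨one_mem _, by simpa using hp.one_lt.ne'⟩
      mul_mem' := fun {a b} ha hb => ⟨mul_mem ha.1 hb.1, fun h => by
        have := h.trans (Commute.orderOf_mul_dvd_mul_orderOf (mem_center_iff.mp hb.1 a))
        exact (hp.dvd_mul.mp this).elim ha.2 hb.2⟩
      inv_mem' := fun ha => ⟨inv_mem ha.1, by simpa using ha.2⟩ }
  have hB : (Nat.card B).Coprime p := by
    rw [Nat.coprime_comm, hp.coprime_iff_not_dvd]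
    intro h
    obtain ⟨z, hz⟩ := exists_prime_orderOf_dvd_card' p h
    exact z.2.2 (by rw [orderOf_coe, hz])
  have h2 : Nat.card {x : G // x ^ p ^ e ∈ B} = Nat.card B * Nat.card {x : G // x ^ p ^ e = c} := by
    refine card_eq_mul_of_fiber (fun x : {x : G // x ^ p ^ e ∈ B} => (⟨_, x.2⟩ : B)) _ fun d => ?_
    obtain ⟨y, hy⟩ := (powCoprime (hB.pow_right e)).surjective ((⟨c, hc⟩ : B)⁻¹ * d)
    have h3 : (y : G) ^ p ^ e = c⁻¹ * d := congrArg Subtype.val hy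
    have h4 : ∀ x : G, (x * y) ^ p ^ e = x ^ p ^ e * (c⁻¹ * d) := fun x => by
      rw [Commute.mul_pow (mem_center_iff.mp y.2.1 x), h3]
    refine (Nat.card_eq_of_bijective (fun x => ⟨⟨x.1 * y, by
      rw [h4, x.2, mul_inv_cancel_left]; exact d.2⟩, Subtype.ext (by
        simp only [h4, x.2, mul_inv_cancel_left])⟩) ⟨?_, ?_⟩).symm
    · intro a b h
      have : a.1 * y = b.1 * y := congrArg (fun t => t.1.1) h
      exact Subtype.ext (mul_right_cancel this)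
    · rintro ⟨⟨x, hx⟩, h⟩
      have h5 : x ^ p ^ e = d := congrArg Subtype.val h
      refine ⟨⟨x * (y : G)⁻¹, ?_⟩, Subtype.ext (Subtype.ext (by simp))⟩
      have := h4 (x * (y : G)⁻¹)
      rw [inv_mul_cancel_right, h5, ← mul_assoc, eq_comm, mul_eq_right, mul_inv_eq_one] at this
      exact this
  have h3 : Nat.gcd (p ^ e) (Nat.card G) ∣ Nat.card {x : G // ¬ x ^ p ^ e ∈ B} := by
    refine dvd_card_of_fiber (fun x => ConjClasses.mk (x.1 ^ p ^ e)) _ ?_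
    rintro ⟨x, hx⟩
    refine (h1 _ hx).trans (Nat.card_eq_of_bijective (fun y => ⟨⟨y.1, fun h => hx ?_⟩,
      ConjClasses.mk_eq_mk_iff_isConj.mpr y.2.symm⟩) ⟨?_, ?_⟩).dvd
    rotate_right
    · obtain ⟨g, hg⟩ := isConj_iff.mp y.2.symm
      rw [← hg, mem_center_iff.mp h.1 g, mul_inv_cancel_right]
      exact h
    · intro a b h
      exact Subtype.ext (congrArg (fun t => t.1.1) h)
    · rintro ⟨⟨y, hy⟩, h⟩
      exact ⟨⟨y, (ConjClasses.mk_eq_mk_iff_isConj.mp h).symm⟩, rfl⟩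
  have h4 : Nat.card G = Nat.card {x : G // x ^ p ^ e ∈ B} + Nat.card {x : G // ¬ x ^ p ^ e ∈ B} := by
    classical
    rw [← Nat.card_sum, Nat.card_congr (Equiv.sumCompl _)]
  have h5 := Nat.gcd_dvd_right (p ^ e) (Nat.card G)
  nth_rewrite 2 [h4] at h5
  have h6 := (Nat.dvd_add_left h3).mp h5
  rw [h2] at h6
  rw [card_isConj_pow]
  exact (((hB.pow_right e).symm.coprime_dvd_left (Nat.gcd_dvd_left _ _)).dvd_of_dvd_mul_left h6).mul_left _

theorem gcd_dvd_card_isConj_pow [Finite G] (c : G) (n : ℕ) :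
    Nat.gcd n (Nat.card G) ∣ Nat.card {x : G // IsConj c (x ^ n)} := by
  rw [Nat.dvd_iff_prime_pow_dvd_dvd]
  intro p k hp h
  obtain ⟨m, rfl⟩ := h.trans (Nat.gcd_dvd_left _ _)
  refine dvd_card_of_fiber (fun x => ConjClasses.mk (x.1 ^ p ^ k)) _ ?_
  rintro ⟨x, hx⟩
  have h1 := gcd_dvd_card_isConj_prime_pow hp k G (x ^ p ^ k)
  rw [Nat.gcd_eq_left (h.trans (Nat.gcd_dvd_right _ _))] at h1
  refine h1.trans (Nat.card_eq_of_bijective (fun y => ⟨⟨y.1, hx.trans ?_⟩,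
    ConjClasses.mk_eq_mk_iff_isConj.mpr y.2.symm⟩) ⟨?_, ?_⟩).dvd
  rotate_right
  · rw [pow_mul, pow_mul]
    exact y.2.pow m
  · intro a b h
    exact Subtype.ext (congrArg (fun t => t.1.1) h)
  · rintro ⟨⟨y, hy⟩, h⟩
    exact ⟨⟨y, (ConjClasses.mk_eq_mk_iff_isConj.mp h).symm⟩, rfl⟩

theorem gcd_dvd_card_pow_eq_one [Finite G] (n : ℕ) :
    Nat.gcd n (Nat.card G) ∣ Nat.card {x : G // x ^ n = 1} := by
  have := gcd_dvd_card_isConj_pow (1 : G) n
  simpa only [isConj_one_right] using this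

theorem dvd_card_pow_eq_one [Finite G] {n : ℕ} (h : n ∣ Nat.card G) :
    n ∣ Nat.card {x : G // x ^ n = 1} := by
  have := gcd_dvd_card_pow_eq_one (G := G) n
  rwa [Nat.gcd_eq_left h] at this

end Cfsg.Agent.H26
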