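import Cfsg.Agent.H26.Orb2
import Cfsg.Agent.H26.PElt
import Cfsg.Agent.H1.Cores
import Cfsg.Agent.H1.Frattini
import Cfsg.Agent.H3.PNil

/-! Elements of prime power index; `q`-Baer groups. -/

set_option autoImplicit false

namespace Cfsg.Agent.H26

open Subgroup
open scoped commutatorElement Pointwise

universe u

variable {G : Type u} [Group G] [Finite G]

theorem exists_mul_of_coprime_index {A B : Subgroup G} (h : A.index.Coprime B.index) (g : G) :
    ∃ x ∈ A, ∃ y ∈ B, x * y = g :=
  H1.exists_mul_of_coprime_relIndex (K := ⊤) le_top le_top (by rwa [relIndex_top_right, relIndex_top_right]) (mem_top g)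

theorem index_inf_of_coprime {A B : Subgroup G} (h : A.index.Coprime B.index) : (A ⊓ B).index = A.index * B.index :=
  le_antisymm index_inf_le (Nat.le_of_dvd (Nat.pos_of_ne_zero FiniteIndex.index_ne_zero)
    (h.mul_dvd_of_dvd_of_dvd (index_dvd_of_le inf_le_left) (index_dvd_of_le inf_le_right)))

theorem normalClosure_singleton_le {x : G} {K : Subgroup G} (h : ∀ g : G, g * x * g⁻¹ ∈ K) :
    normalClosure ({x} : Set G) ≤ K := by
  rw [normalClosure, closure_le]
  intro y hy
  obtain ⟨z, hz, hc⟩ := Group.mem_conjugatesOfSet_iff.1 hy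
  obtain ⟨g, rfl⟩ := isConj_iff.1 hc
  rw [Set.mem_singleton_iff.1 hz]
  exact h g

theorem mem_pCore_of_index_pow {q : ℕ} [hq : Fact q.Prime] {x : G} (hx : ∃ k, orderOf x = q ^ k) {a : ℕ}
    (ha : (centralizer ({x} : Set G)).index = q ^ a) : x ∈ pCore q G := by
  obtain ⟨Q, hQ⟩ := pElt_iff_exists_sylow.1 hx
  have : normalClosure ({x} : Set G) ≤ Q := normalClosure_singleton_le fun g => by
    obtain ⟨y, hy, c, hc, rfl⟩ := exists_mul_of_coprime_index (A := (Q : Subgroup G)) (B := centralizer ({x} : Set G))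
      (by rw [ha]; exact ((hq.out.coprime_iff_not_dvd.2 Q.not_dvd_index).symm.pow_right a)) g
    have : y * c * x * (y * c)⁻¹ = y * x * y⁻¹ := by rw [mul_assoc y, mem_cent.1 hc]; group
    rw [this]
    exact mul_mem (mul_mem hy hQ) (inv_mem hy)
  exact H1.le_pCore (Q.isPGroup'.to_le this) (subset_normalClosure rfl)

theorem le_cent_of_coprime {N : Subgroup G} [N.Normal] {x : G}
    (h : (Nat.card N).Coprime (centralizer ({x} : Set G)).index) : N ≤ centralizer ({x} : Set G) := by
  rw [← relIndex_eq_one]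
  exact Nat.eq_one_of_dvd_coprimes h (relIndex_dvd_card _ _) (H25.relIndex_dvd_index_of_normal_right _ _)

theorem mem_fitting_of_index_pow {p a : ℕ} [hp : Fact p.Prime] (h : pCore p G = ⊥) {x : G}
    (ha : (centralizer ({x} : Set G)).index = p ^ a) :
    x ∈ fittingSubgroup G ∧ fittingSubgroup G ≤ centralizer ({x} : Set G) := by
  have h1 : fittingSubgroup G ≤ centralizer ({x} : Set G) := le_cent_of_coprime (by
    have := H1.not_dvd_relIndex_pCore_fittingSubgroup (G := G) p
    rw [h, relIndex_bot_left] at this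
    rw [ha]
    exact (hp.out.coprime_iff_not_dvd.2 this).symm.pow_right a)
  refine ⟨H1.le_fittingSubgroup_of_le_centralizer (H25.kazarin x hp.out ha) ?_ (subset_normalClosure rfl), h1⟩
  exact normalClosure_le_normal (Set.singleton_subset_iff.2 (le_cent_iff.1 h1))

theorem two_prime_index {q p r s a b c : ℕ} [hq : Fact q.Prime] (hp : p.Prime) (hr : r.Prime) (hs : s.Prime) (hpr : p ≠ r)
    {x y : G} (hy : ∃ k, orderOf y = q ^ k) (ha : (centralizer ({x} : Set G)).index = p ^ a)
    (hb : (centralizer ({y} : Set G)).index = r ^ b) (hc : (centralizer ({x * y} : Set G)).index = s ^ c)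
    (hlt : r ^ b < p ^ a) (hyc : y ∉ center G) : p = q ∧ y ∈ pCore q G := by
  haveI := Fact.mk hp
  have hcop : (p ^ a).Coprime (r ^ b) := Nat.coprime_pow_primes a b hp hr hpr
  have hconj : ∀ x' y', IsConj x x' → IsConj y y' → IsConj (x * y) (x' * y') := by
    intro x' y' h1 h2
    obtain ⟨g, rfl⟩ := isConj_iff.1 h1
    obtain ⟨k, rfl⟩ := isConj_iff.1 h2
    obtain ⟨d, hd, e, he, hde⟩ := exists_mul_of_coprime_index (A := centralizer ({y} : Set G))
      (B := centralizer ({x} : Set G)) (by rw [ha, hb]; exact hcop.symm) (k⁻¹ * g)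
    refine isConj_iff.2 ⟨k * d, ?_⟩
    have h3 : g = k * d * e := by rw [mul_assoc, hde]; group
    have h4 : e * x * e⁻¹ = x := by rw [mem_cent.1 he]; group
    have h5 : d * y * d⁻¹ = y := by rw [mem_cent.1 hd]; group
    calc k * d * (x * y) * (k * d)⁻¹ = k * d * (e * x * e⁻¹) * d⁻¹ * (d * y * d⁻¹) * k⁻¹ := by rw [h4]; group
      _ = _ := by rw [h5, h3]; group
  set X := {z | IsConj x z} with hX
  set Z := {z | IsConj (x * y) z} with hZ
  have cX : X.ncard = p ^ a := by rw [← ha, index_cent_eq_ncard]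
  have cZ : Z.ncard = s ^ c := by rw [← hc, index_cent_eq_ncard]
  have hsub : ∀ y', IsConj y y' → (· * y') '' X ⊆ Z := by
    rintro y' h _ ⟨x', hx', rfl⟩
    exact hconj x' y' hx' h
  have himg : ∀ y' : G, ((· * y') '' X).ncard = p ^ a := fun y' => by
    rw [Set.ncard_image_of_injective _ (mul_left_injective y'), cX]
  have hle : p ^ a ≤ s ^ c := by
    rw [← himg y, ← cZ]
    exact Set.ncard_le_ncard (hsub y (IsConj.refl y))
  have hdvd : s ^ c ∣ p ^ a * r ^ b := by
    rw [← ha, ← hb, ← hc, ← index_inf_of_coprime (by rw [ha, hb]; exact hcop)]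
    apply index_dvd_of_le
    intro g hg
    rw [mem_cent, ← mul_assoc, mem_cent.1 hg.1, mul_assoc, mem_cent.1 hg.2, mul_assoc]
  have hge : s ^ c ≤ p ^ a := by
    by_cases hsr : s = r
    · exfalso
      subst hsr
      have := Nat.le_of_dvd (pow_pos hs.pos b)
        ((Nat.coprime_pow_primes c a hs hp hpr.symm).dvd_of_dvd_mul_left hdvd)
      omega
    · exact Nat.le_of_dvd (pow_pos hp.pos a) ((Nat.coprime_pow_primes c b hs hr hsr).dvd_of_dvd_mul_right hdvd)
  have heq : ∀ y', IsConj y y' → (· * y') '' X = Z := fun y' h =>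
    Set.eq_of_subset_of_ncard_le (hsub y' h) (by rw [himg, cZ]; exact hge)
  let N : Subgroup G :=
    { carrier := {n | ∀ x', x' ∈ X ↔ x' * n ∈ X}
      mul_mem' := fun {m n} hm hn x' => by rw [hm x', hn, mul_assoc]
      one_mem' := fun x' => by rw [mul_one]
      inv_mem' := fun {n} hn x' => by rw [hn (x' * n⁻¹), inv_mul_cancel_right] }
  have hXc : ∀ g z, g * z * g⁻¹ ∈ X ↔ z ∈ X := fun g z =>
    ⟨fun h => IsConj.trans h (isConj_iff.2 ⟨g, rfl⟩).symm, fun h => IsConj.trans h (isConj_iff.2 ⟨g, rfl⟩)⟩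
  haveI hNn : N.Normal := ⟨fun n hn g x' => by
    rw [← hXc g⁻¹ x', hn, ← hXc g]
    exact iff_of_eq (by congr 1; group)⟩
  have hNp : IsPGroup p N := by
    have h1 : X * (N : Set G) = X := by
      apply Set.Subset.antisymm
      · rintro _ ⟨x', hx', n, hn, rfl⟩
        exact (hn x').1 hx'
      · intro x' hx'
        exact ⟨x', hx', 1, one_mem N, mul_one _⟩
    have h2 := N.card_mul_eq_card_subgroup_mul_card_quotient X
    rw [h1, Nat.card_coe_set_eq, cX] at h2
    obtain ⟨j, -, hj⟩ := (Nat.dvd_prime_pow hp).1 (Dvd.intro _ h2.symm)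
    exact IsPGroup.of_card hj
  have hmem : ∀ g : G, g * y * g⁻¹ * y⁻¹ ∈ N := by
    intro g x'
    have e1 := heq _ (isConj_iff.2 ⟨g, rfl⟩)
    have e2 := heq y (IsConj.refl y)
    constructor
    · intro h
      have : x' * (g * y * g⁻¹) ∈ (· * y) '' X := by rw [e2, ← e1]; exact ⟨x', h, rfl⟩
      obtain ⟨w, hw, e⟩ := this
      have : x' * (g * y * g⁻¹ * y⁻¹) = w := by rw [← mul_assoc, ← e]; group
      rwa [this]
    · intro h
      have : x' * (g * y * g⁻¹ * y⁻¹) * y ∈ (· * (g * y * g⁻¹)) '' X := by rw [e1, ← e2]; exact ⟨_, h, rfl⟩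
      obtain ⟨w, hw, e⟩ := this
      have : x' = w := mul_right_cancel (b := g * y * g⁻¹) (by rw [show w * (g * y * g⁻¹) = _ from e]; group)
      rwa [this]
  have hNy : N ≤ centralizer ({y} : Set G) := le_cent_of_coprime (by
    obtain ⟨j, hj⟩ := IsPGroup.iff_card.1 hNp
    rw [hj, hb]
    exact Nat.coprime_pow_primes j b hp hr hpr)
  have hpq : p = q := by
    by_contra hne
    apply hyc
    rw [mem_center_iff]
    intro g
    obtain ⟨k, hk⟩ := hy
    have h1 : Commute (g * y * g⁻¹ * y⁻¹) y := mem_cent.1 (hNy (hmem g))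
    have h2 : (g * y * g⁻¹ * y⁻¹) ^ q ^ k = 1 := by
      have h3 := h1.mul_pow (q ^ k)
      rw [inv_mul_cancel_right, conj_pow, ← hk, pow_orderOf_eq_one] at h3
      simpa [hk] using h3.symm
    obtain ⟨j, hj⟩ := exists_orderOf_of_mem hNp (hmem g)
    have h4 : orderOf (g * y * g⁻¹ * y⁻¹) = 1 := Nat.eq_one_of_dvd_coprimes
      (Nat.coprime_pow_primes j k hp hq.out hne) (hj ▸ dvd_rfl) (orderOf_dvd_of_pow_eq_one h2)
    rw [orderOf_eq_one_iff, mul_inv_eq_one, mul_inv_eq_iff_eq_mul] at h4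
    exact h4
  refine ⟨hpq, ?_⟩
  subst hpq
  obtain ⟨k, hk⟩ := hy
  have h1 : normalClosure ({y} : Set G) ≤ N ⊔ zpowers y := normalClosure_singleton_le fun g => by
    rw [← inv_mul_cancel_right (g * y * g⁻¹) y]
    exact mul_mem_sup (hmem g) (mem_zpowers y)
  exact H1.le_pCore ((hNp.to_sup_of_normal_left (isPGroup_zpowers_of_orderOf hk)).to_le h1) (subset_normalClosure rfl)

theorem exists_normal_complement_of_closure {q : ℕ} [hq : Fact q.Prime] (Q : Sylow q G) [hQ : (Q : Subgroup G).Normal]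
    (h : (Q : Subgroup G) ≤ closure {x | x ∈ (Q : Subgroup G) ∧ ∃ a, (centralizer ({x} : Set G)).index = q ^ a}) :
    ∃ N : Subgroup G, N.Normal ∧ N.IsComplement' (Q : Subgroup G) := by
  obtain ⟨H, hH⟩ := exists_left_complement'_of_coprime Q.card_coprime_index
  set D : Subgroup G := ⁅(Q : Subgroup G), (Q : Subgroup G)⁆ with hD
  have hf := QuotientGroup.mk'_surjective D
  have h1 : (Q : Subgroup G) ≤ (center (G ⧸ D)).comap (QuotientGroup.mk' D) := by
    refine h.trans ((closure_le _).2 ?_)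
    rintro x ⟨hx, a, ha⟩
    change QuotientGroup.mk' D x ∈ center (G ⧸ D)
    rw [← index_cent_eq_one_iff]
    have h2 := index_cent_map_dvd hf x
    rw [ha] at h2
    obtain ⟨j, -, hj⟩ := (Nat.dvd_prime_pow hq.out).1 h2
    rcases j with _ | j
    · simpa using hj
    exfalso
    have h3 : (Q : Subgroup G).map (QuotientGroup.mk' D) ≤ centralizer ({QuotientGroup.mk' D x} : Set (G ⧸ D)) := by
      rintro _ ⟨y, hy, rfl⟩
      rw [mem_cent, ← commutatorElement_eq_one_iff_mul_comm, ← map_commutatorElement]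
      exact (QuotientGroup.eq_one_iff _).2 (commutator_mem_commutator hy hx)
    exact Q.not_dvd_index (((dvd_pow_self q (Nat.succ_ne_zero j)).trans (hj ▸ index_dvd_of_le h3)).trans
      (index_map_dvd _ hf))
  have h2 : H ≤ centralizer ((Q : Subgroup G) : Set G) := by
    refine H1.le_centralizer_of_commutator_le_frattini (by rw [normalizer_eq_top]; exact le_top) ?_ ?_
    · refine Nat.Coprime.coprime_dvd_right (card_subgroup_dvd_card _) ?_
      rw [← hH.index_eq_card]
      exact Q.card_coprime_index.symm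
    · refine le_trans ?_ (H1.commutator_le_map_frattini Q.isPGroup'.isNilpotent)
      rw [commutator_le]
      intro a ha b _
      rw [← QuotientGroup.eq_one_iff, ← QuotientGroup.mk'_apply, map_commutatorElement,
        commutatorElement_eq_one_iff_mul_comm]
      exact (mem_center_iff.1 (h1 ha) _).symm
  refine ⟨H, ?_, hH⟩
  rw [← normalizer_eq_top_iff, eq_top_iff, ← hH.sup_eq_top]
  exact sup_le le_normalizer ((le_centralizer_iff.1 h2).trans (centralizer_le_normalizer _))

theorem mem_pCore_of_mem_center {q : ℕ} [Fact q.Prime] {x : G} (hx : ∃ k, orderOf x = q ^ k) (h : x ∈ center G) :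
    x ∈ pCore q G :=
  mem_pCore_of_index_pow hx (a := 0) (index_cent_eq_one_iff.2 h)

section
variable {q : ℕ} [hq : Fact q.Prime]
  (hB : ∀ x : G, (∃ k : ℕ, orderOf x = q ^ k) → ∃ (r : ℕ) (a : ℕ), r.Prime ∧ (centralizer ({x} : Set G)).index = r ^ a)
include hB

theorem baer_two {p r a b : ℕ} (hp : p.Prime) (hr : r.Prime) (hpr : p ≠ r)
    {x y : G} (hx : ∃ k, orderOf x = q ^ k) (hy : ∃ k, orderOf y = q ^ k)
    (ha : (centralizer ({x} : Set G)).index = p ^ a) (hb : (centralizer ({y} : Set G)).index = r ^ b)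
    (hlt : r ^ b < p ^ a) (hyc : y ∉ center G) : p = q ∧ y ∈ pCore q G := by
  obtain ⟨Q, hQ⟩ := pElt_iff_exists_sylow.1 hx
  obtain ⟨R, hR⟩ := pElt_iff_exists_sylow.1 hy
  obtain ⟨g, hg⟩ := MulAction.exists_smul_eq G R Q
  have hy' : g * y * g⁻¹ ∈ (Q : Subgroup G) := by
    rw [← hg, Sylow.coe_subgroup_smul, H1.mem_conj_smul]
    simpa [mul_assoc] using hR
  obtain ⟨s, c, hs, hc⟩ := hB _ (pElt_iff_exists_sylow.2 ⟨Q, mul_mem hQ hy'⟩)
  obtain ⟨h1, h2⟩ := two_prime_index hp hr hs hpr (pElt_iff_exists_sylow.2 ⟨Q, hy'⟩) ha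
    (by rw [index_cent_conj, hb]) hc hlt (fun h => hyc (by
      rw [← index_cent_eq_one_iff] at h ⊢
      rwa [index_cent_conj] at h))
  refine ⟨h1, ?_⟩
  have := (inferInstance : (pCore q G).Normal).conj_mem _ h2 g⁻¹
  simpa [mul_assoc] using this

theorem baer_false {p r a b : ℕ} (hp : p.Prime) (hr : r.Prime) (hpr : p ≠ r)
    {x y : G} (hx : ∃ k, orderOf x = q ^ k) (hy : ∃ k, orderOf y = q ^ k)
    (ha : (centralizer ({x} : Set G)).index = p ^ a) (hb : (centralizer ({y} : Set G)).index = r ^ b)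
    (hlt : r ^ b < p ^ a) (hyc : y ∉ center G) : False := by
  obtain ⟨rfl, -⟩ := baer_two hB hp hr hpr hx hy ha hb hlt hyc
  have ha0 : a ≠ 0 := by
    rintro rfl
    have := pow_pos hr.pos b
    rw [pow_zero] at hlt
    omega
  have hxc : x ∉ center G := fun h => by
    rw [← index_cent_eq_one_iff, ha] at h
    have := pow_pos hr.pos b
    omega
  have hall : ∀ z : G, (∃ k, orderOf z = p ^ k) → z ∈ pCore p G := by
    intro z hz
    by_cases hzc : z ∈ center G
    · exact mem_pCore_of_mem_center hz hzc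
    obtain ⟨s, c, hs, hc⟩ := hB z hz
    by_cases hsp : s = p
    · subst hsp
      exact mem_pCore_of_index_pow hz hc
    rcases lt_trichotomy (s ^ c) (p ^ a) with h | h | h
    · exact (baer_two hB hp hs (Ne.symm hsp) hx hz ha hc h hzc).2
    · exact absurd ((Nat.prime_dvd_prime_iff_eq hp hs).1 (hp.dvd_of_dvd_pow (h ▸ dvd_pow_self p ha0))).symm hsp
    · exact absurd (baer_two hB hs hp hsp hz hx hc ha h hxc).1 hsp
  obtain ⟨Q⟩ : Nonempty (Sylow p G) := inferInstance
  have hQ : (Q : Subgroup G) = pCore p G :=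
    le_antisymm (fun z hz => hall z (exists_orderOf_of_mem Q.isPGroup' hz)) (H1.pCore_le_sylow Q)
  haveI hQn : (Q : Subgroup G).Normal := hQ ▸ inferInstance
  have hle : ∀ {z : G} {s c : ℕ}, s.Prime → s ≠ p → (centralizer ({z} : Set G)).index = s ^ c →
      (Q : Subgroup G) ≤ centralizer ({z} : Set G) := by
    intro z s c hs hsp hc
    refine le_cent_of_coprime (H1.coprime_card_of_isPGroup Q.isPGroup' ?_)
    rw [hc]
    exact fun hd => hsp ((Nat.prime_dvd_prime_iff_eq hp hs).1 (hp.dvd_of_dvd_pow hd)).symm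
  have hxQ : x ∈ (Q : Subgroup G) := hQ ▸ hall x hx
  have hxZ : x ∉ centralizer ((Q : Subgroup G) : Set G) := fun h =>
    not_dvd_index_of_sylow_le Q (le_cent_iff.2 h) (ha ▸ dvd_pow_self p ha0)
  have hT : ∀ z ∈ (Q : Subgroup G), z ∉ centralizer ((Q : Subgroup G) : Set G) →
      z ∈ closure {x | x ∈ (Q : Subgroup G) ∧ ∃ a, (centralizer ({x} : Set G)).index = p ^ a} := by
    intro z hz hzc
    obtain ⟨s, c, hs, hc⟩ := hB z (exists_orderOf_of_mem Q.isPGroup' hz)
    by_cases hsp : s = p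
    · subst hsp
      exact subset_closure ⟨hz, c, hc⟩
    · exact absurd (le_cent_iff.1 (hle hs hsp hc)) hzc
  obtain ⟨N, hNn, hN⟩ := exists_normal_complement_of_closure Q (fun z hz => by
    by_cases hzc : z ∈ centralizer ((Q : Subgroup G) : Set G)
    · rw [← inv_mul_cancel_left x z]
      exact mul_mem (inv_mem (hT x hxQ hxZ)) (hT _ (mul_mem hxQ hz) fun h => hxZ ((Subgroup.mul_mem_cancel_right _ hzc).1 h))
    · exact hT z hz hzc)
  apply hyc
  rw [← cent_eq_top_iff, eq_top_iff, ← hN.sup_eq_top]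
  refine sup_le (fun n hn => ?_) (hle hr (Ne.symm hpr) hb)
  exact mem_cent.2 (commute_of_normal_of_disjoint N _ hNn hQn hN.disjoint n y hn (hQ ▸ hall y hy))

theorem baer_exists_prime : ∃ p : ℕ, p.Prime ∧
    ∀ x : G, (∃ k : ℕ, orderOf x = q ^ k) → ∃ a : ℕ, (centralizer ({x} : Set G)).index = p ^ a := by
  by_cases h : ∀ x : G, (∃ k : ℕ, orderOf x = q ^ k) → x ∈ center G
  · exact ⟨q, hq.out, fun x hx => ⟨0, index_cent_eq_one_iff.2 (h x hx)⟩⟩
  push Not at h
  obtain ⟨x, hx, hxc⟩ := h
  obtain ⟨p, a, hp, ha⟩ := hB x hx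
  refine ⟨p, hp, fun y hy => ?_⟩
  by_cases hyc : y ∈ center G
  · exact ⟨0, index_cent_eq_one_iff.2 hyc⟩
  obtain ⟨r, b, hr, hb⟩ := hB y hy
  by_cases hpr : p = r
  · exact ⟨b, hpr ▸ hb⟩
  exfalso
  rcases lt_trichotomy (r ^ b) (p ^ a) with h | h | h
  · exact baer_false hB hp hr hpr hx hy ha hb h hyc
  · have ha0 : a ≠ 0 := by
      rintro rfl
      exact hxc (index_cent_eq_one_iff.1 ha)
    exact hpr ((Nat.prime_dvd_prime_iff_eq hp hr).1 (hp.dvd_of_dvd_pow (h ▸ dvd_pow_self p ha0)))
  · exact baer_false hB hr hp (Ne.symm hpr) hy hx hb ha h hxc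

end

theorem odd_of_odd_orbits {H V : Type*} [Group H] [Finite H] [Group V] [Finite V] [MulDistribMulAction H V]
    [IsMulCommutative V] (hV : Odd (Nat.card V)) (hf : ∀ x : H, (∀ v : V, x • v = v) → x = 1)
    (horb : ∀ v : V, Odd (MulAction.stabilizer H v).index) : Odd (Nat.card H) := by
  rw [← Nat.not_even_iff_odd, even_iff_two_dvd]
  intro h2
  haveI : Fact (Nat.Prime 2) := ⟨Nat.prime_two⟩
  obtain ⟨t, ht⟩ := exists_prime_orderOf_dvd_card' 2 h2
  have htt : t * t = 1 := by rw [← pow_two, ← ht, pow_orderOf_eq_one]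
  obtain ⟨v, hv⟩ : ∃ v : V, t • v ≠ v := by
    by_contra hc
    push Not at hc
    rw [hf t hc, orderOf_one] at ht
    omega
  set w := v⁻¹ * t • v with hw
  have h1 : t • w = w⁻¹ := by rw [hw, smul_mul', smul_inv', ← mul_smul, htt, one_smul, mul_inv_rev, inv_inv]
  have hS : t ∉ MulAction.stabilizer H w := by
    intro h
    rw [MulAction.mem_stabilizer_iff, h1, inv_eq_iff_mul_eq_one, ← pow_two] at h
    have h3 : orderOf w = 1 := Nat.eq_one_of_dvd_coprimes (Nat.coprime_two_left.2 hV) (orderOf_dvd_of_pow_eq_one h)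
      (orderOf_dvd_natCard w)
    rw [orderOf_eq_one_iff, hw, inv_mul_eq_one] at h3
    exact hv h3.symm
  have hti : t⁻¹ = t := inv_eq_of_mul_eq_one_right htt
  have hN : zpowers t ≤ normalizer (MulAction.stabilizer H w : Set H) := by
    rw [zpowers_le]
    apply H3.mem_normalizer_of_conj_mem
    intro x hx
    rw [MulAction.mem_stabilizer_iff] at hx ⊢
    rw [hti, mul_smul, mul_smul, h1, smul_inv', hx, smul_inv', h1, inv_inv]
  have h3 := relIndex_dvd_card (MulAction.stabilizer H w) (zpowers t)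
  rw [Nat.card_zpowers, ht] at h3
  rcases (Nat.dvd_prime Nat.prime_two).1 h3 with h4 | h4
  · exact hS (relIndex_eq_one.1 h4 (mem_zpowers t))
  · have h5 := relIndex_dvd_index_of_le (le_sup_left : MulAction.stabilizer H w ≤ _ ⊔ zpowers t)
    rw [H1.relIndex_sup_of_le_normalizer hN, h4] at h5
    exact (Nat.not_even_iff_odd.2 (horb w)) (even_iff_two_dvd.2 h5)

theorem isSolvable_of_abelian_sylow_index_pow {p q : ℕ} (hp : p.Prime) [hq : Fact q.Prime] (V : Sylow q G)
    [(V : Subgroup G).Normal] [IsMulCommutative (V : Subgroup G)] (h0 : pPrimeCore q G = ⊥)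
    (h : ∀ v ∈ (V : Subgroup G), ∃ a, (centralizer ({v} : Set G)).index ∣ p ^ a) : Group.IsSolvable G := by
  set C := centralizer ((V : Subgroup G) : Set G) with hC
  have hVC : (V : Subgroup G) ≤ C := le_centralizer _
  have hCq : IsPGroup q C := by
    have h1 : HasNormalPComplement q C := H3.hasNormalPComplement_of_sylow_le_center (V.subtype hVC) (by
      intro x hx
      rw [mem_center_iff]
      intro y
      exact Subtype.ext (y.2 _ hx).symm)
    rw [H3.hasNormalPComplement_iff_not_dvd] at h1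
    haveI : ((pResidual q C).map C.subtype).Normal := ConjAct.normal_of_characteristic_of_normal
    have h2 : (pResidual q C).map C.subtype ≤ pPrimeCore q G := H1.le_pPrimeCore (by
      rw [card_map_of_injective C.subtype_injective]
      exact (hq.out.coprime_iff_not_dvd.2 h1).symm)
    rw [h0, le_bot_iff, map_eq_bot_iff_of_injective _ C.subtype_injective] at h2
    exact H3.pResidual_eq_bot_iff.1 h2
  let f : G →* MulAut (V : Subgroup G) := MulAut.conjNormal
  have hker : f.ker = C := by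
    ext g
    rw [MonoidHom.mem_ker, hC, mem_centralizer_iff]
    constructor
    · intro e v hv
      have := congrArg (fun φ : MulAut (V : Subgroup G) => (φ ⟨v, hv⟩ : G)) e
      simp only [f, MulAut.conjNormal_apply, MulAut.one_apply] at this
      exact (mul_inv_eq_iff_eq_mul.1 this).symm
    · intro e
      ext v
      simp only [f, MulAut.conjNormal_apply, MulAut.one_apply]
      rw [← e v v.2, mul_inv_cancel_right]
  have hH : ¬ q ∣ Nat.card f.range := by
    rw [← index_ker, hker]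
    exact not_dvd_index_of_sylow_le V hVC
  have hf : ∀ x : f.range, (∀ v : (V : Subgroup G), x • v = v) → x = 1 := fun x hx => Subtype.ext (MulEquiv.ext hx)
  have horb : ∀ v : (V : Subgroup G), ∃ k : ℕ, (MulAction.stabilizer f.range v).index ∣ p ^ k := by
    intro v
    obtain ⟨a, ha⟩ := h v v.2
    refine ⟨a, dvd_trans ?_ ha⟩
    refine dvd_trans (index_dvd_of_le ?_) (index_map_dvd _ f.rangeRestrict_surjective)
    rintro _ ⟨x, hx, rfl⟩
    apply Subtype.ext
    change x * v * x⁻¹ = v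
    rw [mem_cent.1 hx, mul_inv_cancel_right]
  have hs : Group.IsSolvable f.range := by
    by_cases hp2 : p = 2
    · subst hp2
      have := orbSolv (V : Subgroup G) V.isPGroup' inferInstance f.range hH horb
      refine H1.isSolvable_of_mulEquiv (MonoidHom.ofInjective ?_).symm this
      rw [injective_iff_map_eq_one]
      exact fun x hx => hf x (toMulAut_eq_one_iff.1 hx)
    apply FT.solvable_of_odd
    by_cases hq2 : q = 2
    · subst hq2
      rwa [← Nat.not_even_iff_odd, even_iff_two_dvd]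
    refine odd_of_odd_orbits (V := (V : Subgroup G)) ?_ hf fun v => ?_
    · obtain ⟨n, hn⟩ := IsPGroup.iff_card.1 V.isPGroup'
      rw [hn]
      exact (hq.out.odd_of_ne_two hq2).pow
    · obtain ⟨k, hk⟩ := horb v
      exact Odd.of_dvd_nat (hp.odd_of_ne_two hp2).pow hk
  haveI := H1.isSolvable_of_isPGroup hCq
  exact Group.isSolvable_of_ker_le_range C.subtype f.rangeRestrict (by rw [MonoidHom.ker_rangeRestrict, hker]; simp)

end Cfsg.Agent.H26
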