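import Cfsg.Agent.H26.HolAct
import Cfsg.Agent.FT

/-! Invariant subgroups, induced actions on subgroups and quotients, invariant Sylow subgroups. -/

set_option autoImplicit false

namespace Cfsg.Agent.H26

open Subgroup
open scoped commutatorElement Pointwise

/-- `H` is invariant under the action of `A` -/
def AInv (A : Type*) {G : Type*} [Group A] [Group G] [MulDistribMulAction A G] (H : Subgroup G) : Prop :=
  ∀ a : A, ∀ x ∈ H, a • x ∈ H

variable {A G : Type*} [Group A] [Group G] [MulDistribMulAction A G]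

theorem AInv.smul_mem_iff {H : Subgroup G} (h : AInv A H) (a : A) (x : G) : a • x ∈ H ↔ x ∈ H :=
  ⟨fun hx => by simpa using h a⁻¹ _ hx, h a x⟩

theorem AInv.map_eq {H : Subgroup G} (h : AInv A H) (a : A) :
    H.map (MulDistribMulAction.toMulAut A G a).toMonoidHom = H := by
  apply le_antisymm
  · rintro _ ⟨x, hx, rfl⟩
    exact h a x hx
  · intro x hx
    exact ⟨a⁻¹ • x, h _ _ hx, by simp⟩

theorem aInv_of_map_eq {H : Subgroup G}
    (h : ∀ a : A, H.map (MulDistribMulAction.toMulAut A G a).toMonoidHom = H) : AInv A H :=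
  fun a x hx => by rw [← h a]; exact ⟨x, hx, rfl⟩

theorem aInv_of_characteristic (H : Subgroup G) [h : H.Characteristic] : AInv A H :=
  aInv_of_map_eq fun a => characteristic_iff_map_eq.1 h _

theorem aInv_top : AInv A (⊤ : Subgroup G) := fun _ _ _ => mem_top _

theorem aInv_bot : AInv A (⊥ : Subgroup G) := fun a x hx => by
  rw [mem_bot] at hx ⊢; rw [hx, smul_one]

theorem AInv.inf {H K : Subgroup G} (h : AInv A H) (k : AInv A K) : AInv A (H ⊓ K) :=
  fun a x hx => ⟨h a x hx.1, k a x hx.2⟩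

theorem AInv.sup {H K : Subgroup G} (h : AInv A H) (k : AInv A K) : AInv A (H ⊔ K) :=
  aInv_of_map_eq fun a => by rw [Subgroup.map_sup, h.map_eq, k.map_eq]

theorem aInv_iSup {ι : Sort*} {H : ι → Subgroup G} (h : ∀ i, AInv A (H i)) : AInv A (⨆ i, H i) :=
  aInv_of_map_eq fun a => by
    rw [Subgroup.map_iSup]
    exact iSup_congr fun i => (h i).map_eq a

theorem AInv.commutator {H K : Subgroup G} (h : AInv A H) (k : AInv A K) : AInv A ⁅H, K⁆ :=
  aInv_of_map_eq fun a => by rw [Subgroup.map_commutator, h.map_eq, k.map_eq]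

theorem AInv.normalizer {H : Subgroup G} (h : AInv A H) : AInv A (normalizer (H : Set G)) := by
  intro a x hx
  rw [mem_normalizer_iff] at hx ⊢
  intro y
  rw [← h.smul_mem_iff a⁻¹ y, hx, ← h.smul_mem_iff a]
  simp [smul_mul']

theorem AInv.centralizer {H : Subgroup G} (h : AInv A H) : AInv A (centralizer (H : Set G)) := by
  intro a x hx
  rw [mem_centralizer_iff] at hx ⊢
  intro y hy
  have := congrArg (a • ·) (hx _ (h a⁻¹ y hy))
  simpa [smul_mul'] using this

theorem AInv.map_subtype {H : Subgroup G} (h : AInv A H) (K : Subgroup H) [hK : K.Characteristic] :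
    AInv A (K.map H.subtype) := by
  rintro a _ ⟨x, hx, rfl⟩
  let e : H ≃* H :=
    { toFun := fun y => ⟨a • (y : G), h a _ y.2⟩
      invFun := fun y => ⟨a⁻¹ • (y : G), h _ _ y.2⟩
      left_inv := fun y => by simp
      right_inv := fun y => by simp
      map_mul' := fun y z => by ext; simp [smul_mul'] }
  have := characteristic_iff_map_eq.1 hK e
  exact ⟨e x, this ▸ ⟨x, hx, rfl⟩, rfl⟩

/-- action on an invariant subgroup -/
@[reducible] def AInv.subAct {H : Subgroup G} (h : AInv A H) : MulDistribMulAction A H where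
  smul a x := ⟨a • (x : G), h a _ x.2⟩
  one_smul x := Subtype.ext (one_smul A (x : G))
  mul_smul a b x := Subtype.ext (mul_smul a b (x : G))
  smul_mul a x y := Subtype.ext (smul_mul' a (x : G) y)
  smul_one a := Subtype.ext (smul_one a)

theorem AInv.subAct_coe {H : Subgroup G} (h : AInv A H) (a : A) (x : H) :
    ((letI := h.subAct; a • x : H) : G) = a • (x : G) := rfl

/-- action on the quotient by an invariant normal subgroup -/
@[reducible] def AInv.quotAct {N : Subgroup G} [N.Normal] (h : AInv A N) : MulDistribMulAction A (G ⧸ N) where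
  smul a := QuotientGroup.map N N (MulDistribMulAction.toMonoidHom G a) (fun x hx => h a x hx)
  one_smul x := by
    obtain ⟨y, rfl⟩ := QuotientGroup.mk_surjective x
    exact congrArg (fun z : G => (z : G ⧸ N)) (one_smul A y)
  mul_smul a b x := by
    obtain ⟨y, rfl⟩ := QuotientGroup.mk_surjective x
    exact congrArg (fun z : G => (z : G ⧸ N)) (mul_smul a b y)
  smul_mul a x y := map_mul (QuotientGroup.map N N (MulDistribMulAction.toMonoidHom G a) (fun x hx => h a x hx)) x y
  smul_one a := map_one (QuotientGroup.map N N (MulDistribMulAction.toMonoidHom G a) (fun x hx => h a x hx))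

theorem AInv.quotAct_mk {N : Subgroup G} [N.Normal] (h : AInv A N) (a : A) (x : G) :
    (letI := h.quotAct; a • (x : G ⧸ N)) = ((a • x : G) : G ⧸ N) := rfl

theorem AInv.comap_mk {N : Subgroup G} [N.Normal] (h : AInv A N) {K : Subgroup (G ⧸ N)}
    (hK : letI := h.quotAct; AInv A K) : AInv A (K.comap (QuotientGroup.mk' N)) :=
  letI := h.quotAct
  fun a x hx => hK a (x : G ⧸ N) hx

theorem AInv.map_mk {N : Subgroup G} [N.Normal] (h : AInv A N) {K : Subgroup G} (hK : AInv A K) :
    letI := h.quotAct; AInv A (K.map (QuotientGroup.mk' N)) := by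
  rintro a _ ⟨x, hx, rfl⟩
  exact ⟨a • x, hK a x hx, rfl⟩

theorem AInv.map_subtype' {H : Subgroup G} (h : AInv A H) {K : Subgroup H}
    (hK : letI := h.subAct; AInv A K) : AInv A (K.map H.subtype) := by
  letI := h.subAct
  rintro a _ ⟨x, hx, rfl⟩
  exact ⟨a • x, hK a x hx, rfl⟩

theorem AInv.subgroupOf {H K : Subgroup G} (h : AInv A H) (hK : AInv A K) :
    letI := h.subAct; AInv A (K.subgroupOf H) :=
  fun a x hx => hK a x hx

theorem solvable_or_of_coprime {X Y : Type*} [Group X] [Group Y] (h : (Nat.card X).Coprime (Nat.card Y)) :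
    Group.IsSolvable X ∨ Group.IsSolvable Y := by
  rcases Nat.even_or_odd (Nat.card X) with h1 | h1
  · right
    apply FT.solvable_of_odd
    rw [← Nat.not_even_iff_odd]
    intro h2
    have := Nat.dvd_gcd h1.two_dvd h2.two_dvd
    rw [h] at this
    omega
  · exact Or.inl (FT.solvable_of_odd h1)

variable [Finite A] [Finite G]

theorem exists_aInv_isSylowIn_ge (hcop : (Nat.card A).Coprime (Nat.card G)) {p : ℕ} [Fact p.Prime]
    {U K : Subgroup G} (hUK : U ≤ K) (hU : IsPGroup p U) (hUA : AInv A U) (hKA : AInv A K) :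
    ∃ P : Subgroup G, H1.IsSylowIn p P K ∧ AInv A P ∧ U ≤ P := by
  have hc : (Nat.card (ambA A G)).Coprime (Nat.card (K.map (ambL A G))) := by
    rw [card_ambA, card_ambL]
    exact hcop.coprime_dvd_right (card_subgroup_dvd_card K)
  obtain ⟨P, hP, hPA, hUP⟩ := H1.exists_invariant_isSylowIn_ge (ambA_le_normalizer_iff.2 hKA) hc
    (solvable_or_of_coprime hc) (map_mono hUK) (hU.map _) (ambA_le_normalizer_iff.2 hUA)
  obtain ⟨Q, rfl⟩ := exists_eq_map_ambL (hP.le.trans (map_mono le_top))
  have hQK : Q ≤ K := (map_le_map_iff_of_injective ambL_inj).1 hP.le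
  refine ⟨Q, ?_, ambA_le_normalizer_iff.1 hPA, (map_le_map_iff_of_injective ambL_inj).1 hUP⟩
  obtain ⟨S, hS⟩ := H1.exists_isSylowIn p K
  apply hS.of_card_eq hQK
  rw [← card_ambL (A := A) Q, hP.card_eq (hS.map (ambL A G)), card_ambL]

theorem exists_aInv_sylow_ge (hcop : (Nat.card A).Coprime (Nat.card G)) {p : ℕ} [Fact p.Prime]
    {U : Subgroup G} (hU : IsPGroup p U) (hUA : AInv A U) :
    ∃ P : Sylow p G, AInv A (P : Subgroup G) ∧ U ≤ P := by
  obtain ⟨P, hP, hPA, hUP⟩ := exists_aInv_isSylowIn_ge hcop le_top hU hUA aInv_top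
  obtain ⟨Q, rfl⟩ := hP.exists_sylow_top
  exact ⟨Q, hPA, hUP⟩

theorem exists_aInv_sylow (hcop : (Nat.card A).Coprime (Nat.card G)) (p : ℕ) [Fact p.Prime] :
    ∃ P : Sylow p G, AInv A (P : Subgroup G) := by
  obtain ⟨P, hP, -⟩ := exists_aInv_sylow_ge hcop (p := p) (U := ⊥) IsPGroup.of_bot aInv_bot
  exact ⟨P, hP⟩

/-- fixed points of a quotient lift -/
theorem exists_fixed_mk_eq (hcop : (Nat.card A).Coprime (Nat.card G)) {N : Subgroup G} (h : AInv A N)
    {x : G} (hx : ∀ a : A, x⁻¹ * a • x ∈ N) : ∃ n ∈ N, ∀ a : A, a • (x * n) = x * n := by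
  have hc : (Nat.card (ambA A G)).Coprime (Nat.card (N.map (ambL A G))) := by
    rw [card_ambA, card_ambL]
    exact hcop.coprime_dvd_right (card_subgroup_dvd_card N)
  obtain ⟨_, ⟨n, hn, rfl⟩, hc⟩ := H1.exists_fixed_in_left_coset (ambA_le_normalizer_iff.2 h) hc
    (solvable_or_of_coprime hc) (x := ambL A G x) (by
      rintro _ ⟨a, -, rfl⟩
      refine ⟨_, hx a, ?_⟩
      rw [map_mul, map_inv]
      congr 1
      exact (H21.Hol.conj _ a x).symm)
  exact ⟨n, hn, ambL_mem_centralizer_iff.1 (by rwa [map_mul])⟩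

end Cfsg.Agent.H26
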