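import Mathlib
import Cfsg.Agent.FT

/-! Bases of size two for groups of odd order: reductions (wreath lemma, Gluck's lemma). -/

set_option autoImplicit false
set_option linter.unusedSectionVars false

namespace Cfsg.Agent.H26.BT

open Subgroup MulAction
open scoped Pointwise commutatorElement

universe u

section
variable {G : Type*} [Group G] [Finite G]

theorem odd_sub (h : Odd (Nat.card G)) (H : Subgroup G) : Odd (Nat.card H) := h.of_dvd_nat H.card_subgroup_dvd_card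

omit [Finite G] in
theorem fix_sq {X : Type*} [MulAction G X] (h : Odd (Nat.card G)) {g : G} {x : X} (e : g • g • x = x) :
    g • x = x := by
  obtain ⟨k, hk⟩ := h
  have h1 : (g * g) ^ (k + 1) ∈ stabilizer G x := pow_mem (by rwa [mem_stabilizer_iff, mul_smul]) _
  rwa [← sq, ← pow_mul, show 2 * (k + 1) = Nat.card G + 1 by omega, pow_succ, pow_card_eq_one', one_mul] at h1

theorem wreath {H : Subgroup G} {Y : Type*} [MulAction H Y] {y0 y1 : Y} (hy : ∀ h : H, h • y0 ≠ y1)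
    {Δ : Set G} (h1 : ∀ g, ∀ s ∈ H, g * s ∈ Δ ↔ g ∈ Δ)
    (h2 : ∀ k, (∀ g, k * g ∈ Δ ↔ g ∈ Δ) → ∀ g, g⁻¹ * k * g ∈ H) :
    ∃ f : G → Y, (∀ g (h : H), f (g * h) = h⁻¹ • f g) ∧ (∀ g, f g ∈ orbit H y0 ∨ f g ∈ orbit H y1) ∧
      ∀ k, (∀ g, f (k * g) = f g) → ∀ g, ∃ h : H, g⁻¹ * k * g = h ∧ h • f g = f g := by
  classical
  let η : G → H := fun g => ⟨g⁻¹ * (g : G ⧸ H).out, QuotientGroup.eq.1 (by simp)⟩
  let f : G → Y := fun g => η g • if g ∈ Δ then y0 else y1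
  have k1 : ∀ g (h : H), f (g * h) = h⁻¹ • f g := fun g h => by
    simp only [f, h1 g h h.2, smul_smul]
    congr 1; ext; simp [η, mul_assoc]
  refine ⟨f, k1, fun g => ?_, fun k hk g => ?_⟩
  · simp only [f]; split_ifs
    exacts [.inl (mem_orbit _ _), .inr (mem_orbit _ _)]
  · refine ⟨⟨_, h2 k (fun g => ?_) g⟩, rfl, ?_⟩
    · have := hk g
      simp only [f] at this
      split_ifs at this with a b b
      · simp [a, b]
      · exact (hy ((η g)⁻¹ * η (k * g)) (by rw [mul_smul, this, inv_smul_smul])).elim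
      · exact (hy ((η (k * g))⁻¹ * η g) (by rw [mul_smul, ← this, inv_smul_smul])).elim
      · simp [a, b]
    · rw [← eq_inv_smul_iff, ← k1, ← hk g]; simp [mul_assoc]

theorem exists_ab [Group.IsSolvable G] {A R : Subgroup G} [R.Normal] (h : ¬ R ≤ A) :
    ∃ N : Subgroup G, N.Normal ∧ N ≤ R ∧ ¬ N ≤ A ∧ ⁅N, N⁆ ≤ A ∧ ∀ U : Subgroup G, U.Normal → U < N → U ≤ A := by
  obtain ⟨N, hN, h1⟩ := Finite.exists_le_minimal (p := fun N : Subgroup G => N.Normal ∧ ¬ N ≤ A) ⟨‹_›, h⟩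
  have k : ∀ U : Subgroup G, U.Normal → U < N → U ≤ A := fun U a b =>
    by_contra fun c => b.not_ge (h1.2 ⟨a, c⟩ b.le)
  have := h1.1.1
  exact ⟨N, this, hN, h1.1.2, k _ inferInstance
    (Group.IsSolvable.commutator_lt_of_ne_bot fun e => h1.1.2 (e ▸ bot_le)), k⟩
end

section
variable (G : Type*) [Group G] {V : Type*} [AddCommGroup V] [DistribMulAction G V]

def Inv (U : AddSubgroup V) : Prop := ∀ g : G, ∀ v ∈ U, g • v ∈ U
variable (V)
def CR : Prop := ∀ U : AddSubgroup V, Inv G U → ∃ W, Inv G W ∧ U ⊓ W = ⊥ ∧ U ⊔ W = ⊤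
def Ir : Prop := ∀ U : AddSubgroup V, Inv G U → U = ⊥ ∨ U = ⊤
def Bs : Prop := ∃ v w : V, ∀ g : G, g • v = v → g • w = w → ∀ x : V, g • x = x
end

def St (n : ℕ) : Prop := ∀ (G V : Type u) [Group G] [Finite G] [AddCommGroup V] [Finite V] [DistribMulAction G V],
  Odd (Nat.card G) → Nat.card V < n → Ir G V → Bs G V

variable {n : ℕ} (hS : St.{u} n) {G V : Type u} [Group G] [Finite G] [AddCommGroup V] [Finite V]
  [DistribMulAction G V] (ho : Odd (Nat.card G))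
include hS ho

theorem St.rel {D : AddSubgroup V} (hD : Inv G D) (hn : Nat.card D < n)
    (hI : ∀ U, Inv G U → U ≤ D → U = ⊥ ∨ U = D) :
    ∃ v ∈ D, ∃ w ∈ D, ∀ g : G, g • v = v → g • w = w → ∀ x ∈ D, g • x = x := by
  letI : SMul G D := ⟨fun g x => ⟨g • x.1, hD g _ x.2⟩⟩
  letI : DistribMulAction G D := Function.Injective.distribMulAction D.subtype Subtype.val_injective fun _ _ => rfl
  obtain ⟨v, w, h⟩ := hS G D ho hn fun U hU => (hI (U.map D.subtype)
    (by rintro g _ ⟨x, hx, rfl⟩; exact ⟨_, hU g x hx, rfl⟩) (AddSubgroup.map_subtype_le _)).imp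
      (fun e => AddSubgroup.map_subtype_inj.1 (by simpa))
      fun e => AddSubgroup.map_subtype_inj.1 (by rw [e, ← AddMonoidHom.range_eq_map, AddSubgroup.range_subtype])
  exact ⟨v, v.2, w, w.2, fun g a b x hx => congrArg Subtype.val (h g (Subtype.ext a) (Subtype.ext b) ⟨x, hx⟩)⟩

theorem St.cr (hn : Nat.card V < n) (hC : CR G V) : Bs G V := by
  suffices ∀ D : AddSubgroup V, Inv G D →
      ∃ v ∈ D, ∃ w ∈ D, ∀ g : G, g • v = v → g • w = w → ∀ x ∈ D, g • x = x by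
    obtain ⟨v, -, w, -, h⟩ := this ⊤ fun _ _ _ => trivial
    exact ⟨v, w, fun g a b x => h g a b x trivial⟩
  intro D
  induction D using WellFoundedLT.induction with
  | _ D ih =>
  intro hD
  by_cases hI : ∀ U, Inv G U → U ≤ D → U = ⊥ ∨ U = D
  · exact hS.rel ho hD (D.card_le_card_addGroup.trans_lt hn) hI
  push Not at hI
  obtain ⟨U, hU, h1, h2, h3⟩ := hI
  obtain ⟨W, hW, h4, h5⟩ := hC U hU
  have h6 : U ⊔ W ⊓ D = D := by rw [← sup_inf_assoc_of_le _ h1, h5, top_inf_eq]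
  obtain ⟨v, hv, w, hw, a⟩ := ih U (h1.lt_of_ne h3) hU
  obtain ⟨v', hv', w', hw', b⟩ := ih (W ⊓ D) (inf_le_right.lt_of_ne fun e => h2 (by
    rw [← h4, left_eq_inf]; exact h1.trans (inf_eq_right.1 e))) fun g x hx => ⟨hW g x hx.1, hD g x hx.2⟩
  have k : ∀ (g : G), ∀ x ∈ U, ∀ y ∈ W, g • (x + y) = x + y → g • x = x ∧ g • y = y := fun g x hx y hy e => by
    have e1 : g • x - x = y - g • y := by rw [smul_add] at e; linear_combination (norm := abel) e
    have : g • x - x = 0 := h4.le ⟨U.sub_mem (hU g x hx) hx, e1 ▸ W.sub_mem hy (hW g y hy)⟩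
    exact ⟨sub_eq_zero.1 this, (sub_eq_zero.1 (e1 ▸ this)).symm⟩
  refine ⟨v + v', add_mem (h1 hv) hv'.2, w + w', add_mem (h1 hw) hw'.2, fun g c d x hx => ?_⟩
  obtain ⟨y, hy, z, hz, rfl⟩ := AddSubgroup.mem_sup.1 (h6.ge hx)
  rw [smul_add, a g (k g v hv v' hv'.1 c).1 (k g w hw w' hw'.1 d).1 y hy,
    b g (k g v hv v' hv'.1 c).2 (k g w hw w' hw'.1 d).2 z hz]

end Cfsg.Agent.H26.BT
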