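import Mathlib
import Cfsg.Agent.H26.BT1

/-! Abelian sections as modules, Gluck's lemma, and the imprimitive case. -/

set_option autoImplicit false
set_option linter.unusedSectionVars false

namespace Cfsg.Agent.H26.BT

open Subgroup MulAction
open scoped Pointwise commutatorElement

universe u

section
variable {G : Type u} [Group G] [Finite G] {A L : Subgroup G}

structure Sec (A L : Subgroup G) (W : Type u) [AddCommGroup W] [DistribMulAction G W] (p : G → W) : Prop where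
  add : ∀ x ∈ L, ∀ y ∈ L, p (x * y) = p x + p y
  ker : ∀ x ∈ L, p x = 0 ↔ x ∈ A
  surj : ∀ w, ∃ x ∈ L, p x = w
  conj : ∀ g, ∀ x ∈ L, p (g * x * g⁻¹) = g • p x
  card : Nat.card W = A.relIndex L

theorem exists_sec [A.Normal] [L.Normal] (h : ⁅L, L⁆ ≤ A) :
    ∃ (W : Type u) (_ : AddCommGroup W) (_ : DistribMulAction G W) (_ : Finite W) (p : G → W), Sec A L W p := by
  classical
  let M := L.map (QuotientGroup.mk' A)
  letI : CommGroup M := { (inferInstance : Group M) with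
    mul_comm := by
      rintro ⟨_, x, hx, rfl⟩ ⟨_, y, hy, rfl⟩
      exact Subtype.ext (commutatorElement_eq_one_iff_mul_comm.1 (by
        rw [← map_commutatorElement]; exact (QuotientGroup.eq_one_iff _).2 (h (commutator_mem_commutator hx hy)))) }
  letI : SMul G (Additive M) := ⟨fun g x => .ofMul (MulAut.conjNormal (g : G ⧸ A) x.toMul)⟩
  have e : ∀ (g : G) (x : Additive M), g • x = .ofMul (MulAut.conjNormal (g : G ⧸ A) x.toMul) := fun _ _ => rfl
  letI : DistribMulAction G (Additive M) :=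
    { one_smul := fun x => by simp [e], mul_smul := fun g k x => by simp [e]
      smul_zero := fun g => by simp [e], smul_add := fun g x y => by simp [e] }
  refine ⟨Additive M, inferInstance, inferInstance, inferInstance,
    fun x => if h : x ∈ L then .ofMul ⟨x, x, h, rfl⟩ else 0, fun x hx y hy => ?_, fun x hx => ?_, ?_,
    fun g x hx => ?_, ?_⟩
  · simp only [hx, hy, mul_mem hx hy, dite_true]; rfl
  · simp [hx, Subtype.ext_iff]
  · rintro ⟨_, x, hx, rfl⟩; exact ⟨x, hx, by simp only [show x ∈ L from hx, dite_true]; rfl⟩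
  · simp only [hx, ‹L.Normal›.conj_mem x hx g, dite_true]; rfl
  · exact (relIndex_ker L (QuotientGroup.mk' A)).symm.trans (by rw [QuotientGroup.ker_mk'])

variable {W : Type u} [AddCommGroup W] [DistribMulAction G W] {p : G → W} (h : Sec A L W p)
include h

theorem Sec.one : p 1 = 0 := by simpa using h.add 1 (one_mem _) 1 (one_mem _)
theorem Sec.inv {x : G} (hx : x ∈ L) : p x⁻¹ = -p x :=
  eq_neg_of_add_eq_zero_left (by rw [← h.add _ (inv_mem hx) _ hx, inv_mul_cancel, h.one])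
theorem Sec.fix [L.Normal] (g : G) {x : G} (hx : x ∈ L) : g • p x = p x ↔ ⁅g, x⁆ ∈ A := by
  have := ‹L.Normal›.conj_mem x hx g
  rw [commutatorElement_def, ← h.ker _ (mul_mem this (inv_mem hx)), h.add _ this _ (inv_mem hx), h.conj g x hx,
    h.inv hx, add_neg_eq_zero]

def Sec.up (U : AddSubgroup W) : Subgroup G where
  carrier := {x | x ∈ L ∧ p x ∈ U}
  one_mem' := ⟨one_mem _, h.one ▸ zero_mem _⟩
  mul_mem' a b := ⟨mul_mem a.1 b.1, h.add _ a.1 _ b.1 ▸ add_mem a.2 b.2⟩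
  inv_mem' a := ⟨inv_mem a.1, h.inv a.1 ▸ neg_mem a.2⟩

theorem Sec.up_normal [L.Normal] {U : AddSubgroup W} (hU : Inv G U) : (h.up U).Normal :=
  ⟨fun x hx g => ⟨‹L.Normal›.conj_mem x hx.1 g, h.conj g x hx.1 ▸ hU g _ hx.2⟩⟩
theorem Sec.le_up (hA : A ≤ L) (U : AddSubgroup W) : A ≤ h.up U :=
  fun x hx => ⟨hA hx, (h.ker x (hA hx)).2 hx ▸ zero_mem _⟩
theorem Sec.up_le (U : AddSubgroup W) : h.up U ≤ L := fun _ hx => hx.1

theorem Sec.cr [L.Normal] (hA : A ≤ L) (H : ∀ U : Subgroup G, U.Normal → A ≤ U → U ≤ L →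
    ∃ U' : Subgroup G, U'.Normal ∧ U' ≤ L ∧ U ⊓ U' ≤ A ∧ ∀ x ∈ L, ∃ a ∈ U, ∃ b ∈ U', a * b = x) : CR G W := by
  intro U hU
  obtain ⟨U', n1, h1, h2, h3⟩ := H _ (h.up_normal hU) (h.le_up hA U) (h.up_le U)
  refine ⟨⟨⟨⟨p '' U', ?_⟩, 1, one_mem _, h.one⟩, ?_⟩, ?_, eq_bot_iff.2 ?_, eq_top_iff.2 fun w _ => ?_⟩
  · rintro _ _ ⟨x, hx, rfl⟩ ⟨y, hy, rfl⟩; exact ⟨_, mul_mem hx hy, h.add _ (h1 hx) _ (h1 hy)⟩
  · rintro _ ⟨x, hx, rfl⟩; exact ⟨_, inv_mem hx, h.inv (h1 hx)⟩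
  · rintro g _ ⟨x, hx, rfl⟩; exact ⟨_, n1.conj_mem x hx g, h.conj g x (h1 hx)⟩
  · rintro _ ⟨a, x, hx, rfl⟩; exact (h.ker x (h1 hx)).2 (h2 ⟨⟨h1 hx, a⟩, hx⟩)
  · obtain ⟨x, hx, rfl⟩ := h.surj w
    obtain ⟨a, ha, b, hb, rfl⟩ := h3 x hx
    rw [h.add a ha.1 b (h1 hb)]
    exact AddSubgroup.add_mem_sup ha.2 ⟨b, hb, rfl⟩
end

theorem three {X : Type*} {f : X → X} (hf : Function.Injective f) (ho : ∀ x, f (f x) = x → f x = x) {a b c : X}
    (h : ∀ x, x = a ∨ x = b ∨ x = c → f x = a ∨ f x = b ∨ f x = c) :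
    (f a = a ∧ f b = b ∧ f c = c) ∨ c ≠ a ∧ (f a = b ∧ f c = a ∨ f b = a ∧ f a = c) := by
  have h1 := h a (by simp); have h2 := h b (by simp); have h3 := h c (by simp)
  have := ho a; have := ho b; have := ho c
  have := @hf a b; have := @hf a c; have := @hf b c
  grind

/-- Gluck's lemma for groups of odd order -/
theorem St.gluck {n : ℕ} (hS : St.{u} n) (m : ℕ) : ∀ {G : Type u} [Group G] [Finite G], Odd (Nat.card G) →
    ∀ S : Subgroup G, S.index = m → m < n → ∃ Δ : Set G, (∀ g, ∀ s ∈ S, g * s ∈ Δ ↔ g ∈ Δ) ∧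
      ∀ k : G, (∀ g, k * g ∈ Δ ↔ g ∈ Δ) → ∀ g, g⁻¹ * k * g ∈ S := by
  induction m using Nat.strong_induction_on with
  | _ m ih =>
  intro G _ _ ho S hm hn
  rcases eq_or_ne S ⊤ with rfl | ht
  · exact ⟨∅, by simp, by simp⟩
  by_cases hc : IsCoatom S
  swap
  · obtain ⟨H, h1, h2⟩ : ∃ H, S < H ∧ H ≠ ⊤ := by simpa [IsCoatom, ht] using hc
    have e := relIndex_mul_index h1.le
    have e1 : 1 < H.index := one_lt_index_of_ne_top h2
    have e2 : 1 < S.relIndex H := one_lt_index_of_ne_top (by simpa using h1.not_ge)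
    obtain ⟨Δ, a, b⟩ := ih _ (by nlinarith) ho H rfl (by nlinarith)
    obtain ⟨Γ, c, d⟩ := ih _ (by rw [← relIndex]; nlinarith) (odd_sub ho H) (S.subgroupOf H) rfl
      (by rw [← relIndex]; nlinarith)
    obtain ⟨f, f1, f2, f3⟩ := wreath (y0 := Γ) (y1 := Γᶜ) (fun h e => by
      have := fix_sq (odd_sub ho H) (g := h) (x := Γ) (by rw [e, Set.smul_set_compl, e, compl_compl])
      rw [this] at e
      exact iff_not_self (Set.ext_iff.1 e 1)) a b
    have k : ∀ g (h : H), 1 ∈ f (g * h) ↔ h ∈ f g := fun g h => by simp [f1, Set.mem_inv_smul_set_iff]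
    refine ⟨{g | 1 ∈ f g}, fun g s hs => (k g ⟨s, h1.le hs⟩).trans ?_, fun x hx g => ?_⟩
    · rcases f2 g with ⟨y, e⟩ | ⟨y, e⟩ <;>
        simp [← e, Set.mem_smul_set_iff_inv_smul_mem, c _ _ (show ⟨s, h1.le hs⟩ ∈ S.subgroupOf H from hs)]
    · obtain ⟨h, e, e'⟩ := f3 x (fun g => Set.ext fun h => by rw [← k (x * g), ← k g, mul_assoc]; exact hx _) g
      have : ∀ y : H, (∀ z, y⁻¹ * h⁻¹ * y * z ∈ Γ ↔ z ∈ Γ) → g⁻¹ * x * g ∈ S := fun y hy => by
        simpa [e, mul_assoc, mem_subgroupOf] using d _ hy y⁻¹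
      rcases f2 g with ⟨y, e⟩ | ⟨y, e⟩ <;> refine this y fun z => ?_ <;>
        simpa [← e, Set.mem_smul_set_iff_inv_smul_mem, mul_assoc, not_iff_not] using Set.ext_iff.1 e' (y * z)
  have := FT.solvable_of_odd ho
  obtain ⟨N, _, -, h1, h2, h3⟩ := exists_ab (A := S.normalCore) (R := ⊤) fun e => ht (top_le_iff.1 (e.trans S.normalCore_le))
  have h4 : S ⊔ N = ⊤ := hc.2 _ (left_lt_sup.2 fun e => h1 (normal_le_normalCore.2 e))
  have h5 : ∀ g : G, ∃ s ∈ S, ∃ x ∈ N, g = x * s := fun g => by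
    obtain ⟨x, a, s, b, e⟩ := mem_sup_of_normal_left.1 (show g ∈ N ⊔ S by rw [sup_comm, h4]; trivial)
    exact ⟨s, b, x, a, e.symm⟩
  have h6 : ∀ x ∈ N, x ∈ S → x ∈ S.normalCore := fun x a b g => by
    obtain ⟨s, hs, y, hy, rfl⟩ := h5 g
    have := ‹N.Normal›.conj_mem x a s
    have e := mul_mem (S.normalCore_le (h2 (commutator_mem_commutator hy this))) (mul_mem (mul_mem hs b) (inv_mem hs))
    simpa [commutatorElement_def, mul_assoc] using e
  obtain ⟨W, _, _, _, p, hp⟩ := exists_sec (A := S.normalCore ⊓ N) (le_inf h2 (commutator_le_left _ _))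
  obtain ⟨v, w, h7⟩ := hS.cr ho (V := W) (by
    rw [hp.card, show S.normalCore ⊓ N = S ⊓ N from le_antisymm (inf_le_inf_right _ S.normalCore_le)
      fun x hx => ⟨h6 x hx.2 hx.1, hx.2⟩, inf_relIndex_right]
    exact ((relIndex_le_of_le_right le_top (by simpa using S.index_ne_zero_of_finite)).trans_eq
      (by simpa)).trans_lt hn) (hp.cr inf_le_right fun U a b c => by
      rcases c.eq_or_lt with rfl | e
      · exact ⟨⊥, inferInstance, bot_le, by simp, fun x hx => ⟨x, hx, 1, one_mem _, mul_one _⟩⟩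
      · exact ⟨N, ‹_›, le_rfl, inf_le_inf_right _ (h3 U a e), fun x hx => ⟨1, one_mem _, x, hx, one_mul _⟩⟩)
  obtain ⟨v, hv, rfl⟩ := hp.surj v
  obtain ⟨w, hw, rfl⟩ := hp.surj w
  have h8 : ∀ k : G, ∀ x ∈ N, ∀ y ∈ N, ∀ z ∈ N, k • (x : G ⧸ S) = y → k • ((1 : G) : G ⧸ S) = z →
      k • p x + p z = p y := fun k x hx y hy z hz a b => by
    have c := ‹N.Normal›.conj_mem x hx k
    have d := mul_mem (inv_mem hy) (mul_mem c hz)
    have := (hp.ker _ d).2 ⟨h6 _ d (by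
      simpa [mul_assoc] using mul_mem (QuotientGroup.eq.1 a.symm) (QuotientGroup.eq.1 b)), d⟩
    rwa [hp.add _ (inv_mem hy) _ (mul_mem c hz), hp.add _ c _ hz, hp.inv hy, hp.conj k x hx, neg_add_eq_zero,
      eq_comm] at this
  have h9 : ∀ a ∈ N, (p a = p v ∨ p a = -p v) → (∃ Δ : Set G, (∀ g, ∀ s ∈ S, g * s ∈ Δ ↔ g ∈ Δ) ∧
      ∀ k : G, (∀ g, k * g ∈ Δ ↔ g ∈ Δ) → ∀ g, g⁻¹ * k * g ∈ S) ∨
      (w : G ⧸ S) ≠ (1 : G) ∧ ∃ k : G, k • p w + p a = 0 := fun a ha hav => or_iff_not_imp_right.2 fun H =>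
    ⟨{g | (g : G ⧸ S) = (1 : G) ∨ (g : G ⧸ S) = a ∨ (g : G ⧸ S) = w}, fun g s hs => by
      simp [QuotientGroup.mk_mul_of_mem g hs], fun k hk g => by
      rcases three (f := fun x : G ⧸ S => k • x) (MulAction.injective k) (fun x => fix_sq ho)
        (a := (1 : G)) (b := a) (c := w) (fun x => QuotientGroup.induction_on x fun g => (hk g).2) with
        ⟨b, c, d⟩ | ⟨b, ⟨c, d⟩ | ⟨c, d⟩⟩
      · obtain ⟨s, hs, y, hy, rfl⟩ := h5 g
        have c' := h8 k a ha a ha 1 (one_mem _) c b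
        have d' := h8 k w hw w hw 1 (one_mem _) d b
        rw [hp.one, add_zero] at c' d'
        have := ((hp.fix k (inv_mem hy)).1 (h7 k (by rcases hav with e | e <;> simpa [e] using c') d' _)).1
        simpa [commutatorElement_def, mul_assoc] using mul_mem (mul_mem (inv_mem hs) (mul_mem
          (inv_mem (S.normalCore_le this)) (inv_mem (QuotientGroup.eq.1 b)))) hs
      · exact (H ⟨b, k, hp.one ▸ h8 k w hw 1 (one_mem _) a ha d c⟩).elim
      · exact (H ⟨b, k⁻¹, hp.one ▸ h8 k⁻¹ w hw 1 (one_mem _) a ha (inv_smul_eq_iff.2 d.symm)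
          (inv_smul_eq_iff.2 c.symm)⟩).elim⟩
  refine (h9 v hv (.inl rfl)).elim id fun ⟨a, k, b⟩ => (h9 v⁻¹ (inv_mem hv) (.inr (hp.inv hv))).elim id
    fun ⟨_, k', c⟩ => (a ?_).elim
  have d : (k⁻¹ * k') • p w = -p w := by
    rw [mul_smul, inv_smul_eq_iff, smul_neg, eq_neg_of_add_eq_zero_left b, eq_neg_of_add_eq_zero_left c, hp.inv hv]
  have e := fix_sq ho (g := k⁻¹ * k') (x := p w) (by rw [d, smul_neg, d, neg_neg])
  simpa using fix_sq ho (g := w) (x := ((1 : G) : G ⧸ S)) (QuotientGroup.eq.2 (by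
    simpa using inv_mem (S.normalCore_le ((hp.ker _ (mul_mem hw hw)).1 (by
      rw [hp.add _ hw _ hw, add_eq_zero_iff_eq_neg, ← d, e])).1)))

theorem Ir.all {G V : Type*} [Group G] [AddCommGroup V] [DistribMulAction G V] (hI : Ir G V) (U E : AddSubgroup V)
    (a : E ≠ ⊥) (b : ∀ g : G, ∀ x ∈ E, g • x ∈ U) (x : V) : x ∈ U := by
  have := (hI (⨅ g : G, U.comap (DistribSMul.toAddMonoidHom V g)) (fun g x hx => by
    simp only [AddSubgroup.mem_iInf, AddSubgroup.mem_comap, DistribSMul.toAddMonoidHom_apply, smul_smul] at hx ⊢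
    exact fun _ => hx _)).resolve_left fun e => a (eq_bot_iff.2 fun x hx => e.le (by simpa using fun g => b g x hx))
  simpa using AddSubgroup.mem_iInf.1 (this.ge (AddSubgroup.mem_top x)) 1

/-- the imprimitive case -/
theorem St.imp {G V : Type u} [Group G] [Finite G] [AddCommGroup V] [Finite V] [DistribMulAction G V]
    (hS : St.{u} (Nat.card V)) (ho : Odd (Nat.card G)) (hI : Ir G V) {H : Subgroup G} {D : AddSubgroup V}
    {π : V →+ V} (hD : Inv H D) (h0 : D ≠ ⊥) (h1 : D ≠ ⊤) (ha : ∀ g ∉ H, ∀ d ∈ D, π (g • d) = 0)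
    (hb : ∀ d ∈ D, π d = 0 → d = 0) : Bs G V := by
  classical
  have k0 := hI.all
  have hc : ∀ a ∈ D, ∀ b ∈ D, π a = π b → a = b := fun a c b d e =>
    sub_eq_zero.1 (hb _ (sub_mem c d) (by rw [map_sub, e, sub_self]))
  obtain ⟨d, hd, d0⟩ := (D.bot_or_exists_ne_zero).resolve_left h0
  obtain ⟨v, hv, w, hw, hn, h2⟩ : ∃ v ∈ D, ∃ w ∈ D, v ≠ w ∧ ∀ g : H, g • v = v → g • w = w → ∀ x ∈ D, g • x = x := by
    obtain ⟨v, hv, w, hw, h⟩ := hS.rel (odd_sub ho H) hD (D.card_le_card_addGroup.lt_of_ne fun e =>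
      h1 (D.eq_top_of_card_eq e)) fun U a b => or_iff_not_imp_left.2 fun c => b.antisymm fun x hx => by
        obtain ⟨y, hy, e⟩ := k0 ((U.map π).comap π) U c (fun g y hy => by
          by_cases hg : g ∈ H
          · exact ⟨_, a ⟨g, hg⟩ y hy, rfl⟩
          · exact ⟨0, zero_mem _, by rw [ha g hg y (b hy), map_zero]⟩) x
        exact hc y (b hy) x hx e ▸ hy
    rcases eq_or_ne v w with rfl | e
    · rcases eq_or_ne v 0 with rfl | e
      · exact ⟨d, hd, 0, hv, d0, fun g _ a => h g a a⟩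
      · exact ⟨v, hv, 0, zero_mem _, e, fun g a _ => h g a a⟩
    · exact ⟨v, hv, w, hw, e, h⟩
  obtain ⟨Δ, a, b⟩ := hS.gluck _ ho H rfl (by
    have := Fintype.ofFinite V
    refine (Nat.card_le_card_of_injective (fun q : G ⧸ H => (⟨q.out • d, (smul_ne_zero_iff_ne _).2 d0⟩ : {x : V // x ≠ 0}))
      fun q r e => by_contra fun c => d0 (hb d hd ?_)).trans_lt (by
        simpa using Fintype.card_subtype_lt (p := fun x : V => x ≠ 0) (x := 0) (by simp))
    rw [← ha (q.out⁻¹ * r.out) (fun e => c (by simpa using QuotientGroup.eq.2 e)) d hd, mul_smul,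
      ← Subtype.mk.inj e, inv_smul_smul])
  obtain ⟨f, f1, f2, f3⟩ := wreath (y0 := (v, w)) (y1 := (w, v)) (fun h e => hn (by
    simp only [Prod.smul_mk, Prod.mk.injEq] at e
    rw [← e.1, fix_sq (odd_sub ho H) (by rw [e.1, e.2])])) a b
  have f4 : ∀ g, (f g).1 ∈ D ∧ (f g).2 ∈ D := fun g => by
    rcases f2 g with ⟨y, e⟩ | ⟨y, e⟩ <;> rw [← e] <;> exact ⟨hD _ _ ‹_›, hD _ _ ‹_›⟩
  have := Fintype.ofFinite (G ⧸ H)
  have k : ∀ φ : G → V, (∀ g (h : H), φ (g * h) = h⁻¹ • φ g) → (∀ g, φ g ∈ D) → ∀ k : G,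
      k • ∑ q : G ⧸ H, q.out • φ q.out = ∑ q : G ⧸ H, q.out • φ q.out → ∀ g, φ (k * g) = φ g := fun φ a b => by
    have c : ∀ g : G, π (g⁻¹ • ∑ q : G ⧸ H, q.out • φ q.out) = π (φ g) := fun g => by
      rw [Finset.smul_sum, map_sum, Finset.sum_eq_single (g : G ⧸ H) (fun q _ e => by
        rw [smul_smul, ha _ (fun c => e (by simpa using (QuotientGroup.eq.2 c).symm)) _ (b _)]) (by simp)]
      obtain ⟨h, e⟩ := QuotientGroup.mk_out_eq_mul H g
      rw [e, a, smul_smul, inv_mul_cancel_left]; simp [← Subgroup.smul_def]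
    exact fun k e g => hc _ (b _) _ (b _) (by rw [← c, ← c, mul_inv_rev, mul_smul, inv_smul_eq_iff.2 e.symm])
  refine ⟨∑ q : G ⧸ H, q.out • (f q.out).1, ∑ q : G ⧸ H, q.out • (f q.out).2, fun x c c' y => ?_⟩
  have := k0 ((DistribSMul.toAddMonoidHom V x).eqLocus (.id V)) D h0 (fun g z hz => by
    obtain ⟨h, e, e'⟩ := f3 x (fun g => Prod.ext (k (fun g => (f g).1) (by simp [f1]) (fun g => (f4 g).1) x c g)
      (k (fun g => (f g).2) (by simp [f1]) (fun g => (f4 g).2) x c' g)) g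
    have : ∀ y : H, (y⁻¹ * h * y) • v = v → (y⁻¹ * h * y) • w = w → x • g • z = g • z := fun y a b => by
      have := h2 _ a b _ (hD y⁻¹ z hz)
      rw [smul_smul, mul_assoc, mul_inv_cancel, mul_one, mul_smul, smul_left_cancel_iff, Subgroup.smul_def, ← e,
        mul_smul, mul_smul, inv_smul_eq_iff] at this
      exact this
    rcases f2 g with ⟨y, e⟩ | ⟨y, e⟩ <;> simp only [← e, Prod.smul_mk, Prod.mk.injEq] at e' <;>
      refine this y ?_ ?_ <;> simp [mul_smul, e'.1, e'.2]) y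
  exact this

end Cfsg.Agent.H26.BT
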