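import Mathlib
import Cfsg.Agent.H26.BT2
import Cfsg.Agent.H26.AutP
import Cfsg.Agent.H26.SylNum
import Cfsg.Agent.H1.Cores

/-! Small modules for odd-order groups; the field generated by an abelian normal subgroup. -/

set_option autoImplicit false
set_option linter.unusedSectionVars false

namespace Cfsg.Agent.H26.BT

open Subgroup MulAction
open scoped Pointwise commutatorElement

universe u

section
variable {G W : Type*} [Group G] [Finite G] [AddCommGroup W] [Finite W] [DistribMulAction G W]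

variable (G W) in
def kr : Subgroup G := (DistribMulAction.toModuleAut ℤ W : G →* _).ker
theorem mem_kr {g : G} : g ∈ kr G W ↔ ∀ x : W, g • x = x := by simp [kr, LinearEquiv.ext_iff]

theorem Bs.idx (h : Bs G W) : (kr G W).index ≤ Nat.card W ^ 2 := by
  obtain ⟨v, w, h⟩ := h
  rw [sq, ← Nat.card_prod]
  refine Nat.card_le_card_of_injective (fun q : G ⧸ kr G W => (q.out • v, q.out • w)) fun q r e => ?_
  simp only [Prod.mk.injEq] at e
  simpa using QuotientGroup.eq.2 (mem_kr.2 (h (q.out⁻¹ * r.out) (by rw [mul_smul, ← e.1, inv_smul_smul])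
    (by rw [mul_smul, ← e.2, inv_smul_smul])))

theorem inv_range {U : AddSubgroup W} : Inv (DistribMulAction.toModuleAut ℤ W : G →* _).range U ↔ Inv G U :=
  ⟨fun h g => h ⟨_, g, rfl⟩, by rintro h ⟨_, g, rfl⟩; exact h g⟩

theorem card_dvd_gl [FaithfulSMul G W] (hC : CR G W) {r k : ℕ} (hr : r.Prime) (h : Nat.card W = r ^ k) :
    Nat.card G ∣ ∏ i ∈ Finset.range k, (r ^ k - r ^ i) := by
  have := Fact.mk hr
  obtain ⟨U, -, h1, h2⟩ := hC (nsmulAddMonoidHom r).ker fun g x hx => by
    simp only [AddMonoidHom.mem_ker, nsmulAddMonoidHom_apply] at hx ⊢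
    rw [← smul_comm, hx, smul_zero]
  have h3 : U = ⊥ := by
    by_contra e
    obtain ⟨j, -, hj⟩ := (Nat.dvd_prime_pow hr).1 (h ▸ U.card_addSubgroup_dvd_card)
    obtain ⟨x, hx⟩ := exists_prime_addOrderOf_dvd_card' (G := U) r (hj ▸ dvd_pow_self r (by
      rintro rfl; exact e (AddSubgroup.card_eq_one.1 hj)))
    have : x = 0 := Subtype.ext (h1.le ⟨congrArg Subtype.val (hx ▸ addOrderOf_nsmul_eq_zero x :), x.2⟩)
    simp [this] at hx; exact hr.ne_one hx.symm
  rw [h3, sup_bot_eq] at h2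
  rw [← card_mulAut_of_elementary (V := Multiplicative W) (fun x => h2.ge (AddSubgroup.mem_top x.toAdd)) h]
  exact card_dvd_of_injective ⟨⟨fun g => AddEquiv.toMultiplicative (DistribMulAction.toAddEquiv W g), by ext; simp⟩,
    fun _ _ => by ext; simp [mul_smul]⟩ fun a b e => eq_of_smul_eq_smul fun x : W => DFunLike.congr_fun e x

theorem small0 [FaithfulSMul G W] (ho : Odd (Nat.card G)) (hC : CR G W)
    (hN : ∀ U : AddSubgroup W, Inv G U → Nat.card U ≠ 3) (h : Nat.card W = 9 ∨ Nat.card W = 81) :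
    Nat.card G ≤ 5 ∧ (Nat.card W = 9 → Nat.card G ≤ 1) := by
  have k : ∀ s : ℕ, s.Prime → pCore s G ≠ ⊥ → s = 5 ∧ Nat.card W = 81 := fun s hs h0 => by
    have := Fact.mk hs
    have hU : Inv G (FixedPoints.addSubgroup (pCore s G) W) := fun g x hx y => by
      have := hx ⟨_, (inferInstance : (pCore s G).Normal).conj_mem' y y.2 g⟩
      rwa [Subgroup.mk_smul, mul_smul, mul_smul, inv_smul_eq_iff] at this
    obtain ⟨U, h1, h2, h3⟩ := hC _ hU
    let U' : SubMulAction (pCore s G) W := ⟨U, fun g x hx => h1 g x hx⟩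
    have h4 := (H1.isPGroup_pCore s G).card_modEq_card_fixedPoints U'
    rw [show Nat.card (fixedPoints (pCore s G) U') = 1 from Nat.card_eq_one_iff_unique.2 ⟨⟨fun x y => Subtype.ext (Subtype.ext
      ((h2.le ⟨fun g => congrArg Subtype.val (x.2 g), x.1.2⟩).trans (h2.le ⟨fun g => congrArg Subtype.val (y.2 g),
        y.1.2⟩).symm))⟩, ⟨⟨⟨0, U.zero_mem⟩, fun g => Subtype.ext (smul_zero g)⟩⟩⟩] at h4
    change Nat.card U ≡ 1 [MOD s] at h4
    have h5 := U.index_mul_card
    rw [← AddSubgroup.relIndex_top_right, ← h3, AddSubgroup.relIndex_sup_right, ← AddSubgroup.inf_relIndex_left,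
      h2, AddSubgroup.relIndex_bot_left] at h5
    have h6 : Nat.card U ≠ 1 := fun e => h0 (eq_bot_iff.2 fun g hg => eq_of_smul_eq_smul fun x : W => by
      rw [AddSubgroup.card_eq_one.1 e, sup_bot_eq] at h3
      simpa using h3.ge (AddSubgroup.mem_top x) ⟨g, hg⟩)
    have h7 := hN _ hU
    have h8 := hN _ h1
    have h9 : s ≠ 2 := by
      rintro rfl
      obtain ⟨j, hj⟩ := (H1.isPGroup_pCore 2 G).exists_card_eq
      have := odd_sub ho (pCore 2 G)
      rw [hj] at this
      exact h0 (card_eq_one.1 (hj.trans (Nat.coprime_self _ |>.1 ((Nat.coprime_two_right.2 this).pow_right j))))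
    obtain ⟨j, hj, e⟩ := (Nat.dvd_prime_pow Nat.prime_three).1
      (show Nat.card U ∣ 3 ^ 4 from U.card_addSubgroup_dvd_card.trans (by rcases h with h | h <;> simp [h]))
    have h10 := (Nat.modEq_iff_dvd' (Nat.card_pos (α := U))).1 h4.symm
    rw [e] at h5 h6 h8 h10
    interval_cases j
    · simp at h6
    · simp at h8
    · exact (h9 ((Nat.prime_dvd_prime_iff_eq hs Nat.prime_two).1 (hs.dvd_of_dvd_pow (n := 3) h10))).elim
    · omega
    · refine ⟨((Nat.Prime.dvd_mul hs).1 (show s ∣ 5 * 2 ^ 4 from h10)).elim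
        (Nat.prime_dvd_prime_iff_eq hs Nat.prime_five).1 fun a =>
          (h9 ((Nat.prime_dvd_prime_iff_eq hs Nat.prime_two).1 (hs.dvd_of_dvd_pow a))).elim, by omega⟩
  have hs := FT.solvable_of_odd ho
  have := Fact.mk Nat.prime_five
  have hF : fittingSubgroup G ≤ pCore 5 G := H1.fittingSubgroup_eq_iSup_pCore.trans_le (iSup_le fun s => by
    by_cases e : pCore s G = ⊥
    · simp [e]
    · rw [(k s s.2 e).1])
  by_cases e : pCore 5 G = ⊥
  · have : (⊤ : Subgroup G) = ⊥ := eq_bot_iff.2 (le_trans (by simp [le_bot_iff.1 (e ▸ hF)])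
      ((H1.centralizer_fittingSubgroup_le hs).trans (e ▸ hF)))
    simp [← card_top (G := G), this]
  have h1 := (k 5 Nat.prime_five e).2
  have h2 : Nat.card (pCore 5 G) = 5 := by
    obtain ⟨j, hj⟩ := (H1.isPGroup_pCore 5 G).exists_card_eq
    have := (pCore 5 G).card_subgroup_dvd_card.trans (card_dvd_gl hC Nat.prime_three (k := 4) h1)
    rw [hj] at this ⊢
    rcases j with _ | _ | j
    · exact (e (card_eq_one.1 hj)).elim
    · rfl
    · exact absurd ((pow_dvd_pow 5 (show 2 ≤ j + 1 + 1 by omega)).trans this) (by decide)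
  have h3 := relIndex_centralizer_dvd_of_card_prime Nat.prime_five h2
  rw [normalizer_eq_top, relIndex_top_right] at h3
  have h4 := index_eq_one.1 (Nat.eq_one_of_dvd_coprimes ((Nat.coprime_two_right.2 ho).pow_right 2)
    (index_dvd_card _) h3)
  refine ⟨?_, by omega⟩
  rw [← h2, ← card_top (G := G), ← h4]
  exact card_le_of_le (((centralizer_le hF).trans (H1.centralizer_fittingSubgroup_le hs)).trans hF)

theorem small (ho : Odd (Nat.card G)) (hC : CR G W) (hN : ∀ U : AddSubgroup W, Inv G U → Nat.card U ≠ 3) :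
    (Nat.card W = 9 → (kr G W).index ≤ 1) ∧ (Nat.card W = 25 → (kr G W).index ≤ 15) ∧
      (Nat.card W = 49 → (kr G W).index ≤ 63) ∧ (Nat.card W = 81 → (kr G W).index ≤ 5) := by
  rw [kr, index_ker]
  have : Finite (DistribMulAction.toModuleAut ℤ W : G →* _).range := Set.finite_range _
  have h1 := ho.of_dvd_nat (card_range_dvd (DistribMulAction.toModuleAut ℤ W : G →* _))
  have h2 : CR (DistribMulAction.toModuleAut ℤ W : G →* _).range W := by simpa only [CR, inv_range] using hC
  have h3 := small0 h1 h2 (by simpa only [inv_range] using hN)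
  have k := fun j => (Nat.coprime_two_right.2 h1).pow_right j
  refine ⟨fun h => (h3 (.inl h)).2 h, fun h => Nat.le_of_dvd (by simp) ((k 5).dvd_of_dvd_mul_right ?_),
    fun h => Nat.le_of_dvd (by simp) ((k 5).dvd_of_dvd_mul_right ?_), fun h => (h3 (.inr h)).1⟩
  · exact card_dvd_gl h2 Nat.prime_five (k := 2) h
  · exact card_dvd_gl h2 (r := 7) (by norm_num) (k := 2) h
end

variable {G V : Type u} [Group G] [Finite G] [AddCommGroup V] [Finite V] [DistribMulAction G V]

local notation "ρ" => (DistribMulAction.toModuleEnd ℤ V : G →* _)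

theorem St.dich (hS : St.{u} (Nat.card V)) (ho : Odd (Nat.card G)) (hI : Ir G V) {R : Subring (Module.End ℤ V)}
    (h1 : ∀ g, ∀ x ∈ R, ρ g * x * ρ g⁻¹ ∈ R) (hc : ∀ x ∈ R, ∀ y ∈ R, x * y = y * x) :
    Bs G V ∨ ∀ x ∈ R, x ≠ 0 → Function.Surjective x := by
  refine or_iff_not_imp_right.2 fun H => ?_
  push Not at H
  obtain ⟨y, hy, y0, y1⟩ := H
  let r : Module.End ℤ V → AddSubgroup V := fun x => x.toAddMonoidHom.range
  obtain ⟨x, h⟩ := exists_minimalFor_of_wellFoundedLT (fun x => x ∈ R ∧ x ≠ 0) (fun x => Nat.card (r x))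
    ⟨y, hy, y0⟩
  obtain ⟨hx, x0⟩ := h.1
  have h' : ∀ z ∈ R, z ≠ 0 → ∀ U, r z ≤ U → Nat.card U ≤ Nat.card (r x) → r z = U := fun z a b U c d =>
    AddSubgroup.eq_of_le_of_card_ge c (d.trans (h.le ⟨a, b⟩))
  have hD : Inv (stabilizer G (r x)) (r x) := fun g d hd => g.2.le (AddSubgroup.smul_mem_pointwise_smul _ _ _ hd)
  have ha : ∀ g ∉ stabilizer G (r x), ∀ d ∈ r x, x (g • d) = 0 := by
    rintro g hg _ ⟨v, rfl⟩
    by_contra e
    have a := mul_mem hx (h1 g x hx)
    have b : x * (ρ g * x * ρ g⁻¹) ≠ 0 := fun b => e (by simpa using LinearMap.congr_fun b (g • v))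
    refine hg ((h' _ a b _ ?_ (Nat.card_image_le (f := (g • ·)) (Set.toFinite (r x : Set V)))).symm.trans
      (h' _ a b _ ?_ le_rfl))
    · rw [hc _ hx _ (h1 g x hx)]
      rintro _ ⟨w, rfl⟩
      exact AddSubgroup.smul_mem_pointwise_smul _ g _ ⟨_, rfl⟩
    · rintro _ ⟨w, rfl⟩; exact ⟨_, rfl⟩
  have h0 : r x ≠ ⊥ := fun e => x0 (LinearMap.ext fun v => e.le ⟨v, rfl⟩)
  have h2 : x * x ≠ 0 := fun e => x0 (LinearMap.ext (hI.all x.toAddMonoidHom.ker _ h0 fun g d hd => by
    by_cases hg : g ∈ stabilizer G (r x)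
    · obtain ⟨v, hv⟩ := hD ⟨g, hg⟩ d hd
      exact (congrArg x hv).symm.trans (LinearMap.congr_fun e v)
    · exact ha g hg d hd))
  have h3 := h' _ (mul_mem hx hx) h2 _ (by rintro _ ⟨w, rfl⟩; exact ⟨_, rfl⟩) le_rfl
  have h4 : Function.Injective fun d : r x => (⟨x d, _, rfl⟩ : r x) :=
    Finite.injective_iff_surjective.2 fun d => by
      obtain ⟨v, hv⟩ := h3.ge d.2
      exact ⟨⟨x v, v, rfl⟩, Subtype.ext hv⟩
  refine hS.imp ho hI (π := x.toAddMonoidHom) hD h0 (fun e => y1 (AddMonoidHom.range_eq_top.1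
    (h' y hy y0 ⊤ le_top (e ▸ le_rfl)))) ha fun d hd e => congrArg Subtype.val (@h4 ⟨d, hd⟩ 0 (Subtype.ext ?_))
  simpa using e

theorem St.field [FaithfulSMul G V] [Nontrivial V] (hS : St.{u} (Nat.card V)) (ho : Odd (Nat.card G)) (hI : Ir G V)
    (A : Subgroup G) [A.Normal] (hA : ∀ a ∈ A, ∀ b ∈ A, a * b = b * a) :
    Bs G V ∨ ∃ (K : Type u) (_ : Field K) (_ : Finite K) (_ : Module K V) (ι : G → K),
      (∀ a ∈ A, ∀ v : V, a • v = ι a • v) ∧ (∀ g ∈ centralizer (A : Set G), ∀ (k : K) (v : V), g • k • v = k • g • v) ∧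
      2 ^ (centralizer (A : Set G)).index ≤ Nat.card K := by
  classical
  let R := Subring.closure (ρ '' A)
  have h1 : ∀ g, ∀ x ∈ R, ρ g * x * ρ g⁻¹ ∈ R := fun g x hx => by
    induction hx using Subring.closure_induction with
    | mem x h =>
      obtain ⟨a, ha, rfl⟩ := h
      exact Subring.subset_closure ⟨_, ‹A.Normal›.conj_mem a ha g, by simp only [map_mul]⟩
    | zero => simp
    | one => rw [mul_one, ← map_mul, mul_inv_cancel, map_one]; exact one_mem _
    | add x y _ _ a b => rw [mul_add, add_mul]; exact add_mem a b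
    | neg x _ a => rw [mul_neg, neg_mul]; exact neg_mem a
    | mul x y _ _ a b => convert mul_mem a b using 1; ext; simp
  have h2 : ∀ g ∈ centralizer (A : Set G), ∀ x ∈ R, x * ρ g = ρ g * x := fun g hg x hx =>
    (Subring.closure_le (t := Subring.centralizer {ρ g}) |>.2 (by
      rintro _ ⟨a, ha, rfl⟩ _ rfl; rw [← map_mul, ← map_mul, hg a ha]) hx _ rfl).symm
  have hc : ∀ x ∈ R, ∀ y ∈ R, x * y = y * x := fun x hx y hy =>
    Subring.closure_le (t := Subring.centralizer {x}) |>.2 (by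
      rintro _ ⟨a, ha, rfl⟩ _ rfl; exact h2 a (fun b hb => hA b hb a ha) _ hx) hy _ rfl
  refine (hS.dich ho hI h1 hc).imp_right fun H => ?_
  have : Finite (Module.End ℤ V) := DFunLike.finite _
  letI : CommRing R := { (inferInstance : Ring R) with mul_comm := fun x y => Subtype.ext (hc _ x.2 _ y.2) }
  have : NoZeroDivisors R := ⟨fun {x y} e => or_iff_not_imp_right.2 fun hy => Subtype.ext (LinearMap.ext fun v => by
    obtain ⟨v, rfl⟩ := H y y.2 (fun e => hy (Subtype.ext e)) v
    exact LinearMap.congr_fun (congrArg Subtype.val e) v)⟩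
  have : IsDomain R := NoZeroDivisors.to_isDomain R
  letI : Field R := (Finite.isField_of_domain R).toField
  refine ⟨R, inferInstance, inferInstance, inferInstance, fun g => if h : ρ g ∈ R then ⟨_, h⟩ else 0,
    fun a ha v => by simp only [show ρ a ∈ R from Subring.subset_closure ⟨a, ha, rfl⟩, dite_true]; rfl,
    fun g hg k v => (LinearMap.congr_fun (h2 g hg k k.2) v).symm, ?_⟩
  letI : SMul G R := ⟨fun g x => ⟨_, h1 g x x.2⟩⟩
  have e : ∀ (g : G) (x : R), (g • x).1 = ρ g * x * ρ g⁻¹ := fun _ _ => rfl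
  letI : MulSemiringAction G R :=
    { one_smul := fun x => Subtype.ext (by ext; simp [e])
      mul_smul := fun g k x => Subtype.ext (by ext; simp [e, mul_smul])
      smul_zero := fun g => Subtype.ext (by ext; simp [e])
      smul_add := fun g x y => Subtype.ext (by ext; simp [e])
      smul_one := fun g => Subtype.ext (by ext; simp [e])
      smul_mul := fun g x y => Subtype.ext (by ext; simp [e]) }
  let Γ := (MulSemiringAction.toRingAut G R).range
  have : Fintype Γ := (Set.finite_range _).fintype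
  have h3 := FixedPoints.finrank_eq_card Γ R
  rw [Module.natCard_eq_pow_finrank (K := FixedPoints.subfield Γ R), h3, ← Nat.card_eq_fintype_card, ← index_ker]
  refine (Nat.pow_le_pow_right two_pos (Nat.le_of_dvd (Nat.pos_of_ne_zero index_ne_zero_of_finite)
    (index_dvd_of_le fun g hg => mem_centralizer_iff.2 fun a ha => eq_of_smul_eq_smul fun v : V => ?_))).trans
    (Nat.pow_le_pow_left Finite.one_lt_card _)
  simpa [e, mul_smul] using LinearMap.congr_fun (congrArg Subtype.val (DFunLike.congr_fun hg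
    (⟨ρ a, Subring.subset_closure ⟨a, ha, rfl⟩⟩ : R))).symm (g • v)

end Cfsg.Agent.H26.BT
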