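import Mathlib
import Cfsg.Agent.H26.BT3

/-! The primitive case: structure. -/

set_option autoImplicit false
set_option linter.unusedSectionVars false

namespace Cfsg.Agent.H26.BT

open Subgroup MulAction Module
open scoped Pointwise commutatorElement

variable {G V K : Type*} [Group G] [Finite G] [AddCommGroup V] [Finite V] [Nontrivial V] [DistribMulAction G V]
  [FaithfulSMul G V] [Field K] [Module K V] {A L X Y : Subgroup G} [A.Normal] {ι : G → K}

local notation "C" X => Subgroup.centralizer (X : Set G)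

variable (V A ι) in
structure PD : Prop where
  act : ∀ a ∈ A, ∀ v : V, a • v = ι a • v
  lin : ∀ g ∈ C A, ∀ (k : K) (v : V), g • k • v = k • g • v
  ab : A ≤ C A
  max : ∀ B : Subgroup G, B.Normal → A ≤ B → B ≤ (C B) → B ≤ A

theorem cq : X.map (QuotientGroup.mk' A) ≤ centralizer (Y.map (QuotientGroup.mk' A)) ↔
    ∀ x ∈ X, ∀ y ∈ Y, ⁅x, y⁆ ∈ A := by
  rw [← commutator_eq_bot_iff_le_centralizer, ← map_commutator, Subgroup.map_eq_bot_iff, QuotientGroup.ker_mk', commutator_le]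

variable (h : PD V A ι)
include h

theorem PD.inj {a b : G} (ha : a ∈ A) (hb : b ∈ A) (e : ι a = ι b) : a = b :=
  eq_of_smul_eq_smul fun v : V => by rw [h.act a ha, h.act b hb, e]
theorem PD.mul {a b : G} (ha : a ∈ A) (hb : b ∈ A) : ι (a * b) = ι a * ι b := by
  obtain ⟨v, hv⟩ := exists_ne (0 : V)
  exact smul_left_injective K hv (by
    simp only [← h.act _ (mul_mem ha hb), mul_smul, h.act a ha, h.act b hb])
theorem PD.one : ι 1 = 1 := by
  obtain ⟨v, hv⟩ := exists_ne (0 : V)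
  exact smul_left_injective K hv (by simp only [← h.act _ (one_mem _), one_smul])

def PD.ch (hY : Y ≤ C A) {x : G} (hx : ∀ y ∈ Y, ⁅x, y⁆ ∈ A) : Y →* K where
  toFun y := ι ⁅x, y.1⁆
  map_one' := by simp [h.one]
  map_mul' y z := by
    rw [← h.mul (hx _ y.2) (hx _ z.2)]; congr 1
    have := hY y.2 _ (hx _ z.2)
    calc _ = ⁅x, y.1⁆ * (y * ⁅x, z.1⁆) * y.1⁻¹ := by simp [commutatorElement_def, mul_assoc]
      _ = _ := by rw [← this]; simp [mul_assoc]

theorem PD.ch_inj (hY : Y ≤ C A) (hX : ∀ x ∈ X, ∀ y ∈ Y, ⁅x, y⁆ ∈ A) :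
    Function.Injective fun q : X ⧸ (C Y).subgroupOf X => h.ch hY (hX _ q.out.2) := fun q r e => by
  simpa using QuotientGroup.eq.2 (show q.out⁻¹ * r.out ∈ (C Y).subgroupOf X from fun y hy => by
    have := h.inj (hX _ q.out.2 y hy) (hX _ r.out.2 y hy) (DFunLike.congr_fun e ⟨y, hy⟩)
    simp only [commutatorElement_def, mul_left_inj] at this
    calc _ = q.out.1⁻¹ * (q.out * y * q.out.1⁻¹) * r.out := by simp [mul_assoc]
      _ = _ := by rw [this]; simp [mul_assoc])

theorem PD.pair (hY : Y ≤ C A) (hX : ∀ x ∈ X, ∀ y ∈ Y, ⁅x, y⁆ ∈ A) : (C Y).relIndex X ≤ (C X).relIndex Y := by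
  have := Fintype.ofFinite (X ⧸ (C Y).subgroupOf X)
  have := Fintype.ofFinite (Y ⧸ (C X).subgroupOf Y)
  have h1 := (linearIndependent_monoidHom Y K).comp _ (h.ch_inj hY hX)
  have h2 : LinearIndependent K fun (q : X ⧸ (C Y).subgroupOf X) (c : Y ⧸ (C X).subgroupOf Y) =>
      h.ch hY (hX _ q.out.2) c.out := .of_comp (LinearMap.funLeft K K QuotientGroup.mk) (by
    convert h1 using 1
    swap; · rfl
    ext q y
    obtain ⟨z, hz⟩ := QuotientGroup.mk_out_eq_mul ((C X).subgroupOf Y) y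
    simp only [Function.comp, LinearMap.funLeft_apply, hz, map_mul]
    exact mul_right_eq_self₀.2 (.inl ((congrArg ι (commutatorElement_eq_one_iff_mul_comm.2 (z.2 _ q.out.2))).trans h.one)))
  simpa [relIndex, index] using h2.fintype_card_le_finrank

def PD.lm {g : G} (hg : g ∈ C A) : End K V :=
  { DistribSMul.toAddMonoidHom V g with map_smul' := h.lin g hg }

theorem PD.dim [Module.Finite K V] (hL : L ≤ C A) (hc : ∀ x ∈ L, ∀ y ∈ L, ⁅x, y⁆ ∈ A) :
    (C L).relIndex L ≤ finrank K V ^ 2 := by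
  have := Fintype.ofFinite (L ⧸ (C L).subgroupOf L)
  have h1 := (linearIndependent_monoidHom L K).comp _ (h.ch_inj hL hc)
  have h2 : LinearIndependent K fun q : L ⧸ (C L).subgroupOf L => h.lm (hL q.out.2) :=
    Fintype.linearIndependent_iff.2 fun c e q => by
      obtain ⟨v, hv⟩ := exists_ne (0 : V)
      refine (smul_eq_zero.1 ((forall_dual_apply_eq_zero_iff K (c q • q.out.1 • v)).1 fun φ => ?_)).resolve_right
        ((smul_ne_zero_iff_ne _).2 hv)
      refine Fintype.linearIndependent_iff.1 h1 (fun q => φ (c q • q.out.1 • v)) (funext fun l => ?_) q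
      have := congrArg (fun x => φ (l.1⁻¹ • x)) (LinearMap.congr_fun e (l.1 • v))
      simp only [LinearMap.sum_apply, Finset.smul_sum, map_sum, LinearMap.zero_apply, smul_zero, map_zero] at this
      rw [Finset.sum_apply, Pi.zero_apply, ← this]
      refine Finset.sum_congr rfl fun r _ => ?_
      change _ * ι ⁅r.out.1, l.1⁆ = φ (l.1⁻¹ • c r • r.out.1 • l.1 • v)
      rw [show r.out.1 • l.1 • v = ⁅r.out.1, l.1⁆ • l.1 • r.out.1 • v by simp [commutatorElement_def, smul_smul],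
        h.act _ (hc _ r.out.2 _ l.2), h.lin _ (inv_mem (hL l.2)), h.lin _ (inv_mem (hL l.2)), inv_smul_smul]
      simp only [map_smul, smul_eq_mul]; ring
  simpa [relIndex, index, finrank_linearMap, sq] using h2.fintype_card_le_finrank

variable (A L) in
structure LD : Prop where
  le : A ≤ L
  cen : L ≤ C A
  com : ∀ x ∈ L, ∀ y ∈ L, ⁅x, y⁆ ∈ A
  ker : ∀ g ∈ C A, (∀ y ∈ L, ⁅g, y⁆ ∈ A) → g ∈ L

theorem PD.nd {U : Subgroup G} [U.Normal] (h1 : A ≤ U) (h2 : U ≤ C A) : (C U) ⊓ U = A :=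
  le_antisymm (h.max _ inferInstance (le_inf (le_centralizer_iff.1 h2) h1) fun _ a _ b => a.1 _ b.2)
    (le_inf (le_centralizer_iff.1 h2) h1)

theorem PD.ri [L.Normal] (h1 : A ≤ L) (h2 : L ≤ C A) (hX : X ≤ L) : (C L).relIndex X = A.relIndex X := by
  rw [← h.nd h1 h2, ← inf_relIndex_right (_ ⊓ _), inf_assoc, inf_eq_right.2 hX, inf_relIndex_right]

theorem PD.exL [Group.IsSolvable G] : ∃ L : Subgroup G, L.Normal ∧ LD A L := by
  obtain ⟨L, hL, ⟨n1, h1, h2⟩, hm⟩ := Finite.exists_le_maximal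
    (p := fun L : Subgroup G => L.Normal ∧ L ≤ (C A) ∧ ∀ x ∈ L, ∀ y ∈ L, ⁅x, y⁆ ∈ A) (a := A)
    ⟨‹_›, h.ab, commutator_le.1 (commutator_le_left _ _)⟩
  have h3 : (C L) ≤ A := by
    by_contra e
    obtain ⟨N, n2, a, b, c, -⟩ := exists_ab e
    have d := cq.2 (commutator_le.1 ((commutator_eq_bot_iff_le_centralizer.2 a).trans_le (bot_le (a := A))))
    have := hm (y := L ⊔ N) ⟨inferInstance, sup_le h1 (a.trans (centralizer_le hL)), cq.1 (by
      rw [Subgroup.map_sup]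
      exact sup_le (le_centralizer_iff.1 (sup_le (cq.2 h2) d)) (le_centralizer_iff.1
        (sup_le (le_centralizer_iff.1 d) (cq.2 (commutator_le.1 c)))))⟩ le_sup_left
    exact b (h.nd hL h1 ▸ le_inf a (le_sup_right.trans this))
  let N : Subgroup G := (C A) ⊓ (centralizer (L.map (QuotientGroup.mk' A))).comap (QuotientGroup.mk' A)
  have h6 : L ≤ N := le_inf h1 (map_le_iff_le_comap.1 (cq.2 h2))
  have h7 := h.pair h1 (X := N) (cq.1 (map_le_iff_le_comap.2 inf_le_right))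
  rw [le_antisymm h3 (le_centralizer_iff.1 h1)] at h7
  replace h7 := h7.trans (relIndex_le_of_le_left (le_centralizer_iff.1 (inf_le_left : N ≤ _))
    (index_ne_zero_of_finite))
  rw [← relIndex_mul_relIndex _ _ _ hL h6] at h7
  refine ⟨L, n1, hL, h1, h2, fun g a b => relIndex_eq_one.1 (le_antisymm (Nat.le_of_mul_le_mul_left
    (h7.trans_eq (mul_one _).symm) (Nat.pos_of_ne_zero index_ne_zero_of_finite))
    (Nat.pos_of_ne_zero index_ne_zero_of_finite)) (show g ∈ N from ⟨a, ?_⟩)⟩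
  rintro _ ⟨y, hy, rfl⟩
  exact (commutatorElement_eq_one_iff_mul_comm.1 ((QuotientGroup.eq_one_iff _).2 (b y hy))).symm

variable [L.Normal] (hL : LD A L)
include hL

theorem PD.cr {U : Subgroup G} (n1 : U.Normal) (h1 : A ≤ U) (h2 : U ≤ L) :
    ∃ U' : Subgroup G, U'.Normal ∧ U' ≤ L ∧ U ⊓ U' ≤ A ∧ ∀ x ∈ L, ∃ a ∈ U, ∃ b ∈ U', a * b = x := by
  have h3 := h.nd h1 (h2.trans hL.cen)
  refine ⟨(C U) ⊓ L, inferInstance, inf_le_right, fun x hx => h3.le ⟨hx.2.1, hx.1⟩, fun x hx =>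
    mem_sup_of_normal_right.1 ((?_ : L ≤ _) hx)⟩
  have h4 := h.pair (h2.trans hL.cen) (X := L) fun x a y b => hL.com x a y (h2 b)
  rw [h.ri hL.le hL.cen h2, ← inf_relIndex_right (C U) L, show A = (C U) ⊓ L ⊓ U by
    rw [inf_assoc, inf_eq_right.2 h2, h3], inf_relIndex_right _ U, ← relIndex_sup_right U,
    ← relIndex_mul_relIndex _ _ _ le_sup_right (sup_le h2 inf_le_right)] at h4
  exact relIndex_eq_one.1 (le_antisymm (Nat.le_of_mul_le_mul_left
    (h4.trans_eq (mul_one _).symm) (Nat.pos_of_ne_zero index_ne_zero_of_finite)) (Nat.pos_of_ne_zero index_ne_zero_of_finite))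

theorem PD.sq : IsSquare (A.relIndex L) := by
  obtain ⟨T, hT, ⟨h1, h2⟩, hm⟩ := Finite.exists_le_maximal (p := fun T : Subgroup G => T ≤ L ∧ T ≤ C T) (a := A)
    ⟨hL.le, h.ab⟩
  have h3 : (C T) ⊓ L = T := le_antisymm (fun x hx => hm (y := T ⊔ zpowers x)
    ⟨sup_le h1 (zpowers_le.2 hx.2), by
      have : T ⊔ zpowers x ≤ C (zpowers x) := sup_le (le_centralizer_iff.1 (zpowers_le.2 hx.1)) (le_centralizer _)
      exact sup_le (le_centralizer_iff.1 (sup_le h2 (zpowers_le.2 hx.1))) (le_centralizer_iff.1 this)⟩ le_sup_left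
      (mem_sup_right (mem_zpowers x))) (le_inf h2 h1)
  have h4 := h.pair (h1.trans hL.cen) (X := L) fun x a y b => hL.com x a y (h1 b)
  have h5 := h.pair hL.cen (X := T) fun x a y b => hL.com x (h1 a) y b
  rw [h.ri hL.le hL.cen h1, ← inf_relIndex_right (C T), h3] at h4 h5
  exact ⟨A.relIndex T, by rw [← relIndex_mul_relIndex _ _ _ hT h1, h4.antisymm h5]⟩

theorem PD.exp {x : G} (hx : x ∈ L) : x ^ Nat.card A ∈ A := (h.nd hL.le hL.cen).le ⟨fun y hy => by
  have h1 := map_pow (h.ch hL.cen (hL.com y hy)) ⟨x, hx⟩ (Nat.card A)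
  have h2 := map_pow (⟨⟨fun a => ι a, h.one⟩, fun a b => h.mul a.2 b.2⟩ : A →* K) ⟨_, hL.com y hy x hx⟩ (Nat.card A)
  rw [pow_card_eq_one', map_one] at h2
  exact commutatorElement_eq_one_iff_mul_comm.1 (h.inj (hL.com y hy _ (pow_mem hx _)) (one_mem _)
    (h1.trans (h2.symm.trans h.one.symm))), pow_mem hx _⟩

end Cfsg.Agent.H26.BT
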