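import Mathlib
import Cfsg.Agent.H26.BT4

/-! The primitive case: counting.  Groups of odd order have bases of size two. -/

set_option autoImplicit false
set_option linter.unusedSectionVars false

namespace Cfsg.Agent.H26.BT

open Subgroup MulAction Module
open scoped Pointwise commutatorElement

universe u

theorem num1 {m : ℕ} : m ^ 3 ≤ 8 * 2 ^ m := by
  induction m with
  | zero => simp
  | succ m ih =>
    rcases lt_or_ge m 4 with h | h
    · interval_cases m <;> simp
    · have : 4 * (m + 1) ≤ 5 * m := by omega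
      have := Nat.pow_le_pow_left this 3
      rw [pow_succ 2]; nlinarith

theorem num2 {e : ℕ} (h : 23 ≤ e) : e ^ 18 * 4 ^ 3 ≤ 4 ^ (2 * e) := by
  induction e, h using Nat.le_induction with
  | base => norm_num
  | succ e h ih =>
    have := Nat.pow_le_pow_left (show 23 * (e + 1) ≤ 24 * e by omega) 18
    rw [mul_pow, mul_pow] at this
    rw [mul_add, pow_add]; omega

theorem num3 {e Q h : ℕ} (he : Odd e) (h5 : 5 ≤ e) (hr : ∀ r, r.Prime → r ∣ e → r ∣ Q - 1) (hQ : 2 ≤ Q) (h6 : Q ≠ 6)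
    (a : h ≤ (e * e) ^ 2) (b : e * e = 25 → h ≤ 15) (c : e * e = 49 → h ≤ 63) (d : e * e = 81 → h ≤ 5) :
    4 ≤ Q ∧ (Q * (e * e) * h) ^ 3 ≤ 5 * (Q ^ e) ^ 2 := by
  have k : ∀ n, n ≤ Q → ∀ j, h ≤ j → (e * e * j) ^ 3 ≤ 5 * n ^ (2 * e - 3) →
      (Q * (e * e) * h) ^ 3 ≤ 5 * (Q ^ e) ^ 2 := fun n a j b c => by
    rw [← pow_mul, show e * 2 = 3 + (2 * e - 3) by omega, pow_add, mul_assoc, mul_pow, mul_left_comm]
    exact Nat.mul_le_mul_left _ ((Nat.pow_le_pow_left (Nat.mul_le_mul_left _ b) 3).trans (c.trans (by gcongr)))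
  have h4 : 4 ≤ Q := by
    have h1 := Nat.le_of_dvd (by omega) (hr _ (Nat.minFac_prime (show e ≠ 1 by omega)) e.minFac_dvd)
    have h2 := (Nat.minFac_prime (show e ≠ 1 by omega)).two_le
    have : e.minFac ≠ 2 := fun h => by have := e.minFac_dvd; rw [h] at this; have := Nat.odd_iff.1 he; omega
    omega
  refine ⟨h4, ?_⟩
  rcases le_or_gt 23 e with h1 | h1
  · refine k 4 h4 _ a (Nat.le_of_mul_le_mul_right (c := 4 ^ 3) ?_ (by norm_num))
    rw [mul_assoc 5, ← pow_add, show 2 * e - 3 + 3 = 2 * e by omega]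
    have := num2 h1
    calc _ = e ^ 18 * 4 ^ 3 := by ring
      _ ≤ _ := by omega
  have := Nat.odd_iff.1 he
  have r3 := hr 3 (by norm_num); have r5 := hr 5 (by norm_num); have r7 := hr 7 (by norm_num)
  have r11 := hr 11 (by norm_num); have r13 := hr 13 (by norm_num); have r17 := hr 17 (by norm_num)
  have r19 := hr 19 (by norm_num)
  interval_cases e <;> try omega
  exacts [k 11 (by omega) _ (b rfl) (by norm_num), k 8 (by omega) _ (c rfl) (by norm_num),
    k 4 h4 _ (d rfl) (by norm_num), k 12 (by omega) _ a (by norm_num), k 12 (by omega) _ a (by norm_num),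
    k 12 (by omega) _ a (by norm_num), k 12 (by omega) _ a (by norm_num), k 12 (by omega) _ a (by norm_num),
    k 8 (by omega) _ a (by norm_num)]

section
variable {G V K : Type*} [Group G] [Finite G] [AddCommGroup V] [Finite V] [DistribMulAction G V]

variable (V) in
def fx (g : G) : AddSubgroup V := (DistribSMul.toAddMonoidHom V g).eqLocus (.id V)
theorem mem_fx {g : G} {v : V} : v ∈ fx V g ↔ g • v = v := Iff.rfl

theorem cube {U : AddSubgroup V} (a b : V →+ V)
    (h : ∀ x ∈ U, ∀ y ∈ U, ∀ z ∈ U, x + a y + b z = 0 → y = 0 ∧ z = 0) : Nat.card U ^ 3 ≤ Nat.card V := by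
  rw [pow_three, ← Nat.card_prod, ← Nat.card_prod]
  refine Nat.card_le_card_of_injective (fun x : U × U × U => x.1.1 + a x.2.1 + b x.2.2) fun x y e => ?_
  obtain ⟨h1, h2⟩ := h _ (x - y).1.2 _ (x - y).2.1.2 _ (x - y).2.2.2 (by
    simpa [sub_add_sub_comm, sub_eq_zero] using e)
  have h3 : x.2 = y.2 := sub_eq_zero.1 (Prod.ext (Subtype.ext h1) (Subtype.ext h2))
  exact Prod.ext (by simpa [h3] using e) h3

theorem half (x l : G) : Nat.card (fx V x) ^ 2 ≤ Nat.card V * Nat.card (fx V ⁅x, l⁆) := by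
  have h1 : Nat.card (fx V x) ≤ Nat.card (fx V (l * x⁻¹ * l⁻¹)) := Nat.card_le_card_of_injective
    (fun v => ⟨l • v.1, mem_fx.2 (by rw [mul_smul, inv_smul_smul, mul_smul, inv_smul_eq_iff.2 (mem_fx.1 v.2).symm])⟩)
    fun v w e => by simpa using e
  have h2 : fx V x ⊓ fx V (l * x⁻¹ * l⁻¹) ≤ fx V ⁅x, l⁆ := fun v hv => by
    rw [mem_fx, commutatorElement_def, mul_assoc, mul_assoc, ← mul_assoc l, mul_smul, mem_fx.1 hv.2, mem_fx.1 hv.1]
  have h3 := (AddSubgroup.relIndex_le_of_le_right (H := fx V (l * x⁻¹ * l⁻¹)) (K := fx V x) le_top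
    AddSubgroup.index_ne_zero_of_finite)
  have h4 := AddSubgroup.relIndex_mul_relIndex ⊥ _ _ bot_le (inf_le_left : fx V x ⊓ fx V (l * x⁻¹ * l⁻¹) ≤ _)
  rw [AddSubgroup.relIndex_top_right] at h3
  rw [AddSubgroup.relIndex_bot_left, AddSubgroup.relIndex_bot_left, AddSubgroup.inf_relIndex_left] at h4
  rw [sq, ← (fx V (l * x⁻¹ * l⁻¹)).index_mul_card, mul_right_comm]
  refine Nat.mul_le_mul ?_ h1
  rw [← h4, mul_comm]
  exact Nat.mul_le_mul h3 (AddSubgroup.card_le_of_le h2)

open Classical in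
theorem count [Fintype G] (ho : Odd (Nat.card G)) [FaithfulSMul G V] (h : ¬ Bs G V) :
    2 * Nat.card V ^ 2 ≤ ∑ g ∈ Finset.univ.erase (1 : G), Nat.card (fx V g) ^ 2 := by
  have := Fintype.ofFinite V
  simp only [Bs, not_exists, not_forall] at h
  calc _ = ∑ y : V × V, 2 := by simp [sq, mul_comm]
    _ ≤ ∑ y : V × V, ∑ g ∈ Finset.univ.erase (1 : G), if g • y = y then 1 else 0 := Finset.sum_le_sum fun y _ => by
      obtain ⟨g, a, b, x, c⟩ := h y.1 y.2
      have g1 : g ≠ 1 := by rintro rfl; simp at c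
      rw [Finset.sum_boole, Nat.cast_id, ← Finset.card_pair (a := g) (b := g⁻¹) fun e => g1 (by
        simpa using fix_sq ho (g := g) (x := (1 : G)) (by nth_rw 1 [e]; simp))]
      refine Finset.card_le_card fun z hz => ?_
      simp only [Finset.mem_insert, Finset.mem_singleton] at hz
      rcases hz with rfl | rfl <;> simp [g1, inv_smul_eq_iff, Prod.ext_iff, a, b]
    _ = _ := Finset.sum_comm.trans (Finset.sum_congr rfl fun g _ => by
      rw [Finset.sum_boole, Nat.cast_id, sq, ← Nat.card_prod, ← Fintype.card_subtype, ← Nat.card_eq_fintype_card]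
      exact Nat.card_congr ⟨fun y => (⟨y.1.1, congrArg Prod.fst y.2⟩, ⟨y.1.2, congrArg Prod.snd y.2⟩),
        fun y => ⟨(y.1, y.2), Prod.ext y.1.2 y.2.2⟩, fun _ => rfl, fun _ => rfl⟩)

variable [Nontrivial V] [FaithfulSMul G V] [Field K] [Module K V] {A L : Subgroup G} [A.Normal] {ι : G → K}
  (h : PD V A ι) (ho : Odd (Nat.card G))
include h ho

theorem PD.cube1 {x : G} (hx : x ∉ centralizer (A : Set G)) : Nat.card (fx V x) ^ 3 ≤ Nat.card V := by
  obtain ⟨a, ha, h1⟩ : ∃ a ∈ A, x * a * x⁻¹ ≠ a := by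
    by_contra! H; exact hx fun a ha => by rw [← mul_inv_eq_iff_eq_mul.1 (H a ha)]
  have k : ∀ a ∈ A, ∀ v : V, x • ι a • v = ι (x * a * x⁻¹) • x • v := fun a ha v => by
    rw [← h.act a ha, ← h.act _ (‹A.Normal›.conj_mem a ha x)]; simp [smul_smul]
  have hb := ‹A.Normal›.conj_mem a ha x
  have hc := ‹A.Normal›.conj_mem _ hb x
  have h2 := sub_ne_zero.2 fun e => h1 (h.inj hb ha e)
  have h3 : ι (x * (x * a * x⁻¹) * x⁻¹) - ι a ≠ 0 :=
    sub_ne_zero.2 fun e => h1 (fix_sq (G := ConjAct G) ho (g := .toConjAct x) (h.inj hc ha e))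
  have h4 : ι (x * (x * a * x⁻¹) * x⁻¹) - ι (x * a * x⁻¹) ≠ 0 :=
    sub_ne_zero.2 fun e => h1 ((MulAut.conj x).injective (h.inj hc hb e))
  refine cube (DistribSMul.toAddMonoidHom V (ι a)) (DistribSMul.toAddMonoidHom V (ι a * ι a))
    fun u hu v hv w hw e => ?_
  simp only [DistribSMul.toAddMonoidHom_apply, mul_smul] at e
  have e1 := congrArg (x • ·) e
  simp only [smul_add, k a ha, mem_fx.1 hu, mem_fx.1 hv, mem_fx.1 hw, smul_zero] at e1
  have e2 := congrArg (x • ·) e1
  simp only [smul_add, k _ hb, mem_fx.1 hu, mem_fx.1 hv, mem_fx.1 hw, smul_zero] at e2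
  generalize ι (x * (x * a * x⁻¹) * x⁻¹) = γ, ι (x * a * x⁻¹) = β, ι a = α at *
  obtain rfl : w = 0 := smul_right_injective V (mul_ne_zero h2 (mul_ne_zero h3 h4)) (by
    linear_combination (norm := module) (γ - β) • e - (γ - α) • e1 + (β - α) • e2)
  exact ⟨smul_right_injective V h2 (by linear_combination (norm := module) e1 - e), rfl⟩

theorem PD.cube2 [L.Normal] (hL : LD A L) {x : G} (hx : x ∈ L) (h1 : x ≠ 1) :
    Nat.card (fx V x) ^ 3 ≤ Nat.card V := by
  by_cases ha : x ∈ A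
  · rw [show fx V x = ⊥ from eq_bot_iff.2 fun v hv => smul_right_injective V
      (sub_ne_zero.2 fun e => h1 (h.inj ha (one_mem _) (e.trans h.one.symm))) (by
        simp only [sub_smul, ← h.act x ha, mem_fx.1 hv]; simp)]
    rw [AddSubgroup.card_bot, one_pow]; exact Nat.card_pos
  obtain ⟨l, hl, h2⟩ : ∃ l ∈ L, ⁅x, l⁆ ≠ 1 := by
    by_contra! H
    exact ha ((h.nd hL.le hL.cen).le ⟨fun l hl => (commutatorElement_eq_one_iff_mul_comm.1 (H l hl)).symm, hx⟩)
  have h3 := hL.com x hx l hl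
  have k : ∀ v : V, x • l • v = ι ⁅x, l⁆ • l • x • v := fun v => by
    rw [← h.act _ h3]; simp [commutatorElement_def, smul_smul]
  have h4 := sub_ne_zero.2 fun e => h2 (h.inj h3 (one_mem _) (e.trans h.one.symm))
  have h5 := sub_ne_zero.2 fun e => h2 (by simpa using fix_sq ho (g := ⁅x, l⁆) (x := (1 : G)) (by
    simpa using h.inj (mul_mem h3 h3) (one_mem _) ((h.mul h3 h3).trans (e.trans h.one.symm))))
  have h6 : ι ⁅x, l⁆ ≠ 0 := left_ne_zero_of_mul_eq_one ((h.mul h3 (inv_mem h3)).symm.trans (by rw [mul_inv_cancel, h.one]))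
  refine cube (DistribSMul.toAddMonoidHom V l) (DistribSMul.toAddMonoidHom V (l * l)) fun u hu v hv w hw e => ?_
  simp only [DistribSMul.toAddMonoidHom_apply, mul_smul] at e
  have e1 := congrArg (x • ·) e
  simp only [smul_add, k, mem_fx.1 hu, mem_fx.1 hv, mem_fx.1 hw, smul_zero, h.lin l (hL.cen hl)] at e1
  have e2 := congrArg (x • ·) e1
  simp only [smul_add, k, mem_fx.1 hu, mem_fx.1 hv, mem_fx.1 hw, smul_zero, h.lin l (hL.cen hl),
    h.lin x (hL.cen hx)] at e2
  suffices l • v = 0 ∧ l • l • w = 0 by simpa only [smul_eq_zero_iff_eq] using this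
  generalize ι ⁅x, l⁆ = ζ, l • l • w = w', l • v = v' at *
  obtain rfl : w' = 0 := smul_right_injective V (mul_ne_zero h5 (mul_ne_zero h6 h4)) (by
    linear_combination (norm := module) e2 - (1 + ζ) • e1 + ζ • e)
  exact ⟨smul_right_injective V h4 (by linear_combination (norm := module) e1 - e), rfl⟩
end

theorem St.prim {G V K : Type u} [Group G] [Finite G] [AddCommGroup V] [Finite V] [DistribMulAction G V]
    [Nontrivial V] [FaithfulSMul G V] [Field K] [Finite K] [Module K V] {A : Subgroup G} [A.Normal] {ι : G → K}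
    (hS : St.{u} (Nat.card V)) (h : PD V A ι) (ho : Odd (Nat.card G))
    (hm : 2 ^ (centralizer (A : Set G)).index ≤ Nat.card K) : Bs G V := by
  classical
  have := FT.solvable_of_odd ho
  have := Fintype.ofFinite G
  obtain ⟨L, _, hL⟩ := h.exL
  obtain ⟨W, _, _, _, p, hp⟩ := exists_sec (commutator_le.2 hL.com)
  have hC := hp.cr hL.le fun U => h.cr hL
  obtain ⟨e, he⟩ := h.sq hL
  have h1 := h.dim hL.cen hL.com
  rw [h.ri hL.le hL.cen le_rfl, he, ← sq, Nat.pow_le_pow_iff_left two_ne_zero] at h1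
  have hQ : 2 ≤ Nat.card K := Finite.one_lt_card
  have hN := natCard_eq_pow_finrank (K := K) (V := V)
  have h2 : Nat.card K ^ e ≤ Nat.card V := hN ▸ Nat.pow_le_pow_right (by omega) h1
  have h3 : Odd e := (Nat.odd_mul.1 (he ▸ ho.of_dvd_nat ((relIndex_dvd_card _ _).trans L.card_subgroup_dvd_card))).1
  have h4 : Nat.card A ∣ Nat.card K - 1 := Nat.card_units K ▸ card_dvd_of_injective
    (MonoidHom.toHomUnits ⟨⟨fun a : A => ι a, h.one⟩, fun a b => h.mul a.2 b.2⟩) fun a b e =>
      Subtype.ext (h.inj a.2 b.2 (congrArg Units.val e))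
  have h5 : ∀ r, r.Prime → r ∣ e → r ∣ Nat.card K - 1 := fun r hr a => by
    have := Fact.mk hr
    obtain ⟨x, hx⟩ := exists_prime_addOrderOf_dvd_card' (G := W) r (by rw [hp.card, he]; exact a.mul_right _)
    obtain ⟨x, b, rfl⟩ := hp.surj x
    refine (hx ▸ addOrderOf_dvd_of_nsmul_eq_zero ?_).trans h4
    rw [← (hp.ker _ (pow_mem b _)).2 (h.exp hL b)]
    generalize Nat.card A = n
    induction n with
    | zero => simp [hp.one]
    | succ n ih => rw [pow_succ, hp.add _ (pow_mem b _) _ b, succ_nsmul, ih]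
  have h6 : L.relIndex (centralizer (A : Set G)) ≤ (kr G W).index := by
    refine (relIndex_le_of_le_left (H := kr G W ⊓ centralizer (A : Set G))
      (fun g hg => hL.ker g hg.2 fun y hy => (hp.fix g hy).1 (mem_kr.1 hg.1 _)) index_ne_zero_of_finite).trans ?_
    rw [inf_relIndex_right, ← relIndex_top_right]
    exact relIndex_le_of_le_right le_top index_ne_zero_of_finite
  have h7 : e * e < Nat.card V := by
    rcases eq_or_ne e 1 with rfl | e1
    · exact Finite.one_lt_card
    have h7 := Nat.le_of_dvd (by omega) (h5 _ (Nat.minFac_prime e1) e.minFac_dvd)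
    have := (Nat.minFac_prime e1).two_le
    calc e * e < 2 ^ e * 2 ^ e := Nat.mul_lt_mul'' Nat.lt_two_pow_self Nat.lt_two_pow_self
      _ ≤ _ := by
        rw [← mul_pow]
        refine (Nat.pow_le_pow_left ?_ e).trans h2
        have : e.minFac ≠ 2 := fun h => by have := e.minFac_dvd; rw [h] at this; have := Nat.odd_iff.1 h3; omega
        omega
  have h8 := h6.trans (hS.cr ho (by rwa [hp.card, he]) hC).idx
  have h9 := small ho hC fun U hU e3 => by
    have := isCyclic_of_prime_card (α := Multiplicative U) (hp := ⟨Nat.prime_three⟩) e3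
    have a := h.max _ (hp.up_normal hU) (hp.le_up hL.le U) fun x hx y hy => congrArg Subtype.val
      (commutative_of_cyclic_center_quotient (G := hp.up U) (G' := Multiplicative U)
        ⟨⟨fun x => .ofAdd ⟨p x, x.2.2⟩, Subtype.ext hp.one⟩, fun x y => Subtype.ext (hp.add _ x.2.1 _ y.2.1)⟩
        (fun x hx => mem_center_iff.2 fun y => Subtype.ext
          (hL.cen y.2.1 _ ((hp.ker _ x.2.1).1 (congrArg Subtype.val hx))).symm) ⟨y, hy⟩ ⟨x, hx⟩)
    rw [show U = ⊥ from eq_bot_iff.2 fun w hw => by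
      obtain ⟨x, hx, rfl⟩ := hp.surj w
      exact (hp.ker x hx).2 (a ⟨hx, hw⟩)] at e3
    simp at e3
  rw [hp.card, he] at h8 h9
  have g1 := (centralizer (A : Set G)).index_mul_card
  have g2 := (relIndex_mul_relIndex ⊥ _ _ bot_le hL.cen).symm
  rw [← relIndex_mul_relIndex ⊥ _ _ bot_le hL.le, he, relIndex_bot_left, relIndex_bot_left] at g2
  have g3 : Nat.card A < Nat.card K := (Nat.le_of_dvd (by omega) h4).trans_lt (by omega)
  let c := Nat.findGreatest (· ^ 3 ≤ Nat.card V) (Nat.card V)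
  have c1 : c ^ 3 ≤ Nat.card V := Nat.findGreatest_spec (P := (· ^ 3 ≤ Nat.card V)) (Nat.zero_le _) (by simp)
  have c2 : ∀ y, y ^ 3 ≤ Nat.card V → y ≤ c := fun y a =>
    Nat.le_findGreatest ((Nat.le_self_pow three_ne_zero y).trans a) a
  have c3 : ∀ g ≠ (1 : G), (g ∈ centralizer (A : Set G) → g ∈ L) → Nat.card (fx V g) ^ 2 ≤ c ^ 2 := fun g a b =>
    Nat.pow_le_pow_left (c2 _ (by
      by_cases d : g ∈ centralizer (A : Set G)
      exacts [h.cube2 ho hL (b d) a, h.cube1 ho d])) 2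
  have c4 : (Finset.univ.erase (1 : G)).card ≤ Nat.card G := Finset.card_erase_le.trans (by simp)
  have g4 := num1.trans (Nat.mul_le_mul_left 8 hm)
  replace hm := Nat.lt_two_pow_self.trans_le hm
  by_contra hB
  replace hB := count ho hB
  by_cases hh : e = 1 ∨ e = 3
  · have g5 : L.relIndex (centralizer (A : Set G)) = 1 := le_antisymm (by
      rcases hh with rfl | rfl
      exacts [h8, h6.trans (h9.1 rfl)]) (Nat.pos_of_ne_zero index_ne_zero_of_finite)
    replace hB := Nat.pow_le_pow_left (hB.trans ((Finset.sum_le_card_nsmul _ _ _ fun g hg =>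
      c3 g (Finset.ne_of_mem_erase hg) fun a => relIndex_eq_one.1 g5 a).trans (Nat.mul_le_mul_right _ c4))) 3
    rw [← g1, g2, g5] at hB
    have g6 := Nat.card_pos (α := V)
    generalize Nat.card V = N, Nat.card K = Q, Nat.card A = a, (centralizer (A : Set G)).index = m at *
    have g7 : (m * (a * (e * e))) ^ 3 < 8 * N ^ 4 := by
      rcases hh with rfl | rfl
      · calc _ = m ^ 3 * a ^ 3 := by ring
          _ < 8 * Q * Q ^ 3 := Nat.mul_lt_mul_of_le_of_lt g4 (by gcongr) (by omega)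
          _ = 8 * (Q ^ 1) ^ 4 := by ring
          _ ≤ _ := by gcongr
      · have := h5 3 (by norm_num) dvd_rfl
        calc _ ≤ (Q * (Q * (3 * 3))) ^ 3 := by gcongr
          _ < Q ^ 6 * (8 * 4 ^ 6) := by rw [show (Q * (Q * (3 * 3))) ^ 3 = Q ^ 6 * 729 by ring]; gcongr; norm_num
          _ ≤ Q ^ 6 * (8 * Q ^ 6) := by gcongr; omega
          _ = 8 * (Q ^ 3) ^ 4 := by ring
          _ ≤ _ := by gcongr
    refine hB.not_gt ?_
    calc _ = (m * (a * (e * e))) ^ 3 * (c ^ 3) ^ 2 := by ring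
      _ ≤ (m * (a * (e * e))) ^ 3 * N ^ 2 := by gcongr
      _ < 8 * N ^ 4 * N ^ 2 := by gcongr
      _ = _ := by ring
  have e5 : 5 ≤ e := by have := Nat.odd_iff.1 h3; omega
  obtain ⟨g5, g6⟩ := num3 h3 e5 h5 hQ (fun a => by
      have := Fintype.ofFinite K
      obtain ⟨r, _, n, hr, b⟩ := FiniteField.card' K
      rw [← Nat.card_eq_fintype_card, a] at b
      have k := fun s hs (d : s ∣ 6) => (Nat.prime_dvd_prime_iff_eq hs hr).1 (hs.dvd_of_dvd_pow (b ▸ d))
      have := k 2 (by norm_num) (by norm_num); have := k 3 (by norm_num) (by norm_num); omega) h8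
    (fun a => h6.trans (h9.2.1 a)) (fun a => h6.trans (h9.2.2.1 a)) fun a => h6.trans (h9.2.2.2 a)
  have g7 := c2 _ ((Nat.pow_le_pow_right (by omega) (by omega)).trans h2)
  have g8 := c2 10 (le_trans (by norm_num) ((Nat.pow_le_pow_left g5 5).trans
    ((Nat.pow_le_pow_right (by omega) e5).trans h2)))
  replace hB := hB.trans (Finset.sum_le_sum (g := fun g => c ^ 2 + if g ∈ centralizer (A : Set G) then
    Nat.card V * c else 0) fun g hg => by
      by_cases a : g ∈ centralizer (A : Set G) → g ∈ L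
      · exact le_add_right (c3 g (Finset.ne_of_mem_erase hg) a)
      push Not at a
      obtain ⟨l, hl, b⟩ : ∃ l ∈ L, ⁅g, l⁆ ∉ A := by by_contra! H; exact a.2 (hL.ker g a.1 H)
      rw [if_pos a.1]
      exact le_add_left ((half g l).trans (Nat.mul_le_mul_left _ (c2 _ (h.cube2 ho hL
        (commutator_le_right ⊤ L (commutator_mem_commutator trivial hl)) fun d => b (d ▸ one_mem _))))))
  rw [Finset.sum_add_distrib, Finset.sum_const, ← Finset.sum_filter, Finset.sum_const] at hB
  replace hB := hB.trans (add_le_add (Nat.mul_le_mul_right _ c4) (Nat.mul_le_mul_right _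
    (show _ ≤ Nat.card (centralizer (A : Set G)) by
      rw [Nat.card_eq_fintype_card, Fintype.card_subtype]
      exact Finset.card_le_card (Finset.filter_subset_filter _ (Finset.erase_subset _ _)))))
  rw [← g1] at hB
  have g9 : Nat.card (centralizer (A : Set G)) ^ 3 ≤ 5 * Nat.card V ^ 2 := by
    rw [g2]; exact le_trans (by gcongr) (g6.trans (by gcongr))
  have g6 := Nat.card_pos (α := V)
  generalize Nat.card V = N, (centralizer (A : Set G)).index = m, Nat.card (centralizer (A : Set G)) = D at *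
  have k1 : m * D * c ^ 2 ≤ D * N := by
    calc _ ≤ c * D * c ^ 2 := by gcongr; omega
      _ = D * c ^ 3 := by ring
      _ ≤ _ := by gcongr
  have k2 : 20 * N ≤ 11 * (D * c) := Nat.le_of_mul_le_mul_left (c := N) (by
    nlinarith [Nat.mul_le_mul_left (D * N) g8]) g6
  have k3 := Nat.pow_le_pow_left k2 3
  have k4 := Nat.mul_le_mul g9 c1
  have : 0 < N ^ 3 := by positivity
  nlinarith

theorem st (n : ℕ) : St.{u} n := by
  induction n using Nat.strong_induction_on with
  | _ n ih =>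
  intro G V _ _ _ _ _ ho hn hI
  rcases subsingleton_or_nontrivial V with _ | _
  · exact ⟨0, 0, fun _ _ _ _ => Subsingleton.elim _ _⟩
  let Γ := (DistribMulAction.toModuleAut ℤ V : G →* _).range
  have : Finite Γ := Set.finite_range _
  have h1 : Odd (Nat.card Γ) := ho.of_dvd_nat (card_range_dvd _)
  suffices Bs Γ V from let ⟨v, w, h⟩ := this; ⟨v, w, fun g => h ⟨_, g, rfl⟩⟩
  obtain ⟨A, -, ⟨_, h2⟩, h3⟩ := Finite.exists_le_maximal
    (p := fun A : Subgroup Γ => A.Normal ∧ A ≤ centralizer A) (a := ⊥) ⟨inferInstance, bot_le⟩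
  refine ((ih _ hn).field h1 (by simpa only [Ir, Γ, inv_range] using hI) A fun a ha b hb => h2 hb a ha).elim id
    fun ⟨K, _, _, _, ι, a, b, c⟩ => (ih _ hn).prim ⟨a, b, h2, fun B d e f => h3 ⟨d, f⟩ e⟩ h1 c

theorem base_two {G V : Type*} [Group G] [Finite G] [AddCommGroup V] [Finite V] [DistribMulAction G V]
    (ho : Odd (Nat.card G)) (hC : CR G V) : Bs G V := by
  have : Finite (DistribMulAction.toModuleAut ℤ V : G →* _).range := Set.finite_range _
  obtain ⟨v, w, h⟩ := (st _).cr (G := (DistribMulAction.toModuleAut ℤ V : G →* _).range) (V := V)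
    (ho.of_dvd_nat (card_range_dvd _)) (Nat.lt_succ_self _) (by simpa only [CR, inv_range] using hC)
  exact ⟨v, w, fun g => h ⟨_, g, rfl⟩⟩

end Cfsg.Agent.H26.BT
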