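import Mathlib
import Cfsg.Agent.H1.Base5

/-! Coprime bases of size two, I: solvable permutation groups of order prime to three have regular
colourings with three colours. -/

set_option autoImplicit false
set_option linter.unusedSectionVars false

namespace Cfsg.Agent.H26.DB

open Subgroup MulAction Function
open scoped Pointwise commutatorElement IsMulCommutative

universe u

theorem fix_pow {G X : Type*} [Group G] [Finite G] [MulAction G X] {n : ℕ} (h : (Nat.card G).Coprime n) {g : G}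
    {x : X} (e : g ^ n • x = x) : g • x = x := by
  have h1 : g ^ n ∈ stabilizer G x := e
  obtain ⟨k, hk⟩ := exists_pow_eq_self_of_coprime (x := g) (n := n)
    (h.symm.coprime_dvd_right (orderOf_dvd_natCard g))
  exact hk ▸ pow_mem h1 k

theorem no3 {G X : Type*} [Group G] [Finite G] [MulAction G X] (h : ¬ 3 ∣ Nat.card G) {g : G}
    {x : X} (e : g • g • g • x = x) : g • x = x :=
  fix_pow ((Nat.prime_three.coprime_iff_not_dvd.2 h).symm) (by rwa [pow_three, mul_smul, mul_smul])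

abbrev F3 := ZMod 2 × ZMod 2 × ZMod 2
def dt (a b : F3) : ZMod 2 := a.1 * b.1 + a.2.1 * b.2.1 + a.2.2 * b.2.2
def tri : Fin 6 → Fin 3 → F3 := ![![(1,0,0), (0,1,0), (0,0,1)], ![(1,0,0), (0,1,0), (1,0,1)],
  ![(1,0,0), (0,1,0), (0,1,1)], ![(1,0,0), (1,1,0), (0,0,1)], ![(1,1,0), (1,0,1), (1,1,1)], ![(1,1,0), (0,1,1), (1,1,1)]]
def fn : Fin 6 → Fin 3 → F3 := ![![(0,1,1), (1,0,1), (1,1,0)], ![(0,1,1), (1,0,0), (1,1,1)],
  ![(0,1,0), (1,0,1), (1,1,1)], ![(0,1,1), (1,1,1), (1,0,0)], ![(0,0,1), (0,1,0), (0,1,1)], ![(0,0,1), (1,0,0), (1,0,1)]]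
def tv (i : Fin 6) (k : Fin 3) (x : F3) : F3 := x + dt (fn i k) x • (tri i (k + 1) + tri i (k + 2))

def inc (i : Fin 6) (a : Fin 3) (j : Fin 6) (b : Fin 3) : Prop :=
  dt (fn i a) (tri j (b + 1) + tri j (b + 2)) = 1 ∧ dt (fn j b) (tri i (a + 1) + tri i (a + 2)) = 1
instance (i : Fin 6) (a : Fin 3) (j : Fin 6) (b : Fin 3) : Decidable (inc i a j b) := by unfold inc; infer_instance

theorem tv_core1 : ∀ i a j b, inc i a j b → tv i a (tv j b (tri i (a + 1) + tri i (a + 2))) ≠ tri i (a + 1) + tri i (a + 2) ∧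
    tv i a (tv j b (tv i a (tv j b (tv i a (tv j b (tri i (a + 1) + tri i (a + 2))))))) =
      tri i (a + 1) + tri i (a + 2) := by decide +kernel

theorem tv_core2 : ∀ a b c d e f : Fin 3, ∃ i j, inc i (![a, b, c, d, e, f] i) j (![a, b, c, d, e, f] j) := by
  decide +kernel

theorem tv_core (k : Fin 6 → Fin 3) : ∃ i j x, tv i (k i) (tv j (k j) x) ≠ x ∧
    tv i (k i) (tv j (k j) (tv i (k i) (tv j (k j) (tv i (k i) (tv j (k j) x))))) = x := by
  obtain ⟨i, j, h⟩ := tv_core2 (k 0) (k 1) (k 2) (k 3) (k 4) (k 5)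
  rw [show ![k 0, k 1, k 2, k 3, k 4, k 5] = k by ext i; fin_cases i <;> rfl] at h
  exact ⟨i, j, _, tv_core1 _ _ _ _ h⟩

theorem tv_gen : ∀ i k x, ∃ a b c : ZMod 2, x = a • tri i k + b • tri i (k + 1) + c • tri i (k + 2) ∧
    tv i k x = a • tri i k + b • tri i (k + 2) + c • tri i (k + 1) := by decide +kernel

theorem tri_ne : ∀ i j k, tri i j = tri i k → j = k := by decide

section
variable {G W : Type*} [Group G] [Finite G] [AddCommGroup W] [DistribMulAction G W]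

variable (G W) in
def Rg : Prop := ∃ B : Set W, ∀ g : G, (∀ x ∈ B, g • x ∈ B) → ∀ x : W, g • x = x

theorem rg1 {u : W} (h : ∀ g : G, g • u = u → ∀ x : W, g • x = x) : Rg G W :=
  ⟨{u}, fun g hg => h g (hg u rfl)⟩

theorem rg_big {P : Prop} {u v w : W} (h : ∀ g : G, (P → g • u = u) → g • v = v → g • w = w → ∀ x : W, g • x = x)
    (hi : ∀ a b c : ℤ, (¬ P → a = 0) → a • u + b • v + c • w = 0 →
      (a = 0 ∨ 5 ≤ |a|) ∧ (b = 0 ∨ 5 ≤ |b|) ∧ (c = 0 ∨ 5 ≤ |c|)) : Rg G W := by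
  let e : ℤ × ℤ × ℤ → W := fun t => t.1 • u + t.2.1 • v + t.2.2 • w
  let S : List (ℤ × ℤ × ℤ) := [(1,0,0), (0,1,0), (0,2,0), (0,0,1), (0,0,-1), (0,0,2)]
  refine ⟨{x | ∃ t ∈ S, (¬ P → t.1 = 0) ∧ x = e t}, fun g hg => ?_⟩
  have k : ∀ n : ℤ, (n = 1 ∨ n = -1 ∨ n = 2) → ∀ t ∈ S, ∀ s ∈ S, (¬ P → t.1 = 0) → (¬ P → s.1 = 0) →
      (n = 2 → t ≠ (0,0,2)) → n • e t = e s → n • t = s := fun n hn t ht s hs a b c d => by
    have := hi (n * t.1 - s.1) (n * t.2.1 - s.2.1) (n * t.2.2 - s.2.2) (fun p => by simp [a p, b p])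
      (by simp only [e] at d; linear_combination (norm := module) d)
    clear d hi
    simp only [S, List.mem_cons, List.not_mem_nil, or_false] at ht hs
    rcases hn with rfl | rfl | rfl <;> rcases ht with rfl | rfl | rfl | rfl | rfl | rfl <;>
      rcases hs with rfl | rfl | rfl | rfl | rfl | rfl <;> simp at this c ⊢
  have k1 : ∀ t ∈ S, (¬ P → t.1 = 0) → ∃ s ∈ S, (¬ P → s.1 = 0) ∧ g • e t = e s := fun t a b => hg _ ⟨t, a, b, rfl⟩
  have k2 : ∀ t s : ℤ × ℤ × ℤ, ∀ n : ℤ, e t = n • e s → g • e t = n • g • e s := fun t s n a => by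
    rw [a, smul_comm]
  obtain ⟨t1, a1, b1, c1⟩ := k1 (0,0,1) (by simp [S]) (by simp)
  obtain ⟨t2, a2, b2, c2⟩ := k1 (0,0,-1) (by simp [S]) (by simp)
  obtain ⟨t3, a3, b3, c3⟩ := k1 (0,0,2) (by simp [S]) (by simp)
  obtain ⟨t4, a4, b4, c4⟩ := k1 (0,1,0) (by simp [S]) (by simp)
  obtain ⟨t5, a5, b5, c5⟩ := k1 (0,2,0) (by simp [S]) (by simp)
  have d1 := k (-1) (by simp) _ a1 _ a2 b1 b2 (by simp) (by rw [← c1, ← c2, k2 (0,0,-1) (0,0,1) (-1) (by simp [e])])
  have d2 := k 2 (by simp) _ a1 _ a3 b1 b3 (by rintro - rfl; subst d1; simp [S] at a2)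
    (by rw [← c1, ← c3, k2 (0,0,2) (0,0,1) 2 (by simp [e])])
  obtain rfl : t1 = (0,0,1) := by
    subst d1 d2; revert a1 a2 a3; generalize t1 = t; intro a; revert t; decide
  subst d1 d2
  have k3 : ∀ t ∈ S, ∀ s ∈ S, (¬ P → t.1 = 0) → (¬ P → s.1 = 0) → g • e s = e s → g • e t = e s → t = s :=
    fun t a s b c d x y => by
      simpa using k 1 (by simp) t a s b c d (by simp) (by simpa using MulAction.injective g (y.trans x.symm))
  have n1 : t4 ≠ (0,0,1) := by rintro rfl; simpa using k3 _ (by simp [S]) _ a4 (by simp) b4 c1 c4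
  have n2 : t4 ≠ (0,0,-1) := by rintro rfl; simpa using k3 _ (by simp [S]) _ a4 (by simp) b4 c2 c4
  have n3 : t4 ≠ (0,0,2) := by rintro rfl; simpa using k3 _ (by simp [S]) _ a4 (by simp) b4 c3 c4
  have d3 := k 2 (by simp) _ a4 _ a5 b4 b5 (fun _ => n3) (by rw [← c4, ← c5, k2 (0,2,0) (0,1,0) 2 (by simp [e])])
  obtain rfl : t4 = (0,1,0) := by
    subst d3; revert a4 a5 n1; generalize t4 = t; intro a; revert t; decide
  subst d3
  refine h g (fun p => ?_) (by simpa [e] using c4) (by simpa [e] using c1)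
  obtain ⟨t, a, b, c⟩ := k1 (1,0,0) (by simp [S]) (by simp [p])
  have := k3 (1,0,0) (by simp [S]) t a (by simp [p]) b
  simp only [S, List.mem_cons, List.not_mem_nil, or_false] at a
  rcases a with rfl | rfl | rfl | rfl | rfl | rfl
  · simpa [e] using c
  all_goals simpa using this ‹_› c

theorem rg_two (h3 : ¬ 3 ∣ Nat.card G) (h2 : ∀ x : W, x + x = 0) {u v : W}
    (h : ∀ g : G, g • u = u → g • v = v → ∀ x : W, g • x = x) : Rg G W := by
  by_contra H
  have k : ∀ a b : W, (∀ g : G, g • a = a → g • b = b → ∀ x : W, g • x = x) → ∃ g : G, g • a = b ∧ g • b = a :=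
    fun a b c => by
    by_contra! H'
    refine H ⟨{a, b}, fun g hg => ?_⟩
    have := hg a (by simp); have := hg b (by simp); have := H' g; have := @MulAction.injective _ W _ _ g a b
    apply c <;> grind
  obtain ⟨g, a, b⟩ := k u v h
  obtain ⟨s, c, d⟩ := k u (u + v) fun g a b => h g a (by rwa [smul_add, a, add_right_inj] at b)
  have e : s • v = v := by rw [smul_add, c] at d; linear_combination (norm := abel) d - h2 v
  have f : g • (u + v) = u + v := by rw [smul_add, a, b, add_comm]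
  have := no3 h3 (g := g * s) (x := u) (by simp only [mul_smul, c, f, d, a, e, b])
  rw [mul_smul, c, f, add_eq_left] at this
  exact H (rg1 fun g a => h g a (by rw [this, smul_zero]))

theorem rg_three (h3 : ¬ 3 ∣ Nat.card G) (e : F3 →+ W) (he : Injective e)
    (h : ∀ g : G, (∀ x, g • e x = e x) → ∀ x : W, g • x = x) : Rg G W := by
  by_contra H
  have k : ∀ i, ∃ k, ∃ g : G, ∀ x, g • e x = e (tv i k x) := fun i => by
    have k1 : ∀ (g : G) (k : Fin 3) a b c, g • e (tri i k) = e a → g • e (tri i (k + 1)) = e b →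
        g • e (tri i (k + 2)) = e c → ∀ α β γ : ZMod 2,
        g • e (α • tri i k + β • tri i (k + 1) + γ • tri i (k + 2)) = e (α • a + β • b + γ • c) :=
      fun g k a b c x y z α β γ => by
        have : ∀ α : ZMod 2, α = 0 ∨ α = 1 := by decide
        rcases this α with rfl | rfl <;> rcases this β with rfl | rfl <;> rcases this γ with rfl | rfl <;>
          simp [x, y, z]
    by_contra! H'
    refine H ⟨Set.range (e ∘ tri i), fun g hg => h g fun x => ?_⟩
    choose f hf using fun j => hg _ ⟨j, rfl⟩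
    simp only [comp] at hf
    have f1 : Injective f := fun a b c => tri_ne i _ _ (he (MulAction.injective g (by
      simp only [← hf, c])))
    have f2 : ∀ j, f (f (f j)) = j → f j = j := fun j a => tri_ne i _ _ (he (by
      rw [hf, no3 h3 (by rw [← hf, ← hf, ← hf, a])]))
    have f3 : ∀ k, ¬ (f k = k ∧ f (k + 1) = k + 2 ∧ f (k + 2) = k + 1) := fun k ⟨a, b, c⟩ => by
      obtain ⟨x, hx⟩ := H' k g
      obtain ⟨α, β, γ, p, q⟩ := tv_gen i k x
      exact hx (by rw [q, p]; exact k1 g k _ _ _ (by rw [← hf, a]) (by rw [← hf, b]) (by rw [← hf, c]) _ _ _)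
    have f4 : ∀ j, f j = j := by clear hf; revert f; decide
    obtain ⟨α, β, γ, p, -⟩ := tv_gen i 0 x
    rw [p]; exact k1 g 0 _ _ _ (by rw [← hf, f4]) (by rw [← hf, f4]) (by rw [← hf, f4]) _ _ _
  choose k g hg using k
  obtain ⟨i, j, x, a, b⟩ := tv_core k
  exact a (he (by
    have := no3 h3 (g := g i * g j) (x := e x) (by simp only [mul_smul, hg, b])
    rwa [mul_smul, hg, hg] at this))

theorem rg {r : ℕ} (hr : r.Prime) (h3 : ¬ 3 ∣ Nat.card G) (r3 : r ≠ 3) (hW : ∀ x : W, r • x = 0) {u v w : W}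
    (h : ∀ g : G, g • u = u → g • v = v → g • w = w → ∀ x : W, g • x = x) : Rg G W := by
  have k : ∀ (g : G) (x : W) (a : ℤ), ¬ (r : ℤ) ∣ a → a • (g • x - x) = 0 → g • x = x := fun g x a b c => by
    obtain ⟨s, t, e⟩ := (Nat.prime_iff_prime_int.1 hr).coprime_iff_not_dvd.2 b
    have := hW (g • x - x)
    rw [← natCast_zsmul] at this
    rw [← sub_eq_zero]
    generalize g • x - x = y at *
    linear_combination (norm := module) s • this + t • c - e • y
  have k0 : ∀ (g : G) (a b c : ℤ), a • u + b • v + c • w = 0 →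
      a • (g • u - u) + b • (g • v - v) + c • (g • w - w) = 0 := fun g a b c d => by
    have := congrArg (g • ·) d
    simp only [smul_add, smul_comm g, smul_zero] at this
    generalize g • u = x, g • v = y, g • w = z at *
    linear_combination (norm := module) this - d
  have k2 : ∀ u v : W, (∀ g : G, g • u = u → g • v = v → ∀ x : W, g • x = x) → Rg G W := fun u v h => by
    rcases eq_or_ne r 2 with rfl | r2
    · exact rg_two h3 (by simpa [two_smul] using hW) h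
    by_cases hi : ∀ b c : ℤ, b • u + c • v = 0 → (r : ℤ) ∣ b ∧ (r : ℤ) ∣ c
    · refine rg_big (P := False) (u := 0) (fun g _ => h g) fun a b c d e => ?_
      have := hr.five_le_of_ne_two_of_ne_three r2 r3
      obtain ⟨x, y⟩ := hi b c (by simpa using e)
      exact ⟨.inl (d id), or_iff_not_imp_left.2 fun z => le_trans (by omega) (Int.le_abs_of_dvd z x),
        or_iff_not_imp_left.2 fun z => le_trans (by omega) (Int.le_abs_of_dvd z y)⟩
    simp only [not_forall, not_and_or] at hi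
    obtain ⟨b, c, d, e⟩ := hi
    have : ∀ g : G, b • (g • u - u) + c • (g • v - v) = 0 := fun g => by
      have := congrArg (g • ·) d
      simp only [smul_add, smul_comm g, smul_zero] at this
      generalize g • u = x, g • v = y at *
      linear_combination (norm := module) this - d
    rcases e with e | e
    · exact rg1 fun g a => h g (k g u b e (by simpa [a] using this g)) a
    · exact rg1 fun g a => h g a (k g v c e (by simpa [a] using this g))
  by_cases hi : ∀ a b c : ℤ, a • u + b • v + c • w = 0 → (r : ℤ) ∣ a ∧ (r : ℤ) ∣ b ∧ (r : ℤ) ∣ c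
  · rcases eq_or_ne r 2 with rfl | r2
    · letI : Module (ZMod 2) W := AddCommGroup.zmodModule hW
      let e : F3 →+ W := AddMonoidHom.mk' (fun t => t.1 • u + t.2.1 • v + t.2.2 • w) fun s t => by
        simp only [Prod.fst_add, Prod.snd_add]; module
      refine rg_three h3 e ((injective_iff_map_eq_zero e).2 fun t ht => ?_) fun g hg =>
        h g (by simpa [e] using hg (1,0,0)) (by simpa [e] using hg (0,1,0)) (by simpa [e] using hg (0,0,1))
      have := hi t.1.val t.2.1.val t.2.2.val (by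
        simp only [natCast_zsmul, ← Nat.cast_smul_eq_nsmul (ZMod 2), ZMod.natCast_zmod_val]; exact ht)
      revert this; generalize t = t; revert t; decide
    refine rg_big (P := True) (fun g a => h g (a trivial)) fun a b c _ e => ?_
    have := hr.five_le_of_ne_two_of_ne_three r2 r3
    obtain ⟨x, y, z⟩ := hi a b c e
    exact ⟨or_iff_not_imp_left.2 fun z => le_trans (by omega) (Int.le_abs_of_dvd z x),
      or_iff_not_imp_left.2 fun z => le_trans (by omega) (Int.le_abs_of_dvd z y),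
      or_iff_not_imp_left.2 fun y => le_trans (by omega) (Int.le_abs_of_dvd y z)⟩
  simp only [not_forall, not_and_or] at hi
  obtain ⟨a, b, c, d, e | e | e⟩ := hi
  · exact k2 v w fun g x y => h g (k g u a e (by simpa [x, y] using k0 g a b c d)) x y
  · exact k2 u w fun g x y => h g x (k g v b e (by simpa [x, y] using k0 g a b c d)) y
  · exact k2 u v fun g x y => h g x y (k g w c e (by simpa [x, y] using k0 g a b c d))
end

section perm
open H1.Bs

def C3 (G : Type u) [Group G] : Prop := Group.IsSolvable G ∧ ¬ 3 ∣ Nat.card G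

variable {G Ω : Type u} [Group G] [Finite G] [Finite Ω]

theorem C3.sub (h : C3 G) (K : Subgroup G) : C3 K :=
  ⟨have := h.1; inferInstance, fun e => h.2 (e.trans K.card_subgroup_dvd_card)⟩

theorem multi3 {n : ℕ} (h : PP.{u} C3 (ZMod 3) n) (ψ : G →* Equiv.Perm Ω) (hG : C3 G) (K : Subgroup G) (Δ : Set Ω)
    (hne : Δ.Nonempty) (hΔ : ∀ g ∈ K, ∀ ω ∈ Δ, ψ g ω ∈ Δ) (hc : Nat.card Δ < n) :
    ∃ d : ZMod 3 → Ω → ZMod 3, ∀ g ∈ K, ∀ s t, (∀ ω ∈ Δ, d s (ψ g ω) = d t ω) → s = t ∧ ∀ ω ∈ Δ, ψ g ω = ω := by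
  obtain ⟨c, hc⟩ := h.set ψ K (hG.sub K) Δ hΔ hc
  refine ⟨fun s ω => c ω + s, fun g hg s t h3 => ?_⟩
  have h4 := hc (g * g * g) (mul_mem (mul_mem hg hg) hg) fun ω hω => by
    have a := h3 ω hω
    have b := h3 _ (hΔ g hg ω hω)
    have d := h3 _ (hΔ g hg _ (hΔ g hg ω hω))
    rw [pm_mul, pm_mul]
    linear_combination a + b + d + (t - s) * (by decide : (3 : ZMod 3) = 0)
  have h5 : ∀ ω ∈ Δ, ψ g ω = ω := fun ω hω => by
    letI := MulAction.compHom Ω ψ
    exact no3 hG.2 (g := g) (x := ω) (by have := h4 ω hω; rwa [pm_mul, pm_mul] at this)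
  obtain ⟨ω, hω⟩ := hne
  exact ⟨by simpa [h5 ω hω] using h3 ω hω, h5⟩

theorem trans3 (ψ : G →* Equiv.Perm Ω) (hG : C3 G) (hψ : Injective ψ) {U : Subgroup G} (hU : H2.IsMinNormal U)
    [IsMulCommutative U] (ω₀ : Ω) (htr : ∀ ω, ∃ u ∈ U, ψ u ω₀ = ω) : ∃ c : Ω → ZMod 3, RegP ψ c := by
  classical
  have := hU.normal
  have := hG.1
  have hreg : ∀ u ∈ U, ψ u ω₀ = ω₀ → u = 1 := fun u hu h => hψ (by
    rw [map_one]
    ext ω
    obtain ⟨v, hv, rfl⟩ := htr ω
    have : u * v = v * u := congrArg Subtype.val (mul_comm (⟨u, hu⟩ : U) ⟨v, hv⟩)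
    rw [← pm_mul, this, pm_mul, h]; rfl)
  let φ : stab ψ ω₀ →* MulAut U := MulAut.conjNormal.comp (stab ψ ω₀).subtype
  have hφ : ∀ h (u : U), (φ h u : G) = h * u * (h : G)⁻¹ := fun _ _ => rfl
  obtain ⟨x, hx⟩ := (solFam.all _).1 (stab ψ ω₀) U φ (inferInstance : Group.IsSolvable _) (Nat.lt_succ_self _) (by
    intro X hX
    have hn : (X.map U.subtype).Normal := ⟨by
      rintro _ ⟨w, hw, rfl⟩ g
      obtain ⟨u, hu, h⟩ := htr (ψ g ω₀)
      have h1 : u⁻¹ * g ∈ stab ψ ω₀ := by rw [mem_stab, pm_mul, ← h, pm_inv]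
      refine ⟨_, hX ⟨_, h1⟩ w hw, ?_⟩
      have := congrArg Subtype.val (mul_comm (⟨u, hu⟩ : U) (φ ⟨_, h1⟩ w))
      simp only [coe_mul, hφ] at this
      change u⁻¹ * g * w * (u⁻¹ * g)⁻¹ = g * w * g⁻¹
      exact mul_right_cancel (b := u) (by rw [← this]; group)⟩
    rcases hU.min _ hn (map_subtype_le X) with h | h
    · exact Or.inl ((map_eq_bot_iff_of_injective _ U.subtype_injective).1 h)
    · refine Or.inr (eq_top_iff.2 fun w _ => ?_)
      obtain ⟨w', h1, h2⟩ : (w : G) ∈ X.map U.subtype := h.symm ▸ w.2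
      exact Subtype.ext h2 ▸ h1)
  obtain ⟨r, hr, h1⟩ : ∃ r : ℕ, r.Prime ∧ ∀ u : U, u ^ r = 1 := by
    have := (nontrivial_iff_ne_bot U).2 hU.ne_bot
    obtain ⟨r, hr, d⟩ := Nat.exists_prime_and_dvd (Finite.one_lt_card (α := U)).ne'
    have := Fact.mk hr
    obtain ⟨y, hy⟩ := exists_prime_orderOf_dvd_card' r d
    rcases hU.min ((powMonoidHom r : U →* U).ker.map U.subtype) ⟨by
      rintro _ ⟨a, ha, rfl⟩ g
      exact ⟨MulAut.conjNormal g a, by
        change MulAut.conjNormal g a ^ r = 1; rw [← map_pow, show a ^ r = 1 from ha, map_one], rfl⟩⟩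
      (map_subtype_le _) with h | h
    · obtain rfl : y = 1 := Subtype.ext (h.le ⟨y, hy ▸ pow_orderOf_eq_one y, rfl⟩)
      exact absurd (by simpa using hy.symm) hr.ne_one
    · exact ⟨r, hr, fun u => by obtain ⟨a, b, c⟩ := h.ge u.2; exact Subtype.ext c ▸ b⟩
  letI : SMul (stab ψ ω₀) (Additive U) := ⟨fun g u => .ofMul (φ g u.toMul)⟩
  have e : ∀ (g : stab ψ ω₀) (u : Additive U), g • u = .ofMul (φ g u.toMul) := fun _ _ => rfl
  letI : DistribMulAction (stab ψ ω₀) (Additive U) :=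
    { one_smul := fun x => by simp [e], mul_smul := fun g k x => by simp [e]
      smul_zero := fun g => by simp [e], smul_add := fun g x y => by simp [e] }
  obtain ⟨B, hB⟩ := rg (G := stab ψ ω₀) (W := Additive U) hr (hG.sub _).2 (by
    rintro rfl
    have := (nontrivial_iff_ne_bot U).2 hU.ne_bot
    obtain ⟨y, hy⟩ := exists_ne (1 : U)
    exact hG.2 ((orderOf_eq_prime (h1 y) hy ▸ orderOf_dvd_natCard y).trans U.card_subgroup_dvd_card)) h1
    (u := .ofMul (x 0)) (v := .ofMul (x 1)) (w := .ofMul (x 2)) fun g a b c =>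
      hx g fun j => by fin_cases j; exacts [a, b, c]
  refine ⟨fun ω => if ω = ω₀ then 0 else if ∃ u ∈ B, ψ u.toMul ω₀ = ω then 1 else 2, fun g hg ω => ?_⟩
  have h0 : ψ g ω₀ = ω₀ := by
    have := hg ω₀
    simp only [if_true] at this
    split_ifs at this with a b
    exacts [a, absurd this (by decide), absurd this (by decide)]
  have h2 : ∀ u : U, ψ (φ ⟨g, h0⟩ u) ω₀ = ψ g (ψ u ω₀) := fun u => by
    rw [hφ, pm_mul, pm_mul, pm_inv_eq ψ h0]
  have h3 : ∀ u v : U, ψ u ω₀ = ψ v ω₀ → u = v := fun u v h => Subtype.ext (inv_mul_eq_one.1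
    (hreg _ (mul_mem (inv_mem u.2) v.2) (by rw [pm_mul, ← h, pm_inv])))
  obtain ⟨u, hu, rfl⟩ := htr ω
  refine (h2 ⟨u, hu⟩).symm.trans (congrArg (fun y : U => ψ y ω₀) (hB ⟨g, h0⟩ (fun y hy => ?_) (.ofMul ⟨u, hu⟩)))
  by_cases a : ψ y.toMul ω₀ = ω₀
  · obtain rfl : y = 0 := Subtype.ext (hreg _ y.toMul.2 a)
    rwa [smul_zero]
  have := hg (ψ y.toMul ω₀)
  simp only [if_neg a, if_pos (⟨y, hy, rfl⟩ : ∃ u ∈ B, ψ u.toMul ω₀ = _)] at this
  split_ifs at this with b c
  · exact absurd this (by decide)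
  · obtain ⟨z, c, d⟩ := c
    exact (show z = (⟨g, h0⟩ : stab ψ ω₀) • y from h3 _ _ (d.trans (h2 _).symm)) ▸ c
  · exact absurd this (by decide)

theorem intrans3 (ψ : G →* Equiv.Perm Ω) (hP : PP.{u} C3 (ZMod 3) (Nat.card Ω))
    (hG : C3 G) (hψ : Injective ψ) {U : Subgroup G} [hU : U.Normal] (h0 : U ≠ ⊥)
    (htr : ∀ ω₀, ¬ ∀ ω, ∃ u ∈ U, ψ u ω₀ = ω) : ∃ c : Ω → ZMod 3, RegP ψ c := by
  classical
  let orb : Ω → Set Ω := fun ω => {ω' | ∃ u ∈ U, ψ u ω = ω'}
  have horb : ∀ g ω, setP ψ g (orb ω) = orb (ψ g ω) := fun g ω => by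
    ext ω'
    rw [mem_setP]
    exact ⟨fun ⟨u, hu, h⟩ => ⟨_, hU.conj_mem u hu g, by rw [pm_mul, pm_inv, pm_mul, h, pm_inv']⟩,
      fun ⟨u, hu, h⟩ => ⟨_, hU.conj_mem' u hu g, by rw [pm_mul, pm_mul, h]⟩⟩
  have hmem : ∀ ω ω', ω' ∈ orb ω → orb ω' = orb ω := by
    rintro ω _ ⟨u, hu, rfl⟩
    ext ω'
    exact ⟨fun ⟨v, hv, h⟩ => ⟨_, U.mul_mem hv hu, by rw [pm_mul, h]⟩,
      fun ⟨v, hv, h⟩ => ⟨_, U.mul_mem hv (U.inv_mem hu), by rw [pm_mul, pm_inv, h]⟩⟩
  have hself : ∀ ω, ω ∈ orb ω := fun ω => ⟨1, U.one_mem, pm_one ψ ω⟩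
  obtain ⟨c, hc⟩ := hP.set (setP ψ) ⊤ (hG.sub _) (Set.range orb)
    (by rintro g - _ ⟨ω, rfl⟩; exact ⟨_, (horb g ω).symm⟩) (by
      have := Fintype.ofFinite Ω
      have := Fintype.ofFinite (Set.range orb)
      rw [Nat.card_eq_fintype_card, Nat.card_eq_fintype_card]
      refine Fintype.card_lt_of_surjective_not_injective _ Set.rangeFactorization_surjective
        fun hi => h0 (eq_bot_iff.2 fun u hu => hψ ?_)
      rw [map_one]
      ext ω
      exact hi (Subtype.ext (hmem ω _ ⟨u, hu, rfl⟩)))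
  have hd : ∀ D : Set Ω, ∃ d : ZMod 3 → Ω → ZMod 3, D ∈ Set.range orb → ∀ g ∈ stab (setP ψ) D, ∀ s t,
      (∀ ω ∈ D, d s (ψ g ω) = d t ω) → s = t ∧ ∀ ω ∈ D, ψ g ω = ω := fun D => by
    by_cases hD : D ∈ Set.range orb
    · obtain ⟨ω, rfl⟩ := hD
      obtain ⟨d, hd⟩ := multi3 hP ψ hG (stab (setP ψ) (orb ω)) (orb ω) ⟨ω, hself ω⟩
        (fun g hg ω' h => by rw [← mem_stab.1 hg, mem_setP, pm_inv]; exact h) (by
          rw [Nat.card_coe_set_eq, ← Set.ncard_univ]
          exact Set.ncard_lt_ncard ⟨Set.subset_univ _, fun h => htr ω fun ω' => h (Set.mem_univ ω')⟩)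
      exact ⟨d, fun _ => hd⟩
    · exact ⟨fun s _ => s, fun h => absurd h hD⟩
  choose d hd using hd
  obtain ⟨R, a, ha, hR⟩ := exists_rep (setP ψ)
  refine ⟨fun ω => d (R (orb ω)) (c (orb ω)) (ψ (a (orb ω))⁻¹ ω), fun g hg => ?_⟩
  have key : ∀ ω, c (setP ψ g (orb ω)) = c (orb ω) ∧
      ∀ ω' ∈ R (orb ω), ψ ((a (setP ψ g (orb ω)))⁻¹ * g * a (orb ω)) ω' = ω' := fun ω => by
    have hRD : R (orb ω) = orb (ψ (a (orb ω))⁻¹ ω) := by rw [← horb, pm_inv_eq _ (ha _)]
    refine hd (R (orb ω)) ⟨_, hRD.symm⟩ _ ?_ _ _ fun ω' h => ?_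
    · rw [mem_stab, pm_mul, pm_mul, ha, pm_inv_eq _ (ha _), hR]
    · have h1 : orb (ψ (a (orb ω)) ω') = orb ω := hmem _ _ (by
        rw [← ha (orb ω), mem_setP, ha, pm_inv]; exact h)
      have := hg (ψ (a (orb ω)) ω')
      simp only [← horb g, hR, h1, pm_inv] at this
      rw [pm_mul, pm_mul]
      exact this
  intro ω
  have h1 := hc g (mem_top g) (by rintro _ ⟨ω, rfl⟩; exact (key ω).1) _ ⟨ω, rfl⟩
  have h2 := (key ω).2 (ψ (a (orb ω))⁻¹ ω) (by rw [← mem_setP, ha]; exact hself ω)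
  rw [h1, pm_mul, pm_mul, pm_inv'] at h2
  exact (ψ _).injective h2

theorem three_colours (n : ℕ) : PP.{u} C3 (ZMod 3) n := by
  induction n with
  | zero => exact fun _ _ _ _ _ _ _ h => absurd h (Nat.not_lt_zero _)
  | succ n hP =>
  intro G Ω _ _ _ ψ hG hc
  suffices ∃ c : Ω → ZMod 3, RegP ψ.range.subtype c by
    obtain ⟨c, h⟩ := this
    exact ⟨c, fun g hg => h ⟨ψ g, g, rfl⟩ hg⟩
  have := hG.1
  have hG' : C3 ψ.range := ⟨Group.isSolvable_of_surjective ψ.rangeRestrict_surjective,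
    fun e => hG.2 (e.trans (card_range_dvd ψ))⟩
  rcases subsingleton_or_nontrivial ψ.range with h | h
  · exact ⟨fun _ => 0, fun g _ ω => by rw [Subsingleton.elim g 1, pm_one]⟩
  have := hG'.1
  obtain ⟨U, hU, _, -⟩ := H2.exists_isMinNormal_of_isSolvable (G := ψ.range)
  by_cases htr : ∃ ω₀, ∀ ω, ∃ u ∈ U, ψ.range.subtype u ω₀ = ω
  · obtain ⟨ω₀, h⟩ := htr
    exact trans3 _ hG' (subtype_injective _) hU ω₀ h
  · have := hU.normal
    exact intrans3 _ (hP.mono (by omega)) hG' (subtype_injective _) hU.ne_bot (not_exists.1 htr)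
end perm

end Cfsg.Agent.H26.DB
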