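import Mathlib
import Cfsg.Agent.H26.BT5
import Cfsg.Agent.H26.DB1

/-! Coprime bases of size two, II: reduction to the primitive case. -/

set_option autoImplicit false
set_option linter.unusedSectionVars false

namespace Cfsg.Agent.H26.DB

open Subgroup MulAction BT
open scoped Pointwise commutatorElement

universe u

section
variable {G : Type u} [Group G] [Finite G]

theorem wreath {H : Subgroup G} {Y κ : Type*} [MulAction H Y] {y : κ → Y} {c : G ⧸ H → κ}
    (hy : ∀ (h : H) q r, h • y (c q) = y (c r) → c q = c r)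
    (h2 : ∀ k : G, (∀ q, c (k • q) = c q) → ∀ q : G ⧸ H, k • q = q) :
    ∃ f : G → Y, (∀ g (h : H), f (g * h) = h⁻¹ • f g) ∧ (∀ g, ∃ s, f g ∈ orbit H (y s)) ∧
      ∀ k, (∀ g, f (k * g) = f g) → ∀ g, ∃ h : H, g⁻¹ * k * g = h ∧ h • f g = f g := by
  let η : G → H := fun g => ⟨g⁻¹ * (g : G ⧸ H).out, QuotientGroup.eq.1 (by simp)⟩
  let f : G → Y := fun g => η g • y (c g)
  have k1 : ∀ g (h : H), f (g * h) = h⁻¹ • f g := fun g h => by
    simp only [f, QuotientGroup.mk_mul_of_mem g h.2, smul_smul]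
    congr 1; ext; simp [η, mul_assoc]
  refine ⟨f, k1, fun g => ⟨_, mem_orbit _ _⟩, fun k hk g => ⟨⟨g⁻¹ * k * g, ?_⟩, rfl, ?_⟩⟩
  · simpa [mul_assoc] using QuotientGroup.eq.1 (h2 k (fun q => QuotientGroup.induction_on q fun g =>
      hy ((η g)⁻¹ * η (k * g)) _ _ (by rw [mul_smul, inv_smul_eq_iff]; exact hk g)) g).symm
  · rw [← eq_inv_smul_iff, ← k1, ← hk g]; simp [mul_assoc]

theorem colours {p : ℕ} (hp : p.Prime) (p2 : p ≠ 2) (hs : Group.IsSolvable G) (hc : ¬ p ∣ Nat.card G)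
    (H : Subgroup G) : ∃ c : G ⧸ H → ℕ, (∀ q, c q < p) ∧
      ∀ k : G, (∀ q, c (k • q) = c q) → ∀ q : G ⧸ H, k • q = q := by
  rcases eq_or_ne p 3 with rfl | p3
  · obtain ⟨c, h⟩ := three_colours _ G (G ⧸ H) (toPermHom G _) ⟨hs, hc⟩ (Nat.lt_succ_self _)
    exact ⟨fun q => (c q).val, fun q => ZMod.val_lt _, fun k a => h k fun q => ZMod.val_injective _ (a q)⟩
  · obtain ⟨c, h⟩ := H1.Bs.five_colours (toPermHom G (G ⧸ H)) hs
    exact ⟨fun q => c q, fun q => (c q).2.trans_le (hp.five_le_of_ne_two_of_ne_three p2 p3),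
      fun k a => h k fun q => Fin.ext (a q)⟩

variable {V : Type*} [AddCommGroup V] [DistribMulAction G V]

theorem exproj {F V : Type*} [Field F] [AddCommGroup V] [Module F V] (U : Submodule F V) :
    ∃ π : V →+ V, (∀ v, π v ∈ U) ∧ ∀ v ∈ U, π v = v := by
  obtain ⟨W, hW⟩ := U.exists_isCompl
  exact ⟨(U.subtype.comp (U.linearProjOfIsCompl W hW)).toAddMonoidHom, fun v => Subtype.property _,
    fun v hv => congrArg Subtype.val (Submodule.linearProjOfIsCompl_apply_left hW ⟨v, hv⟩)⟩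

theorem maschke {p : ℕ} (hp : p.Prime) (hc : ¬ p ∣ Nat.card G) (hV : ∀ v : V, p • v = 0) : CR G V := by
  intro U hU
  have := Fact.mk hp
  have := Fintype.ofFinite G
  letI : Module (ZMod p) V := AddCommGroup.zmodModule hV
  let U' : Submodule (ZMod p) V := AddSubgroup.toZModSubmodule p U
  obtain ⟨π, h1, h2⟩ : ∃ π : V →+ V, (∀ v, π v ∈ U) ∧ ∀ v ∈ U, π v = v := exproj U'
  let τ : V →+ V := AddMonoidHom.mk' (fun v => ∑ g : G, g⁻¹ • π (g • v)) fun v w => by
    simp only [smul_add, map_add, Finset.sum_add_distrib]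
  have e : ∀ v, τ v = ∑ g : G, g⁻¹ • π (g • v) := fun _ => rfl
  have h3 : ∀ v ∈ U, τ v = (Nat.card G : ZMod p) • v := fun v hv => by
    simp [e, h2 _ (hU _ v hv), Nat.cast_smul_eq_nsmul]
  have h4 : (Nat.card G : ZMod p) ≠ 0 := by rwa [Ne, ZMod.natCast_eq_zero_iff]
  have h5 : ∀ v, τ v ∈ U := fun v => sum_mem fun g _ => hU _ _ (h1 _)
  refine ⟨τ.ker, fun g v hv => ?_, eq_bot_iff.2 fun v hv => ?_, eq_top_iff.2 fun v _ => ?_⟩
  · rw [AddMonoidHom.mem_ker, e, ← Equiv.sum_comp (Equiv.mulRight g⁻¹)]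
    simpa [e, mul_smul, ← Finset.smul_sum] using congrArg (g • ·) hv
  · have := (h3 v hv.1).symm.trans hv.2
    rw [AddSubgroup.mem_bot, ← inv_smul_smul₀ h4 v, this, smul_zero]
  · have h6 : (Nat.card G : ZMod p)⁻¹ • τ v ∈ U := U'.smul_mem _ (h5 v)
    rw [← add_sub_cancel ((Nat.card G : ZMod p)⁻¹ • τ v) v]
    exact AddSubgroup.add_mem_sup h6 (by
      rw [AddMonoidHom.mem_ker, map_sub, h3 _ h6, smul_inv_smul₀ h4, sub_self])
end

def St (p n : ℕ) : Prop := ∀ (G V : Type u) [Group G] [Finite G] [AddCommGroup V] [Finite V] [DistribMulAction G V],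
  Group.IsSolvable G → ¬ p ∣ Nat.card G → (∀ v : V, p • v = 0) → Nat.card V < n → Ir G V → Bs G V

section
variable {p n : ℕ} (hS : St.{u} p n) {G V : Type u} [Group G] [Finite G] [AddCommGroup V] [Finite V]
  [DistribMulAction G V] (hs : Group.IsSolvable G) (ho : ¬ p ∣ Nat.card G) (hV : ∀ v : V, p • v = 0)
include hS hs ho hV

theorem St.rel {D : AddSubgroup V} (hD : Inv G D) (hn : Nat.card D < n)
    (hI : ∀ U, Inv G U → U ≤ D → U = ⊥ ∨ U = D) :
    ∃ v ∈ D, ∃ w ∈ D, ∀ g : G, g • v = v → g • w = w → ∀ x ∈ D, g • x = x := by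
  letI : SMul G D := ⟨fun g x => ⟨g • x.1, hD g _ x.2⟩⟩
  letI : DistribMulAction G D := Function.Injective.distribMulAction D.subtype Subtype.val_injective fun _ _ => rfl
  obtain ⟨v, w, h⟩ := hS G D hs ho (fun v => Subtype.ext (hV v)) hn fun U hU => (hI (U.map D.subtype)
    (by rintro g _ ⟨x, hx, rfl⟩; exact ⟨_, hU g x hx, rfl⟩) (AddSubgroup.map_subtype_le _)).imp
      (fun e => AddSubgroup.map_subtype_inj.1 (by simpa))
      fun e => AddSubgroup.map_subtype_inj.1 (by rw [e, ← AddMonoidHom.range_eq_map, AddSubgroup.range_subtype])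
  exact ⟨v, v.2, w, w.2, fun g a b x hx => congrArg Subtype.val (h g (Subtype.ext a) (Subtype.ext b) ⟨x, hx⟩)⟩

theorem St.cr (hn : Nat.card V < n) (hC : CR G V) : Bs G V := by
  suffices ∀ D : AddSubgroup V, Inv G D →
      ∃ v ∈ D, ∃ w ∈ D, ∀ g : G, g • v = v → g • w = w → ∀ x ∈ D, g • x = x by
    obtain ⟨v, -, w, -, h⟩ := this ⊤ fun _ _ _ => trivial
    exact ⟨v, w, fun g a b x => h g a b x trivial⟩
  intro D
  induction D using WellFoundedLT.induction with
  | _ D ih =>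
  intro hD
  by_cases hI : ∀ U, Inv G U → U ≤ D → U = ⊥ ∨ U = D
  · exact hS.rel hs ho hV hD (D.card_le_card_addGroup.trans_lt hn) hI
  push Not at hI
  obtain ⟨U, hU, h1, h2, h3⟩ := hI
  obtain ⟨W, hW, h4, h5⟩ := hC U hU
  have h6 : U ⊔ W ⊓ D = D := by rw [← sup_inf_assoc_of_le _ h1, h5, top_inf_eq]
  obtain ⟨v, hv, w, hw, a⟩ := ih U (h1.lt_of_ne h3) hU
  obtain ⟨v', hv', w', hw', b⟩ := ih (W ⊓ D) (inf_le_right.lt_of_ne fun e => h2 (by
    rw [← h4, left_eq_inf]; exact h1.trans (inf_eq_right.1 e))) fun g x hx => ⟨hW g x hx.1, hD g x hx.2⟩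
  have k : ∀ (g : G), ∀ x ∈ U, ∀ y ∈ W, g • (x + y) = x + y → g • x = x ∧ g • y = y := fun g x hx y hy e => by
    have e1 : g • x - x = y - g • y := by rw [smul_add] at e; linear_combination (norm := abel) e
    have : g • x - x = 0 := h4.le ⟨U.sub_mem (hU g x hx) hx, e1 ▸ W.sub_mem hy (hW g y hy)⟩
    exact ⟨sub_eq_zero.1 this, (sub_eq_zero.1 (e1 ▸ this)).symm⟩
  refine ⟨v + v', add_mem (h1 hv) hv'.2, w + w', add_mem (h1 hw) hw'.2, fun g c d x hx => ?_⟩
  obtain ⟨y, hy, z, hz, rfl⟩ := AddSubgroup.mem_sup.1 (h6.ge hx)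
  rw [smul_add, a g (k g v hv v' hv'.1 c).1 (k g w hw w' hw'.1 d).1 y hy,
    b g (k g v hv v' hv'.1 c).2 (k g w hw w' hw'.1 d).2 z hz]

end

/-- the imprimitive case -/
theorem St.imp {G V : Type u} [Group G] [Finite G] [AddCommGroup V] [Finite V] [DistribMulAction G V]
    {p : ℕ} (hp : p.Prime) (p2 : p ≠ 2) (hS : St.{u} p (Nat.card V)) (hs : Group.IsSolvable G)
    (ho : ¬ p ∣ Nat.card G) (hV : ∀ v : V, p • v = 0) (hI : Ir G V) {H : Subgroup G} {D : AddSubgroup V}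
    {π : V →+ V} (hD : Inv H D) (h0 : D ≠ ⊥) (h1 : D ≠ ⊤) (ha : ∀ g ∉ H, ∀ d ∈ D, π (g • d) = 0)
    (hb : ∀ d ∈ D, π d = 0 → d = 0) : Bs G V := by
  classical
  have k0 := hI.all
  have hH : ¬ p ∣ Nat.card H := fun e => ho (e.trans H.card_subgroup_dvd_card)
  have hc : ∀ a ∈ D, ∀ b ∈ D, π a = π b → a = b := fun a c b d e =>
    sub_eq_zero.1 (hb _ (sub_mem c d) (by rw [map_sub, e, sub_self]))
  obtain ⟨d, hd, d0⟩ := (D.bot_or_exists_ne_zero).resolve_left h0
  obtain ⟨v, hv, w, hw, hn, h2⟩ : ∃ v ∈ D, ∃ w ∈ D, v ≠ 0 ∧ ∀ g : H, g • v = v → g • w = w → ∀ x ∈ D, g • x = x := by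
    obtain ⟨v, hv, w, hw, h⟩ := hS.rel inferInstance hH hV hD (D.card_le_card_addGroup.lt_of_ne fun e =>
      h1 (D.eq_top_of_card_eq e)) fun U a b => or_iff_not_imp_left.2 fun c => b.antisymm fun x hx => by
        obtain ⟨y, hy, e⟩ := k0 ((U.map π).comap π) U c (fun g y hy => by
          by_cases hg : g ∈ H
          · exact ⟨_, a ⟨g, hg⟩ y hy, rfl⟩
          · exact ⟨0, zero_mem _, by rw [ha g hg y (b hy), map_zero]⟩) x
        exact hc y (b hy) x hx e ▸ hy
    rcases eq_or_ne v 0 with rfl | e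
    · rcases eq_or_ne w 0 with rfl | e
      · exact ⟨d, hd, 0, hv, d0, fun g _ a => h g a a⟩
      · exact ⟨w, hw, 0, hv, e, fun g a b => h g b a⟩
    · exact ⟨v, hv, w, hw, e, h⟩
  obtain ⟨c, a, b⟩ := colours hp p2 hs ho H
  have hsm : ∀ (g : H) (n : ℕ) (x : V), g • n • x = n • g • x := fun g n x => smul_comm _ _ _
  obtain ⟨f, f1, f2, f3⟩ := wreath (y := fun s : ℕ => (v, w + s • v)) (fun h q r e => by
    simp only [Prod.smul_mk, Prod.mk.injEq, smul_add, hsm] at e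
    have e1 : ∀ n : ℕ, h ^ n • w + (n * c q) • v = w + (n * c r) • v := fun n => by
      induction n with
      | zero => simp
      | succ n ih =>
        have := congrArg (h • ·) ih
        simp only [smul_add, hsm, e.1, smul_smul, ← pow_succ'] at this e
        rw [add_mul, add_mul, add_smul, add_smul, one_mul, one_mul]
        linear_combination (norm := abel) this + e.2
    have e2 := fix_pow (hp.coprime_iff_not_dvd.2 hH).symm (g := h) (x := w) (by
      simpa [mul_smul, hV] using e1 p)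
    rw [e2, e.1, add_right_inj] at e
    have := Fact.mk hp
    have e3 := (addOrderOf_eq_prime (hV v) hn) ▸ nsmul_eq_nsmul_iff_modEq.1 e.2
    exact Nat.ModEq.eq_of_lt_of_lt e3 (a q) (a r)) b
  have f4 : ∀ g, (f g).1 ∈ D ∧ (f g).2 ∈ D := fun g => by
    obtain ⟨s, y, e⟩ := f2 g
    rw [← e]; exact ⟨hD _ _ hv, hD _ _ (add_mem hw (nsmul_mem hv _))⟩
  have := Fintype.ofFinite (G ⧸ H)
  have k : ∀ φ : G → V, (∀ g (h : H), φ (g * h) = h⁻¹ • φ g) → (∀ g, φ g ∈ D) → ∀ k : G,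
      k • ∑ q : G ⧸ H, q.out • φ q.out = ∑ q : G ⧸ H, q.out • φ q.out → ∀ g, φ (k * g) = φ g := fun φ a b => by
    have c : ∀ g : G, π (g⁻¹ • ∑ q : G ⧸ H, q.out • φ q.out) = π (φ g) := fun g => by
      rw [Finset.smul_sum, map_sum, Finset.sum_eq_single (g : G ⧸ H) (fun q _ e => by
        rw [smul_smul, ha _ (fun c => e (by simpa using (QuotientGroup.eq.2 c).symm)) _ (b _)]) (by simp)]
      obtain ⟨h, e⟩ := QuotientGroup.mk_out_eq_mul H g
      rw [e, a, smul_smul, inv_mul_cancel_left]; simp [← Subgroup.smul_def]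
    exact fun k e g => hc _ (b _) _ (b _) (by rw [← c, ← c, mul_inv_rev, mul_smul, inv_smul_eq_iff.2 e.symm])
  refine ⟨∑ q : G ⧸ H, q.out • (f q.out).1, ∑ q : G ⧸ H, q.out • (f q.out).2, fun x c c' y => ?_⟩
  have := k0 ((DistribSMul.toAddMonoidHom V x).eqLocus (.id V)) D h0 (fun g z hz => by
    obtain ⟨h, e, e'⟩ := f3 x (fun g => Prod.ext (k (fun g => (f g).1) (by simp [f1]) (fun g => (f4 g).1) x c g)
      (k (fun g => (f g).2) (by simp [f1]) (fun g => (f4 g).2) x c' g)) g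
    have : ∀ y : H, (y⁻¹ * h * y) • v = v → (y⁻¹ * h * y) • w = w → x • g • z = g • z := fun y a b => by
      have := h2 _ a b _ (hD y⁻¹ z hz)
      rw [smul_smul, mul_assoc, mul_inv_cancel, mul_one, mul_smul, smul_left_cancel_iff, Subgroup.smul_def, ← e,
        mul_smul, mul_smul, inv_smul_eq_iff] at this
      exact this
    obtain ⟨s, y, e⟩ := f2 g
    simp only [← e, Prod.smul_mk, Prod.mk.injEq, smul_add, hsm] at e'
    obtain ⟨a, b⟩ := e'
    rw [a, add_left_inj] at b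
    refine this y ?_ ?_ <;> simp [mul_smul, a, b]) y
  exact this

variable {G V : Type u} [Group G] [Finite G] [AddCommGroup V] [Finite V] [DistribMulAction G V]

local notation "ρ" => (DistribMulAction.toModuleEnd ℤ V : G →* _)

theorem St.dich {p : ℕ} (hp : p.Prime) (p2 : p ≠ 2) (hS : St.{u} p (Nat.card V)) (hs : Group.IsSolvable G)
    (ho : ¬ p ∣ Nat.card G) (hV : ∀ v : V, p • v = 0) (hI : Ir G V) {R : Subring (Module.End ℤ V)}
    (h1 : ∀ g, ∀ x ∈ R, ρ g * x * ρ g⁻¹ ∈ R) (hc : ∀ x ∈ R, ∀ y ∈ R, x * y = y * x) :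
    Bs G V ∨ ∀ x ∈ R, x ≠ 0 → Function.Surjective x := by
  refine or_iff_not_imp_right.2 fun H => ?_
  push Not at H
  obtain ⟨y, hy, y0, y1⟩ := H
  let r : Module.End ℤ V → AddSubgroup V := fun x => x.toAddMonoidHom.range
  obtain ⟨x, h⟩ := exists_minimalFor_of_wellFoundedLT (fun x => x ∈ R ∧ x ≠ 0) (fun x => Nat.card (r x))
    ⟨y, hy, y0⟩
  obtain ⟨hx, x0⟩ := h.1
  have h' : ∀ z ∈ R, z ≠ 0 → ∀ U, r z ≤ U → Nat.card U ≤ Nat.card (r x) → r z = U := fun z a b U c d =>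
    AddSubgroup.eq_of_le_of_card_ge c (d.trans (h.le ⟨a, b⟩))
  have hD : Inv (stabilizer G (r x)) (r x) := fun g d hd => g.2.le (AddSubgroup.smul_mem_pointwise_smul _ _ _ hd)
  have ha : ∀ g ∉ stabilizer G (r x), ∀ d ∈ r x, x (g • d) = 0 := by
    rintro g hg _ ⟨v, rfl⟩
    by_contra e
    have a := mul_mem hx (h1 g x hx)
    have b : x * (ρ g * x * ρ g⁻¹) ≠ 0 := fun b => e (by simpa using LinearMap.congr_fun b (g • v))
    refine hg ((h' _ a b _ ?_ (Nat.card_image_le (f := (g • ·)) (Set.toFinite (r x : Set V)))).symm.trans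
      (h' _ a b _ ?_ le_rfl))
    · rw [hc _ hx _ (h1 g x hx)]
      rintro _ ⟨w, rfl⟩
      exact AddSubgroup.smul_mem_pointwise_smul _ g _ ⟨_, rfl⟩
    · rintro _ ⟨w, rfl⟩; exact ⟨_, rfl⟩
  have h0 : r x ≠ ⊥ := fun e => x0 (LinearMap.ext fun v => e.le ⟨v, rfl⟩)
  have h2 : x * x ≠ 0 := fun e => x0 (LinearMap.ext (hI.all x.toAddMonoidHom.ker _ h0 fun g d hd => by
    by_cases hg : g ∈ stabilizer G (r x)
    · obtain ⟨v, hv⟩ := hD ⟨g, hg⟩ d hd
      exact (congrArg x hv).symm.trans (LinearMap.congr_fun e v)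
    · exact ha g hg d hd))
  have h3 := h' _ (mul_mem hx hx) h2 _ (by rintro _ ⟨w, rfl⟩; exact ⟨_, rfl⟩) le_rfl
  have h4 : Function.Injective fun d : r x => (⟨x d, _, rfl⟩ : r x) :=
    Finite.injective_iff_surjective.2 fun d => by
      obtain ⟨v, hv⟩ := h3.ge d.2
      exact ⟨⟨x v, v, rfl⟩, Subtype.ext hv⟩
  refine hS.imp hp p2 hs ho hV hI (π := x.toAddMonoidHom) hD h0 (fun e => y1 (AddMonoidHom.range_eq_top.1
    (h' y hy y0 ⊤ le_top (e ▸ le_rfl)))) ha fun d hd e => congrArg Subtype.val (@h4 ⟨d, hd⟩ 0 (Subtype.ext ?_))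
  simpa using e

theorem St.field [FaithfulSMul G V] [Nontrivial V] {p : ℕ} (hp : p.Prime) (p2 : p ≠ 2) (hS : St.{u} p (Nat.card V)) (hs : Group.IsSolvable G)
    (ho : ¬ p ∣ Nat.card G) (hV : ∀ v : V, p • v = 0) (hI : Ir G V)
    (A : Subgroup G) [A.Normal] (hA : ∀ a ∈ A, ∀ b ∈ A, a * b = b * a) :
    Bs G V ∨ ∃ (K : Type u) (_ : Field K) (_ : Finite K) (_ : Module K V) (ι : G → K),
      (∀ a ∈ A, ∀ v : V, a • v = ι a • v) ∧ (∀ g ∈ centralizer (A : Set G), ∀ (k : K) (v : V), g • k • v = k • g • v) ∧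
      2 ^ (centralizer (A : Set G)).index ≤ Nat.card K := by
  classical
  let R := Subring.closure (ρ '' A)
  have h1 : ∀ g, ∀ x ∈ R, ρ g * x * ρ g⁻¹ ∈ R := fun g x hx => by
    induction hx using Subring.closure_induction with
    | mem x h =>
      obtain ⟨a, ha, rfl⟩ := h
      exact Subring.subset_closure ⟨_, ‹A.Normal›.conj_mem a ha g, by simp only [map_mul]⟩
    | zero => simp
    | one => rw [mul_one, ← map_mul, mul_inv_cancel, map_one]; exact one_mem _
    | add x y _ _ a b => rw [mul_add, add_mul]; exact add_mem a b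
    | neg x _ a => rw [mul_neg, neg_mul]; exact neg_mem a
    | mul x y _ _ a b => convert mul_mem a b using 1; ext; simp
  have h2 : ∀ g ∈ centralizer (A : Set G), ∀ x ∈ R, x * ρ g = ρ g * x := fun g hg x hx =>
    (Subring.closure_le (t := Subring.centralizer {ρ g}) |>.2 (by
      rintro _ ⟨a, ha, rfl⟩ _ rfl; rw [← map_mul, ← map_mul, hg a ha]) hx _ rfl).symm
  have hc : ∀ x ∈ R, ∀ y ∈ R, x * y = y * x := fun x hx y hy =>
    Subring.closure_le (t := Subring.centralizer {x}) |>.2 (by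
      rintro _ ⟨a, ha, rfl⟩ _ rfl; exact h2 a (fun b hb => hA b hb a ha) _ hx) hy _ rfl
  refine (hS.dich hp p2 hs ho hV hI h1 hc).imp_right fun H => ?_
  have : Finite (Module.End ℤ V) := DFunLike.finite _
  letI : CommRing R := { (inferInstance : Ring R) with mul_comm := fun x y => Subtype.ext (hc _ x.2 _ y.2) }
  have : NoZeroDivisors R := ⟨fun {x y} e => or_iff_not_imp_right.2 fun hy => Subtype.ext (LinearMap.ext fun v => by
    obtain ⟨v, rfl⟩ := H y y.2 (fun e => hy (Subtype.ext e)) v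
    exact LinearMap.congr_fun (congrArg Subtype.val e) v)⟩
  have : IsDomain R := NoZeroDivisors.to_isDomain R
  letI : Field R := (Finite.isField_of_domain R).toField
  refine ⟨R, inferInstance, inferInstance, inferInstance, fun g => if h : ρ g ∈ R then ⟨_, h⟩ else 0,
    fun a ha v => by simp only [show ρ a ∈ R from Subring.subset_closure ⟨a, ha, rfl⟩, dite_true]; rfl,
    fun g hg k v => (LinearMap.congr_fun (h2 g hg k k.2) v).symm, ?_⟩
  letI : SMul G R := ⟨fun g x => ⟨_, h1 g x x.2⟩⟩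
  have e : ∀ (g : G) (x : R), (g • x).1 = ρ g * x * ρ g⁻¹ := fun _ _ => rfl
  letI : MulSemiringAction G R :=
    { one_smul := fun x => Subtype.ext (by ext; simp [e])
      mul_smul := fun g k x => Subtype.ext (by ext; simp [e, mul_smul])
      smul_zero := fun g => Subtype.ext (by ext; simp [e])
      smul_add := fun g x y => Subtype.ext (by ext; simp [e])
      smul_one := fun g => Subtype.ext (by ext; simp [e])
      smul_mul := fun g x y => Subtype.ext (by ext; simp [e]) }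
  let Γ := (MulSemiringAction.toRingAut G R).range
  have : Fintype Γ := (Set.finite_range _).fintype
  have h3 := FixedPoints.finrank_eq_card Γ R
  rw [Module.natCard_eq_pow_finrank (K := FixedPoints.subfield Γ R), h3, ← Nat.card_eq_fintype_card, ← index_ker]
  refine (Nat.pow_le_pow_right two_pos (Nat.le_of_dvd (Nat.pos_of_ne_zero index_ne_zero_of_finite)
    (index_dvd_of_le fun g hg => mem_centralizer_iff.2 fun a ha => eq_of_smul_eq_smul fun v : V => ?_))).trans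
    (Nat.pow_le_pow_left Finite.one_lt_card _)
  simpa [e, mul_smul] using LinearMap.congr_fun (congrArg Subtype.val (DFunLike.congr_fun hg
    (⟨ρ a, Subring.subset_closure ⟨a, ha, rfl⟩⟩ : R))).symm (g • v)

end Cfsg.Agent.H26.DB
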