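import Mathlib
import Cfsg.Agent.H26.DB2
import Cfsg.Agent.H1.Semireg

/-! Coprime bases of size two, III: the primitive case, basic facts and the semiregular case. -/

set_option autoImplicit false
set_option linter.unusedSectionVars false

namespace Cfsg.Agent.H26.DB

open Subgroup MulAction BT Module
open scoped Pointwise commutatorElement

universe u

section
variable {G : Type*} [Group G]

theorem pw1 {u v c : G} (e : v * u = u * v * c) (h2 : Commute c v) (n : ℕ) : v ^ n * u = u * v ^ n * c ^ n := by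
  induction n with
  | zero => simp
  | succ n ih =>
    rw [pow_succ', mul_assoc, ih, ← mul_assoc, ← mul_assoc, e, mul_assoc (u * v), (h2.pow_right n).eq, pow_succ' c]
    simp only [mul_assoc]

theorem pw2 {u v c : G} (e : v * u = u * v * c) (h1 : Commute c u) (h2 : Commute c v) (n : ℕ) :
    (u * v) ^ n = u ^ n * v ^ n * c ^ n.choose 2 := by
  induction n with
  | zero => simp
  | succ n ih =>
    rw [pow_succ, ih, Nat.choose_succ_succ' n 1, Nat.choose_one_right, pow_add c, mul_assoc,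
      ((h1.mul_right h2).pow_left _).eq, ← mul_assoc, ← mul_assoc, mul_assoc (u ^ n), pw1 e h2, pow_succ u, pow_succ v]
    simp only [mul_assoc]
    rw [← mul_assoc (c ^ n), (h2.pow_left n).eq, mul_assoc]

theorem mem_cop {S : Subgroup G} {a : G} {m n : ℕ} (h : m.Coprime n) (h1 : a ^ m ∈ S) (h2 : a ^ n ∈ S) : a ∈ S := by
  have := mul_mem (zpow_mem h1 (m.gcdA n)) (zpow_mem h2 (m.gcdB n))
  rwa [← zpow_natCast, ← zpow_natCast, ← zpow_mul, ← zpow_mul, ← zpow_add, ← Nat.gcd_eq_gcd_ab, h, Nat.cast_one,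
    zpow_one] at this

theorem sqf {W : Type*} [AddCommGroup W] [DistribMulAction G W] (hC : CR G W) (s j : ℕ) {w : W}
    (h : s ^ j • w = 0) : s • w = 0 := by
  obtain ⟨U, -, h1, h2⟩ := hC (nsmulAddMonoidHom s).ker fun g x hx => by
    simp only [AddMonoidHom.mem_ker, nsmulAddMonoidHom_apply] at hx ⊢
    rw [← smul_comm, hx, smul_zero]
  obtain ⟨a, ha, b, hb, rfl⟩ := AddSubgroup.mem_sup.1 (h2.ge (AddSubgroup.mem_top w))
  change s • a = 0 at ha
  have k : ∀ j, s ^ j • b = 0 → b = 0 := fun j => by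
    induction j with
    | zero => simp
    | succ j ih => exact fun e => ih (h1.le ⟨by simpa [pow_succ', mul_smul] using e, nsmul_mem hb _⟩)
  rw [k (j + 1) (by simpa [pow_succ, mul_comm _ s, mul_smul, smul_comm s (s ^ j), ha] using congrArg (s • ·) h), add_zero, ha]

theorem canc {V : Type*} [AddCommGroup V] {p n : ℕ} (hp : p.Prime) (hn : ¬ p ∣ n) {v w : V} (hV : ∀ v : V, p • v = 0)
    (e : n • v = n • w) : v = w := by
  rw [← sub_eq_zero, ← smul_sub] at e
  exact sub_eq_zero.1 (AddMonoid.addOrderOf_eq_one_iff.1 (Nat.eq_one_of_dvd_coprimes (hp.coprime_iff_not_dvd.2 hn)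
    (addOrderOf_dvd_of_nsmul_eq_zero (hV _)) (addOrderOf_dvd_of_nsmul_eq_zero e)))
end

variable {G : Type u} {V K : Type*} [Group G] [Finite G] [AddCommGroup V] [Finite V] [Nontrivial V]
  [DistribMulAction G V] [FaithfulSMul G V] [Field K] [Module K V] {A L : Subgroup G} [A.Normal] {ι : G → K}

local notation "C" X => Subgroup.centralizer (X : Set G)

theorem _root_.Cfsg.Agent.H26.BT.Sec.pow {W : Type u} [AddCommGroup W] [DistribMulAction G W] {p : G → W}
    (hp : Sec A L W p) {x : G} (hx : x ∈ L) (n : ℕ) : p (x ^ n) = n • p x := by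
  induction n with
  | zero => simp [hp.one]
  | succ n ih => rw [pow_succ, hp.add _ (pow_mem hx _) _ hx, succ_nsmul, ih]

variable (h : PD V A ι)
include h

def ih : A →* K := ⟨⟨fun a => ι a, h.one⟩, fun a b => h.mul a.2 b.2⟩

theorem ipow {a : G} (ha : a ∈ A) (n : ℕ) : ι (a ^ n) = ι a ^ n := map_pow (ih h) ⟨a, ha⟩ n

theorem fa {a : G} (ha : a ∈ A) {v : V} (hv : v ≠ 0) (e : a • v = v) : a = 1 :=
  h.inj ha (one_mem _) (smul_left_injective K hv (by simp only [← h.act a ha, e, h.one, one_smul]))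

theorem cycA : IsCyclic A := isCyclic_of_injective_ringHom (ih h) fun a b e => Subtype.ext (h.inj a.2 b.2 e)

theorem exa : ∃ a ∈ A, ∀ b ∈ A, b ∈ zpowers a := by
  obtain ⟨a, ha⟩ := (cycA h).exists_generator
  exact ⟨a, a.2, fun b hb => let ⟨k, e⟩ := ha ⟨b, hb⟩; ⟨k, congrArg Subtype.val e⟩⟩

theorem neg1 {a : G} (ha : a ∈ A) (h1 : a ≠ 1) (h2 : a ^ 2 = 1) : ι a = -1 :=
  mul_self_eq_one_iff.1 (by rw [← sq, ← ipow h ha, h2, h.one]) |>.resolve_left
    fun e => h1 (h.inj ha (one_mem _) (e.trans h.one.symm))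

theorem neg2 {a : G} (ha : a ∈ A) (h1 : a ≠ 1) (h2 : a ^ 2 = 1) (v : V) : a • v = -v := by
  rw [h.act a ha, neg1 h ha h1 h2, neg_one_smul]

theorem cen2 {a : G} (ha : a ∈ A) (h2 : a ^ 2 = 1) (g : G) : Commute a g := by
  rcases eq_or_ne a 1 with rfl | h1
  · exact Commute.one_left g
  · exact eq_of_smul_eq_smul fun v : V => by simp [mul_smul, neg2 h ha h1 h2]

variable [L.Normal] (hL : LD A L)
include hL

theorem ndl {x : G} (hx : x ∈ L) (ha : x ∉ A) : ∃ l ∈ L, ⁅x, l⁆ ≠ 1 := by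
  by_contra! H
  exact ha ((h.nd hL.le hL.cen).le ⟨fun l hl => (commutatorElement_eq_one_iff_mul_comm.1 (H l hl)).symm, hx⟩)

omit h in
theorem cmA {a l : G} (ha : a ∈ A) (hl : l ∈ L) : Commute a l := hL.cen hl a ha

omit h in
theorem cpw {u v : G} (hu : u ∈ L) (hv : v ∈ L) {n : ℕ} (e : u ^ n ∈ A) : ⁅u, v⁆ ^ n = 1 := by
  have c := hL.com u hu v hv
  have := pw1 (v := u) (u := v) (c := ⁅u, v⁆) (by
    rw [← (cmA hL c (mul_mem hv hu)).eq]; simp [commutatorElement_def]) (cmA hL c hu) n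
  rw [(cmA hL e hv).eq] at this
  exact left_eq_mul.1 this

omit h in
theorem pwL {u v : G} (hu : u ∈ L) (hv : v ∈ L) (n : ℕ) : (u * v) ^ n = u ^ n * v ^ n * ⁅v, u⁆ ^ n.choose 2 := by
  have c := hL.com v hv u hu
  exact pw2 (by rw [← (cmA hL c (mul_mem hu hv)).eq]; simp [commutatorElement_def]) (cmA hL c hu) (cmA hL c hv) n

omit h in
theorem pwE {u v : G} (hu : u ∈ L) (hv : v ∈ L) {n : ℕ} (e : ⁅v, u⁆ ^ n = 1) :
    (u * v) ^ (2 * n) = u ^ (2 * n) * v ^ (2 * n) := by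
  rw [pwL hL hu hv, Nat.choose_two_right, mul_assoc 2, Nat.mul_div_cancel_left _ two_pos, pow_mul _ n, e, one_pow,
    mul_one]

omit h in
theorem pwO {u v : G} (hu : u ∈ L) (hv : v ∈ L) {n : ℕ} (hn : Odd n) (e : ⁅v, u⁆ ^ n = 1) :
    (u * v) ^ n = u ^ n * v ^ n := by
  obtain ⟨k, rfl⟩ := hn
  rw [pwL hL hu hv, Nat.choose_two_right, Nat.add_sub_cancel, mul_left_comm, Nat.mul_div_cancel_left _ two_pos,
    pow_mul _ (2 * k + 1), e, one_pow, mul_one]

/-- good coset representatives -/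
theorem lemN {U : Subgroup G} [U.Normal] (h1 : A ≤ U) (h2 : U ≤ L) {n : ℕ} (hn : ∀ l ∈ U, l ^ n ∈ A) {l : G}
    (hl : l ∈ U) : ∃ a ∈ A, (l * a⁻¹) ^ (2 * n) = 1 := by
  have k : ∀ u ∈ U, ∀ v ∈ U, (u * v) ^ (2 * n) = u ^ (2 * n) * v ^ (2 * n) := fun u hu v hv =>
    pwE hL (h2 hu) (h2 hv) (cpw hL (h2 hv) (h2 hu) (hn v hv))
  have k2 : ∀ u ∈ U, u ^ (2 * n) ∈ A := fun u hu => by rw [mul_comm, pow_mul]; exact pow_mem (hn u hu) _
  let Ω : Subgroup G :=
    { carrier := {u | u ∈ U ∧ u ^ (2 * n) = 1}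
      one_mem' := ⟨one_mem _, one_pow _⟩
      mul_mem' := fun a b => ⟨mul_mem a.1 b.1, by rw [k _ a.1 _ b.1, a.2, b.2, mul_one]⟩
      inv_mem' := fun a => ⟨inv_mem a.1, by rw [inv_pow, a.2, inv_one]⟩ }
  have : Ω.Normal := ⟨fun u hu g => ⟨‹U.Normal›.conj_mem u hu.1 g, by rw [conj_pow, hu.2]; simp⟩⟩
  have h3 : Ω ⊔ A ≤ U := sup_le (fun _ a => a.1) h1
  obtain ⟨U', _, a, b, c⟩ := h.cr hL (U := Ω ⊔ A) inferInstance le_sup_right (h3.trans h2)
  have h4 : ∀ x ∈ Ω ⊔ A, ∃ a ∈ A, (x * a⁻¹) ^ (2 * n) = 1 := fun x hx => by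
    obtain ⟨y, hy, z, hz, rfl⟩ := mem_sup_of_normal_right.1 hx
    exact ⟨z, hz, by simpa using hy.2⟩
  have := cycA h
  letI := IsCyclic.commGroup (α := A)
  have h5 : U' ⊓ U ⊔ A ≤ U := sup_le inf_le_right h1
  have d := h.max (U' ⊓ U ⊔ A) inferInstance le_sup_right fun x hx y hy => congrArg Subtype.val
    (commutative_of_cyclic_center_quotient (G := ↥(U' ⊓ U ⊔ A)) (G' := A ⧸ (powMonoidHom (2 * n) : A →* A).range)
      ((QuotientGroup.mk' _).comp ⟨⟨fun x => ⟨x.1 ^ (2 * n), k2 _ (h5 x.2)⟩, Subtype.ext (one_pow _)⟩,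
        fun x y => Subtype.ext (k _ (h5 x.2) _ (h5 y.2))⟩) (fun x hx => mem_center_iff.2 fun y => Subtype.ext (by
          obtain ⟨z, hz⟩ := (QuotientGroup.eq_one_iff _).1 hx
          obtain ⟨s, hs, t, ht, e⟩ := mem_sup_of_normal_right.1 x.2
          have e1 : x.1 * z.1⁻¹ ∈ Ω := ⟨mul_mem (h5 x.2) (inv_mem (h1 z.2)), by
            rw [k _ (h5 x.2) _ (inv_mem (h1 z.2)), inv_pow, mul_inv_eq_one]; exact (congrArg Subtype.val hz).symm⟩
          have e2 : s ∈ A := b ⟨by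
            rw [show s = x.1 * z.1⁻¹ * (z * t⁻¹) by rw [← e]; group]
            exact mul_mem (mem_sup_left e1) (mem_sup_right (mul_mem z.2 (inv_mem ht))), hs.1⟩
          exact (cmA hL (e ▸ mul_mem e2 ht) (h2 (h5 y.2))).eq.symm)) ⟨y, hy⟩ ⟨x, hx⟩)
  obtain ⟨x, hx, y, hy, rfl⟩ := c l (h2 hl)
  exact h4 _ (mul_mem hx (mem_sup_right (d (mem_sup_left ⟨hy, (mul_mem_cancel_left (h3 hx)).1 hl⟩))))

variable {W : Type u} [AddCommGroup W] [DistribMulAction G W] {p : G → W} (hp : Sec A L W p)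
include hp

theorem lemN' {n : ℕ} {l : G} (hl : l ∈ L) (hn : l ^ n ∈ A) : ∃ a ∈ A, (l * a⁻¹) ^ (2 * n) = 1 :=
  have : (hp.up (nsmulAddMonoidHom n : W →+ W).ker).Normal := hp.up_normal fun g x hx => by
    simp only [AddMonoidHom.mem_ker, nsmulAddMonoidHom_apply] at hx ⊢
    rw [← smul_comm, hx, smul_zero]
  lemN h hL (hp.le_up hL.le (nsmulAddMonoidHom n : W →+ W).ker) (hp.up_le _)
    (fun x hx => (hp.ker _ (pow_mem hx.1 _)).1 ((hp.pow hx.1 n).trans hx.2))
    ⟨hl, (hp.pow hl n).symm.trans ((hp.ker _ (pow_mem hl _)).2 hn)⟩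

theorem semi {r : ℕ} (hr : r.Prime) (hV : ∀ v : V, r • v = 0)
    (hs : ∀ l ∈ L, ∀ v : V, v ≠ 0 → l • v = v → l = 1) : Bs G V := by
  obtain ⟨a, ha, ga⟩ := exa h
  have k0 : ∀ g : G, ∀ x : V, x ≠ 0 → g • x = x → ∀ l ∈ L, g • l • x = l • x → Commute g l := fun g x x0 e l hl e' => by
    have := hs _ (mul_mem (inv_mem hl) (‹L.Normal›.conj_mem l hl g)) x x0 (by
      rw [mul_smul, mul_smul, mul_smul, inv_smul_eq_iff.2 e.symm, e', inv_smul_smul])
    exact mul_inv_eq_iff_eq_mul.1 (inv_mul_eq_one.1 this).symm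
  have k1 : ∀ g : G, Commute g a → ∀ b ∈ A, Commute g b := fun g e b hb => by
    obtain ⟨k, rfl⟩ := ga b hb; exact e.zpow_right k
  have k2 : ∀ g : G, ∀ x : V, x ≠ 0 → g • x = x → (∀ l ∈ L, Commute g l) → ∀ v : V, g • v = v := fun g x x0 e H v => by
    rw [hs g (hL.ker g (fun b hb => (H b (hL.le hb)).eq.symm) fun y hy => by
      rw [commutatorElement_eq_one_iff_commute.2 (H y hy)]; exact one_mem _) x x0 e, one_smul]
  obtain ⟨v, hv⟩ := exists_ne (0 : V)
  by_cases hA : L ≤ A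
  · exact ⟨v, a • v, fun g e e' => k2 g v hv e fun l hl => k1 g (k0 g v hv e a (hL.le ha) e') l (hA hl)⟩
  let φ : L →* MulAut (Multiplicative V) :=
    { toFun := fun a => AddEquiv.toMultiplicative (DistribMulAction.toAddEquiv V a)
      map_one' := by ext v; exact one_smul L v.toAdd
      map_mul' := fun a b => by ext v; exact mul_smul a b v.toAdd }
  have hφ : H1.Semireg φ := fun l l1 v e => by_contra fun v1 => l1 (Subtype.ext (hs l l.2 v.toAdd v1 e))
  have k3 : ∀ s : ℕ, s.Prime → ∀ l ∈ L, l ^ s = 1 → l ∈ A := fun s hs l hl e => by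
    by_contra hla
    obtain ⟨y, hy, c⟩ := ndl h hL hl hla
    have := Fact.mk hs
    have d := hL.com l hl y hy
    obtain ⟨k, hk⟩ := hφ.mem_zpowers_of_commute hs (x := ⟨_, hL.le d⟩) (y := ⟨l, hl⟩) (Subtype.ext (cmA hL d hl).eq)
      (orderOf_eq_prime (Subtype.ext (cpw hL hl hy (e ▸ one_mem _))) fun e => c (congrArg Subtype.val e)) (Subtype.ext e)
    have hk' : ⁅l, y⁆ ^ k = l := congrArg Subtype.val hk
    exact hla (hk' ▸ zpow_mem d k)
  have hC := hp.cr hL.le fun U => h.cr hL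
  have k4 : ∀ l ∈ L, l ^ 2 ∈ A := fun l hl => by
    rw [← hp.ker _ (pow_mem hl _), hp.pow hl]
    have : Finite W := Finite.of_surjective (fun x : L => p x) fun w => let ⟨x, a, b⟩ := hp.surj w; ⟨⟨x, a⟩, b⟩
    refine sqf hC 2 (addOrderOf (p l)).primeFactorsList.length ?_
    suffices H : ∀ {s : ℕ}, s.Prime → s ∣ addOrderOf (p l) → s = 2 by
      rw [← Nat.eq_prime_pow_of_unique_prime_dvd (addOrderOf_pos _).ne' H, addOrderOf_nsmul_eq_zero]
    intro s hs ⟨t, ht⟩
    by_contra s2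
    have e1 : (l ^ t) ^ s ∈ A := by
      rw [← pow_mul, ← hp.ker _ (pow_mem hl _), hp.pow hl, mul_comm, ← ht, addOrderOf_nsmul_eq_zero]
    obtain ⟨b, hb, e⟩ := lemN' h hL hp (pow_mem hl t) e1
    have e2 := mul_mem (pow_mem hl t) (inv_mem (hL.le hb))
    have e3 := mem_cop ((Nat.coprime_primes Nat.prime_two hs).2 (Ne.symm s2)) (k3 s hs _ (pow_mem e2 2) (by rwa [← pow_mul]))
      (by rw [((cmA hL (inv_mem hb) (pow_mem hl t)).symm).mul_pow]; exact mul_mem e1 (pow_mem (inv_mem hb) _))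
    rw [mul_mem_cancel_right (inv_mem hb), ← hp.ker _ (pow_mem hl _), hp.pow hl] at e3
    have t0 : 0 < t := Nat.pos_of_ne_zero (by rintro rfl; exact (addOrderOf_pos _).ne' ht)
    have := Nat.le_of_dvd t0 (addOrderOf_dvd_of_nsmul_eq_zero e3)
    have := hs.two_le
    nlinarith
  have k5 : ∀ l ∈ L, l ∉ A → ∃ b ∈ A, ∃ i ∈ L, l = i * b ∧ i ∉ A ∧ ∀ v : V, i • i • v = -v := fun l hl e => by
    obtain ⟨b, hb, e1⟩ := lemN' h hL hp hl (k4 l hl)
    have e2 := mul_mem hl (inv_mem (hL.le hb))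
    have e3 : l * b⁻¹ ∉ A := by rwa [mul_mem_cancel_right (inv_mem hb)]
    exact ⟨b, hb, _, e2, by simp, e3, fun v => by
      rw [← mul_smul, ← sq, neg2 h (k4 _ e2) (fun e => e3 (k3 2 Nat.prime_two _ e2 e)) (by rwa [← pow_mul])]⟩
  have k6 : ∀ i ∈ L, ∀ j ∈ L, (∀ v : V, i • i • v = -v) → (∀ v : V, j • j • v = -v) → Commute i j → i * j ∈ A :=
    fun i hi j hj a b c => k3 2 Nat.prime_two _ (mul_mem hi hj) (eq_of_smul_eq_smul fun v : V => by
      simp [c.mul_pow, sq, mul_smul, a, b])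
  obtain ⟨l, hl, hla⟩ := SetLike.not_le_iff_exists.1 hA
  obtain ⟨-, -, i, hi, -, iA, i2⟩ := k5 l hl hla
  have k7 : ∀ j ∈ L, ¬ Commute i j → ∀ v : V, i • j • v = - (j • i • v) := fun j hj c v => by
    rw [← neg2 h (hL.com i hi j hj) (fun e => c (commutatorElement_eq_one_iff_commute.1 e)) (cpw hL hi hj (k4 i hi))]
    simp [commutatorElement_def, smul_smul]
  obtain ⟨l, hl, c⟩ := ndl h hL hi iA
  obtain ⟨b, hb, j, hj, rfl, jA, j2⟩ := k5 l hl fun e => c (commutatorElement_eq_one_iff_commute.2 (cmA hL e hi).symm)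
  have c1 : ¬ Commute i j := fun e => c (commutatorElement_eq_one_iff_commute.2 (e.mul_right (cmA hL hb hi).symm))
  have c2 := k7 j hj c1
  obtain ⟨α, β, e1, e2⟩ : ∃ α β : ℕ, r ∣ α ^ 2 + β ^ 2 + 1 ∧ ¬ r ∣ β := by
    have := Fact.mk hr
    obtain ⟨x, y, e⟩ := ZMod.sq_add_sq r (-1)
    simp only [← ZMod.natCast_eq_zero_iff]
    rcases eq_or_ne y 0 with rfl | y0
    · exact ⟨0, x.val, by simpa [← eq_neg_iff_add_eq_zero] using e, by rintro e'; simp at e'; simp [e'] at e⟩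
    · exact ⟨x.val, y.val, by simpa [← eq_neg_iff_add_eq_zero] using e, by simpa using y0⟩
  have sm : ∀ (g : G) (n : ℕ) (x : V), g • n • x = n • g • x := fun g n x => smul_comm _ _ _
  obtain ⟨x, x0, hx⟩ : ∃ x : V, x ≠ 0 ∧ α • i • x + β • j • x = x := by
    by_cases e : v + (α • i • v + β • j • v) = 0
    · refine ⟨i • j • v, by rwa [smul_ne_zero_iff_ne, smul_ne_zero_iff_ne], ?_⟩
      have := congrArg (fun z => i • j • z) e
      simp only [smul_add, sm, j2, i2, c2, smul_neg, neg_neg, smul_zero] at this ⊢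
      generalize j • i • v = w1 at *
      generalize i • v = w2, j • v = w3 at *
      linear_combination (norm := module) -this
    · refine ⟨_, e, ?_⟩
      obtain ⟨t, ht⟩ := e1
      have : (α ^ 2 + β ^ 2 + 1) • v = 0 := by rw [ht, mul_comm, mul_smul, hV, smul_zero]
      simp only [smul_add, sm, j2, i2, c2, smul_neg]
      generalize j • i • v = w1 at *
      generalize i • v = w2, j • v = w3 at *
      linear_combination (norm := module) -this
  refine ⟨x, (a * i) • x, fun g e e' => k2 g x x0 e ?_⟩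
  have f1 := k0 g x x0 e _ (mul_mem (hL.le ha) hi) e'
  have f2 : Commute g a := by
    obtain ⟨t, m, m2, e⟩ := Nat.exists_eq_two_pow_mul_odd (orderOf_pos a).ne'
    refine (mem_cop (S := centralizer {g}) (n := m) (m := 2 ^ 2) ((Nat.coprime_two_left.2 m2).pow_left 2) ?_ ?_ g rfl :)
    · rintro _ rfl
      have := f1.pow_right 4
      rwa [(cmA hL ha hi).mul_pow, show i ^ 4 = 1 from eq_of_smul_eq_smul fun v : V => by
        simp [pow_succ, mul_smul, i2], mul_one] at this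
    · rintro _ rfl
      refine (cen2 h (pow_mem ha m) ?_ _).eq.symm
      rcases t with _ | _ | t
      · rw [← pow_mul, show m * 2 = orderOf a * 2 by simp [e], pow_mul, pow_orderOf_eq_one, one_pow]
      · rw [← pow_mul, show m * 2 = orderOf a by simp [e, mul_comm], pow_orderOf_eq_one]
      · refine (iA ((mul_mem_cancel_right (pow_mem ha (2 ^ t * m))).1 (k6 i hi _ (hL.le (pow_mem ha _)) i2 (fun v => ?_)
          (cmA hL (pow_mem ha _) hi).symm))).elim
        rw [← mul_smul, ← sq, neg2 h (pow_mem (pow_mem ha _) _) (fun e' => ?_) (by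
          rw [← pow_mul, ← pow_mul, show 2 ^ t * m * (2 * 2) = orderOf a by rw [e]; ring, pow_orderOf_eq_one])]
        rw [← pow_mul] at e'
        have := Nat.le_of_dvd (by have := m2.pos; positivity) (orderOf_dvd_of_pow_eq_one e')
        have : 0 < 2 ^ t * m := by have := m2.pos; positivity
        rw [e, pow_succ, pow_succ] at *
        nlinarith
  have f3 : Commute g i := by simpa using f2.inv_right.mul_right f1
  have f4 : Commute g j := k0 g x x0 e j hj (canc hr e2 hV (by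
    have := congrArg (g • ·) hx
    simp only [smul_add, sm, e, smul_smul g i, f3.eq, mul_smul i g] at this
    exact add_left_cancel (this.trans hx.symm)))
  have f5 : ∀ l ∈ L, Commute i l → Commute g l := fun l hl c => by
    by_cases e : l ∈ A
    · exact k1 g f2 l e
    obtain ⟨b, hb, j, hj, rfl, -, j2⟩ := k5 l hl e
    have := k1 g f2 _ (k6 i hi j hj i2 j2 (by simpa using c.mul_right (cmA hL (inv_mem hb) hi).symm))
    exact Commute.mul_right (by simpa using f3.inv_right.mul_right this) (k1 g f2 b hb)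
  intro l hl
  by_cases c : Commute i l
  · exact f5 l hl c
  · simpa using f4.inv_right.mul_right (f5 _ (mul_mem hj hl) (eq_of_smul_eq_smul fun v : V => by
      simp [mul_smul, c2, k7 l hl c]))

end Cfsg.Agent.H26.DB
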