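import Mathlib
import Cfsg.Agent.H26.DB3

/-! Coprime bases of size two, IV: rigid colourings, small degrees. -/

set_option autoImplicit false
set_option linter.unusedSectionVars false

namespace Cfsg.Agent.H26.DB

open Subgroup MulAction BT Module
open scoped Pointwise commutatorElement

universe u

section
variable (Λ K : Type*) [Group Λ] [Finite Λ] [Field K]

def Cl (k : ℕ) : Prop := ∃ c : Λ → K, (∀ σ : Λ →* Λ, Function.Injective σ → (∀ l ≠ 1, c (σ l) ^ k = c l ^ k) →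
  ∀ l, σ l = l) ∧ 4 * {l | c l = 0}.ncard < Nat.card Λ

variable {Λ K}

theorem colS {d k : ℕ} (s : Fin d → Λ) (hs : closure (Set.range s) = ⊤) (κ : Fin (d + 1) → K)
    (hκ : Function.Injective fun i => κ i ^ k) (h0 : κ 0 ≠ 0) (hz : (∀ i, κ i ≠ 0) ∨ 4 < Nat.card Λ) : Cl Λ K k := by
  classical
  let f : Λ → Fin (d + 1) := fun l => if h : ∃ i, s i = l then h.choose.succ else 0
  have hf : ∀ l l', f l ≠ 0 → f l' = f l → l' = l := fun l l' a b => by
    simp only [f] at a b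
    split_ifs at a b with c d
    · rw [← c.choose_spec, ← d.choose_spec, Fin.succ_injective _ b]
    · exact (a b.symm).elim
    · exact (a rfl).elim
    · exact (a rfl).elim
  refine ⟨κ ∘ f, fun σ _ H => DFunLike.congr_fun (MonoidHom.eq_of_eqOn_dense hs (g := .id _) ?_), ?_⟩
  · rintro _ ⟨i, rfl⟩
    rcases eq_or_ne (s i) 1 with e | e
    · simp [e]
    · exact hf _ (σ (s i)) (show f (s i) ≠ 0 by
        simp only [f, dif_pos (⟨i, rfl⟩ : ∃ j, s j = s i)]; exact Fin.succ_ne_zero _) (hκ (H _ e))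
  · rcases hz with hz | hz
    · simp [hz]
    · have : {l | (κ ∘ f) l = 0}.ncard ≤ 1 := (Set.ncard_le_one (Set.toFinite _)).2 fun a ha b hb =>
        hf _ _ (fun e => h0 (e ▸ hb)) (hκ (show κ (f a) ^ k = κ (f b) ^ k from congrArg (· ^ k) (ha.trans hb.symm)))
      omega

theorem genS {r : ℕ} (hr : r.Prime) (d : ℕ) : ∀ H : Subgroup Λ, H.index ∣ r ^ d →
    ∃ s : Fin d → Λ, H ⊔ closure (Set.range s) = ⊤ := by
  induction d with
  | zero => exact fun H h => ⟨Fin.elim0, by simp [index_eq_one.1 (Nat.dvd_one.1 h)]⟩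
  | succ d ih =>
    intro H h
    rcases eq_or_ne H ⊤ with rfl | e
    · exact ⟨1, by simp⟩
    obtain ⟨a, -, ha⟩ := SetLike.not_le_iff_exists.1 (mt top_le_iff.1 e)
    obtain ⟨j, hj, e1⟩ := (Nat.dvd_prime_pow hr).1 ((index_dvd_of_le (le_sup_left : H ≤ H ⊔ zpowers a)).trans h)
    obtain ⟨s, hs⟩ := ih (H ⊔ zpowers a) (e1 ▸ pow_dvd_pow r (Nat.le_of_lt_succ (hj.lt_of_ne fun e2 => ha (by
      have := relIndex_mul_index (le_sup_left : H ≤ H ⊔ zpowers a)
      rw [e1, e2] at this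
      rw [← this] at h
      exact relIndex_eq_one.1 (Nat.eq_one_of_dvd_one (Nat.dvd_of_mul_dvd_mul_right (pow_pos hr.pos _)
        (by rwa [one_mul]))) (mem_sup_right (mem_zpowers a))))))
    exact ⟨Fin.cons a s, by rw [Fin.range_cons, Set.insert_eq, Subgroup.closure_union, ← zpowers_eq_closure, ← sup_assoc, hs]⟩

theorem col_cases (hc : ∀ a b : Λ, a * b = b * a) {k : ℕ} (k0 : k ≠ 0)
    (h : Nat.card Λ = 2 ∨ Nat.card Λ = 12 ∧ (∀ l : Λ, l ^ 6 = 1) ∨ 4 < Nat.card Λ ∧ Squarefree (Nat.card Λ)) :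
    Cl Λ K k := by
  classical
  rcases h with h | ⟨h, h6⟩ | ⟨h, h'⟩
  · obtain ⟨y, -, hy⟩ := (Nat.card_eq_two_iff' (1 : Λ)).1 h
    refine ⟨1, fun σ a _ l => ?_, by simp⟩
    rcases eq_or_ne l 1 with rfl | e
    · simp
    · exact (hy _ fun e' => e (a (e'.trans σ.map_one.symm))).trans (hy _ e).symm
  · obtain ⟨w, hw⟩ := exists_prime_orderOf_dvd_card' (G := Λ) 3 (hp := ⟨Nat.prime_three⟩) (by simp [h])
    obtain ⟨t, ht⟩ := exists_prime_orderOf_dvd_card' (G := Λ) 2 (by simp [h])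
    have h1 : orderOf (w * t) = 6 := by
      rw [Commute.orderOf_mul_eq_mul_orderOf_of_coprime (hc _ _) (by rw [hw, ht]; norm_num), hw, ht]
    generalize w * t = a at h1
    have h2 : (zpowers a).index = 2 := by have := (zpowers a).index_mul_card; rw [Nat.card_zpowers, h1, h] at this; omega
    obtain ⟨b, -, hb⟩ := SetLike.not_le_iff_exists.1 (mt top_le_iff.1 fun e : zpowers a = ⊤ => by simp [e] at h2)
    have h3 : b ^ 3 ∉ zpowers a := by rwa [pow_succ, mul_mem_cancel_left (sq_mem_of_index_two h2 b)]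
    have h4 : (b ^ 3) ^ 2 = 1 := by rw [← pow_mul, h6]
    generalize b ^ 3 = b at h3 h4
    refine ⟨fun l => if l = a ∨ l = b then 0 else 1, fun σ i H l => ?_, ?_⟩
    · have k : ∀ l ≠ 1, l = a ∨ l = b → σ l = a ∨ σ l = b := fun l e c => by
        by_contra d; simpa [c, d, k0.symm, zero_pow k0] using H l e
      have k1 : σ b = b := (k b (by rintro rfl; exact h3 (one_mem _)) (.inr rfl)).resolve_left fun e => by
        have := orderOf_dvd_of_pow_eq_one (show a ^ 2 = 1 by rw [← e, ← map_pow, h4, map_one])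
        rw [h1] at this; omega
      have k2 : σ a = a := (k a (by rintro rfl; simp at h1) (.inl rfl)).resolve_right fun e =>
        h3 (i (e.trans k1.symm) ▸ mem_zpowers a)
      have k3 : zpowers a ≤ σ.eqLocus (.id _) := zpowers_le.2 k2
      by_cases e : l ∈ zpowers a
      · exact k3 e
      · exact (mul_mem_cancel_left (H := σ.eqLocus (.id _)) k1).1 (k3 ((mul_mem_iff_of_index_two h2).2 (by simp [h3, e])))
    · have : {l | (if l = a ∨ l = b then (0 : K) else 1) = 0}.ncard ≤ 2 :=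
        (Set.ncard_le_ncard (t := {a, b}) (fun l hl => by by_contra d; simp at d; simp [d] at hl)).trans
          (Set.ncard_insert_le _ _ |>.trans (by simp))
      exact (Nat.mul_le_mul_left 4 this).trans_lt (by omega)
  · have := IsZGroup.of_squarefree h'
    letI : CommGroup Λ := { ‹Group Λ› with mul_comm := hc }
    obtain ⟨a, ha⟩ := IsCyclic.exists_generator (α := Λ)
    exact colS ![a] (by simpa [← zpowers_eq_closure, eq_top_iff'] using ha) ![1, 0] (fun i j => by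
      fin_cases i <;> fin_cases j <;> simp [k0.symm, zero_pow k0]) (by simp) (.inr h)

theorem col_odd {k : ℕ} (hk : Odd k) (h2 : (2 : K) ≠ 0) (h : Nat.card Λ = 3 ∨ Nat.card Λ = 9) : Cl Λ K k := by
  have k0 : k ≠ 0 := hk.pos.ne'
  have h1 : (1 : K) ≠ -1 := fun e => h2 (by linear_combination e)
  rcases h with h | h
  · obtain ⟨s, hs⟩ := genS Nat.prime_three 1 (⊥ : Subgroup Λ) (by simp [h])
    exact colS s (by simpa using hs) ![1, -1] (fun i j => by
      fin_cases i <;> fin_cases j <;> simp [hk.neg_one_pow, h1, h1.symm]) (by simp) (.inl fun i => by fin_cases i <;> simp)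
  · obtain ⟨s, hs⟩ := genS Nat.prime_three 2 (⊥ : Subgroup Λ) (by simp [h])
    exact colS s (by simpa using hs) ![1, -1, 0] (fun i j => by
      fin_cases i <;> fin_cases j <;> simp [hk.neg_one_pow, h1, h1.symm, zero_pow k0]) (by simp) (.inr (by omega))

theorem col_two {u : K} (h0 : u ≠ 0) (h8 : u ^ 8 ≠ 1) (h : Nat.card Λ = 4 ∨ Nat.card Λ = 8) : Cl Λ K 4 := by
  have h4 : u ^ 4 ≠ 1 := fun e => h8 (by rw [show u ^ 8 = (u ^ 4) ^ 2 by ring, e, one_pow])
  have h5 : u ^ 4 ≠ u ^ 8 := fun e => h4 (mul_left_cancel₀ (pow_ne_zero 4 h0) (by linear_combination -e))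
  have h6 := pow_ne_zero 4 h0
  have h7 := pow_ne_zero 8 h0
  rcases h with h | h
  · obtain ⟨s, hs⟩ := genS Nat.prime_two 2 (⊥ : Subgroup Λ) (by simp [h])
    exact colS s (by simpa using hs) ![1, u, u ^ 2] (fun i j => by
      fin_cases i <;> fin_cases j <;> simp [← pow_mul, h4, h8, h5, h4.symm, h8.symm, h5.symm]) (by simp)
      (.inl fun i => by fin_cases i <;> simp [h0])
  · obtain ⟨s, hs⟩ := genS Nat.prime_two 3 (⊥ : Subgroup Λ) (by simp [h])
    exact colS s (by simpa using hs) ![1, u, u ^ 2, 0] (fun i j => by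
      fin_cases i <;> fin_cases j <;> simp [← pow_mul, h4, h8, h5, h4.symm, h8.symm, h5.symm, h0, h6.symm, h7.symm])
      (by simp) (.inr (by omega))
end

variable {G V K : Type u} [Group G] [Finite G] [AddCommGroup V] [Finite V] [Nontrivial V]
  [DistribMulAction G V] [FaithfulSMul G V] [Field K] [Module K V] {A L : Subgroup G} [A.Normal] {ι : G → K}

local notation "C" X => Subgroup.centralizer (X : Set G)

theorem exB {r : ℕ} (hr : r.Prime) (hS : St.{u} r (Nat.card V)) (hs : Group.IsSolvable G) (ho : ¬ r ∣ Nat.card G)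
    (hV : ∀ v : V, r • v = 0) [L.Normal] : (∀ l ∈ L, ∀ v : V, v ≠ 0 → l • v = v → l = 1) ∨
    ∃ x y : V, x ≠ 0 ∧ stabilizer G x ⊓ L ≠ ⊥ ∧ (∀ b ∈ stabilizer G x ⊓ L, b • y = y) ∧
      ∀ g : G, g • x = x → g • y = y → ∀ v : V, (∀ b ∈ stabilizer G x ⊓ L, b • v = v) → g • v = v := by
  refine or_iff_not_imp_left.2 fun H => ?_
  push Not at H
  obtain ⟨l, hl, z, z0, e, l1⟩ := H
  obtain ⟨x, hx⟩ := exists_maximalFor_of_wellFoundedGT (fun x : V => x ≠ 0) (fun x => stabilizer G x ⊓ L) ⟨z, z0⟩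
  have h0 : stabilizer G x ⊓ L ≠ ⊥ := fun e' => l1 (mem_bot.1 (e'.le (hx.2 z0 (e'.le.trans bot_le) ⟨e, hl⟩)))
  generalize hB : stabilizer G x ⊓ L = B at h0
  let D := FixedPoints.addSubgroup B V
  have hD : Inv (normalizer (B : Set G)) D := fun g v hv b => by
    have := hv ⟨_, (mem_normalizer_iff''.1 g.2 b).1 b.2⟩
    rwa [Subgroup.mk_smul, mul_smul, mul_smul, inv_smul_eq_iff] at this
  letI : SMul (normalizer (B : Set G)) D := ⟨fun g x => ⟨g • x.1, hD g _ x.2⟩⟩
  letI : DistribMulAction (normalizer (B : Set G)) D :=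
    Function.Injective.distribMulAction D.subtype Subtype.val_injective fun _ _ => rfl
  have hH : ¬ r ∣ Nat.card (normalizer (B : Set G)) := fun e => ho (e.trans (card_subgroup_dvd_card _))
  have hV' : ∀ v : D, r • v = 0 := fun v => Subtype.ext (hV v)
  obtain ⟨v, w, H⟩ := hS.cr inferInstance hH hV' (D.card_le_card_addGroup.lt_of_ne fun e => h0 (eq_bot_iff.2
    fun b hb => eq_of_smul_eq_smul fun v : V => by
      simpa using (D.eq_top_of_card_eq e).ge (AddSubgroup.mem_top v) ⟨b, hb⟩)) (maschke hr hH hV')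
  obtain ⟨v, w, v0, H⟩ : ∃ v w : D, v ≠ 0 ∧ ∀ g : normalizer (B : Set G), g • v = v → g • w = w → ∀ x : D, g • x = x := by
    rcases eq_or_ne v 0 with rfl | e
    · rcases eq_or_ne w 0 with rfl | e
      · exact ⟨⟨x, fun b => (hB.ge b.2).1⟩, 0, fun e => hx.1 (congrArg Subtype.val e), fun g _ a => H g a a⟩
      · exact ⟨w, 0, e, fun g a b => H g b a⟩
    · exact ⟨v, w, e, H⟩
  have v1 : v.1 ≠ 0 := fun e => v0 (Subtype.ext e)
  have h1 : B ≤ stabilizer G v.1 ⊓ L := fun b hb => ⟨v.2 ⟨b, hb⟩, (hB.ge hb).2⟩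
  have h2 : stabilizer G v.1 ⊓ L = B := le_antisymm ((hx.2 v1 (hB.le.trans h1)).trans hB.le) h1
  refine ⟨v, w, v1, h2 ▸ h0, fun b hb => w.2 ⟨b, h2.le hb⟩, fun g a b y hy => congrArg Subtype.val
    (H ⟨g, h2 ▸ mem_normalizer_fintype fun n hn => ⟨?_, ‹L.Normal›.conj_mem n hn.2 g⟩⟩ (Subtype.ext a) (Subtype.ext b)
      ⟨y, fun c => hy c (h2.ge c.2)⟩)⟩
  exact (stabilizer G v.1).mul_mem (mul_mem a hn.1) ((stabilizer G v.1).inv_mem a)

variable (h : PD V A ι) [L.Normal] (hL : LD A L)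
include h hL

theorem endB {g : G} {x : V} (x0 : x ≠ 0) (hg : g • x = x) (hA : g ∈ C A)
    (hc : 4 * {l | l ∈ L ∧ g • l • x ≠ l • x}.ncard < Nat.card L) : g = 1 := by
  set M := {l | l ∈ L ∧ g • l • x ≠ l • x}
  have hcard : ∀ M' : Set G, M'.ncard ≤ 2 * M.ncard → Nat.card L < 2 * ((L : Set G) \ M').ncard :=
    fun M' h => by
      have := Set.le_ncard_diff M' (L : Set G)
      have : (L : Set G).ncard = Nat.card L := (Nat.card_coe_set_eq _).symm
      omega
  have k0 : ∀ d ∈ L, d • x = x → L ≤ centralizer {d} → d = 1 := fun d a b c =>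
    fa h ((h.nd hL.le hL.cen).le ⟨fun l hl => (c hl d rfl).symm, a⟩) x0 b
  have k1 : ∀ f ∈ L, f ∉ M → f⁻¹ * (g * f * g⁻¹) ∈ stabilizer G x ⊓ L := fun f a b => mem_inf.2 ⟨by
    rw [mem_stabilizer_iff, mul_smul, mul_smul, mul_smul, inv_smul_eq_iff.2 hg.symm,
      not_not.1 fun c => b ⟨a, c⟩, inv_smul_smul], mul_mem (inv_mem a) (‹L.Normal›.conj_mem f a g)⟩
  have k2 : L ≤ centralizer {g} := H1.Bs.le_of_half Set.diff_subset (fun f hf => by
    have hδ := k1 f hf.1 hf.2
    have := k0 _ hδ.2 hδ.1 (H1.Bs.le_of_half Set.diff_subset (fun t ht => by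
      rintro _ rfl
      have h1 := k1 t ht.1 fun c => ht.2 (.inl c)
      have h2 := k1 _ (mul_mem hf.1 ht.1) fun c => ht.2 (.inr ⟨_, c, inv_mul_cancel_left _ _⟩)
      exact Commute.inv_inv_iff.1 (commutatorElement_eq_one_iff_commute.1 (fa h
        (hL.com _ (inv_mem hδ.2) _ (inv_mem ht.1)) x0 (Eq.trans (congrArg (· • x) (by simp only [commutatorElement_def]; group))
          (mul_mem (inv_mem hδ) (mul_mem h2 (inv_mem h1))).1))))  (hcard (M ∪ (f⁻¹ * ·) '' M) ((Set.ncard_union_le _ _).trans (by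
        rw [Set.ncard_image_of_injective _ (mul_right_injective _)]; omega))))
    rintro _ rfl
    exact mul_inv_eq_iff_eq_mul.1 (inv_mul_eq_one.1 this).symm) (hcard M (by omega))
  exact k0 g (hL.ker g hA fun y hy => by
    rw [commutatorElement_eq_one_iff_mul_comm.2 (k2 hy g rfl)]; exact one_mem _) hg k2

theorem coreB {r : ℕ} (hr : r.Prime) (ho : ¬ r ∣ Nat.card G) (hV : ∀ v : V, r • v = 0) {x y₀ : V} (x0 : x ≠ 0)
    {B : Subgroup G} (hB : stabilizer G x ⊓ L = B) (hy : ∀ b ∈ B, b • y₀ = y₀)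
    (hb : ∀ g : G, g • x = x → g • y₀ = y₀ → ∀ v : V, (∀ b ∈ B, b • v = v) → g • v = v)
    [((C B).subgroupOf L).Normal] {k : ℕ} (k0 : k ≠ 0) (hc : Cl (L ⧸ (C B).subgroupOf L) K k)
    (hq : ∀ q : L ⧸ (C B).subgroupOf L, ∃ l : L, l = q ∧ l ^ k = 1)
    (hk : ∀ u ∈ L, ∀ v ∈ L, u ^ k = 1 → v ^ k = 1 → (u * v) ^ k = 1) : Bs G V := by
  classical
  have := Fintype.ofFinite B
  have := Fintype.ofFinite (L ⧸ (C B).subgroupOf L)
  have BL : B ≤ L := hB ▸ inf_le_right
  have Bx : ∀ b ∈ B, b • x = x := fun b hb => (hB.ge hb).1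
  have hn : ¬ r ∣ Fintype.card B := fun e => ho (e.trans (Nat.card_eq_fintype_card (α := B) ▸ card_subgroup_dvd_card B))
  let π : V →+ V := AddMonoidHom.mk' (fun v => ∑ b : B, b.1 • v) fun v w => by simp [Finset.sum_add_distrib]
  have π0 : ∀ v, π v = ∑ b : B, b.1 • v := fun _ => rfl
  have π1 : ∀ v, (∀ b ∈ B, b • v = v) → π v = Fintype.card B • v := fun v hv => by simp [π0, hv _ (Subtype.property _)]
  have π2 : ∀ (c : K) v, π (c • v) = c • π v := fun c v => by
    simp [π0, Finset.smul_sum, h.lin _ (hL.cen (BL (Subtype.property _)))]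
  have π3 : ∀ b ∈ B, ∀ v, π (b • v) = π v := fun b hb v => by
    rw [π0, π0, ← Equiv.sum_comp (Equiv.mulRight (⟨b, hb⟩ : B)) fun b : B => b.1 • v]; simp [mul_smul]
  have π4 : ∀ l ∈ L, l ∉ (C B) → ∀ v, (∀ b ∈ B, b • v = v) → π (l • v) = 0 := fun l hl c v hv => by
    obtain ⟨b, hb, e⟩ : ∃ b ∈ B, b * l ≠ l * b := by simpa [mem_centralizer_iff] using c
    have d := hL.com b (BL hb) l hl
    have := π3 b hb (l • v)
    rw [show b • l • v = ⁅b, l⁆ • l • b • v by simp [commutatorElement_def, smul_smul], hv b hb, h.act _ d, π2] at this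
    by_contra e'
    exact e (commutatorElement_eq_one_iff_mul_comm.1 (fa h d e' (by rwa [h.act _ d])))
  have cj : ∀ g : G, g • x = x → ∀ b ∈ B, g * b * g⁻¹ ∈ B := fun g hg b hb =>
    hB.le ⟨(stabilizer G x).mul_mem (mul_mem hg (Bx b hb)) ((stabilizer G x).inv_mem hg), ‹L.Normal›.conj_mem b (BL hb) g⟩
  have π5 : ∀ g : G, g • x = x → ∀ v, π (g • v) = g • π v := fun g hg v => by
    rw [π0, π0, Finset.smul_sum]
    exact (Fintype.sum_bijective (fun b : B => (⟨_, cj g hg b b.2⟩ : B)) (Finite.injective_iff_bijective.1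
      fun a b e => by simpa using e) _ _ fun b => by simp [smul_smul]).symm
  have hY : ∀ l ∈ (C B), ∀ v : V, (∀ b ∈ B, b • v = v) → ∀ b ∈ B, b • l • v = l • v := fun l hl v hv b hb => by
    rw [smul_smul, hl b hb, mul_smul, hv b hb]
  obtain ⟨c, c1, c2⟩ := hc
  choose s s1 s2 using hq
  let y := y₀ + ∑ q ∈ Finset.univ.erase 1, c q • (s q).1 • x
  have y1 : ∀ l : L, π (l.1⁻¹ • y) = π (l.1⁻¹ • y₀) +
      if (l : L ⧸ (C B).subgroupOf L) = 1 then 0 else Fintype.card B • c l • (l⁻¹ * s l).1 • x := fun l => by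
    have k : ∀ q, q ≠ (l : L ⧸ (C B).subgroupOf L) → π (l.1⁻¹ • c q • (s q).1 • x) = 0 := fun q e => by
      rw [h.lin _ (hL.cen (inv_mem l.2)), π2, smul_smul, π4 _ (mul_mem (inv_mem l.2) (s q).2) (fun d => e ((s1 q).symm.trans
        (QuotientGroup.eq.2 (show l⁻¹ * s q ∈ (C B).subgroupOf L from d)).symm)) x Bx, smul_zero]
    rw [smul_add, map_add, Finset.smul_sum, map_sum]
    split_ifs with e
    · rw [Finset.sum_eq_zero fun q hq => k q (e ▸ Finset.ne_of_mem_erase hq)]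
    · rw [Finset.sum_eq_single (l : L ⧸ (C B).subgroupOf L) (fun q _ => k q) (by simp [e]), h.lin _ (hL.cen (inv_mem l.2)),
        π2, smul_smul, π1 _ (hY (l.1⁻¹ * (s l).1) (show l⁻¹ * s l ∈ (C B).subgroupOf L from
          QuotientGroup.eq.1 (s1 l).symm) x Bx), smul_comm]; rfl
  have y2 : ∀ l : L, (l : L ⧸ (C B).subgroupOf L) ≠ 1 → π (l.1⁻¹ • y) = Fintype.card B • c l • (l⁻¹ * s l).1 • x :=
    fun l e => by rw [y1, if_neg e, π4 _ (inv_mem l.2) (fun d => e ((QuotientGroup.eq_one_iff _).2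
      (by simpa [mem_subgroupOf] using d))) _ hy, zero_add]
  refine ⟨x, y, fun g gx gy v => ?_⟩
  have g1 := hb g gx (canc hr hn hV (by
    have := y1 1
    simp only [OneMemClass.coe_one, inv_one, one_smul, QuotientGroup.mk_one, if_true, add_zero] at this
    rw [← smul_comm, ← π1 _ hy, ← this, ← π5 g gx, gy]))
  let σ := QuotientGroup.map ((C B).subgroupOf L) ((C B).subgroupOf L) (MulAut.conjNormal g : MulAut L).toMonoidHom
    fun l hl b hb => by
      have := hl _ (cj g⁻¹ (inv_smul_eq_iff.2 gx.symm) b hb)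
      simp only [MulEquiv.toMonoidHom_eq_coe, MonoidHom.coe_coe, coe_subtype, MulAut.conjNormal_apply, inv_inv] at this ⊢
      calc _ = g * (g⁻¹ * b * g * l) * g⁻¹ := by group
        _ = _ := by rw [this]; group
  have σ0 : ∀ l : L, σ l = (MulAut.conjNormal g l : L) := fun _ => rfl
  have σ1 : Function.Injective σ := (injective_iff_map_eq_one σ).2 fun q => QuotientGroup.induction_on q fun l e =>
    (QuotientGroup.eq_one_iff _).2 fun b hb => by
      have := (QuotientGroup.eq_one_iff _).1 ((σ0 l).symm.trans e) _ (cj g gx b hb)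
      simpa [mul_assoc] using congrArg (· * g) (show b * (l * g⁻¹) = l * (b * g⁻¹) by simpa [mul_assoc] using this)
  have σ2 : ∀ q ≠ 1, c q • x = c (σ q) • ((MulAut.conjNormal g (s q))⁻¹ * s (σ q)).1 • x := fun q e => by
    have a := y2 (s q) (by rwa [s1])
    have b := y2 (MulAut.conjNormal g (s q)) (by rw [← σ0, s1]; exact fun e' => e (σ1 (e'.trans σ.map_one.symm)))
    rw [← σ0, s1, MulAut.conjNormal_apply, mul_inv_rev, mul_inv_rev, inv_inv, mul_smul, mul_smul,
      inv_smul_eq_iff.2 gy.symm, π5 g gx, a, s1, inv_mul_cancel, OneMemClass.coe_one, one_smul, ← smul_comm,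
      g1 _ fun b hb => by rw [h.lin _ (hL.cen (BL hb)), Bx b hb]] at b
    exact canc hr hn hV b
  have σ3 := c1 σ σ1 fun q e => by
    have a := σ2 q e
    have b : ((MulAut.conjNormal g (s q))⁻¹ * s (σ q)).1 ^ k = 1 := hk _ (inv_mem (Subtype.property _)) _
      (Subtype.property _) (by rw [inv_pow, ← coe_pow, ← map_pow, s2, map_one]; simp) (by rw [← coe_pow, s2]; rfl)
    generalize (MulAut.conjNormal g (s q))⁻¹ * s (σ q) = l at a b
    have d : ∀ n : ℕ, c q ^ n • x = c (σ q) ^ n • l.1 ^ n • x := fun n => by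
      induction n with
      | zero => simp
      | succ n ih => rw [pow_succ', mul_smul, ih, smul_comm, ← h.lin _ (hL.cen (pow_mem l.2 n)), a,
          h.lin _ (hL.cen (pow_mem l.2 n)), smul_smul, smul_smul (l.1 ^ n), ← pow_succ, ← pow_succ]
    exact smul_left_injective K x0 (by simpa [b] using (d k).symm)
  suffices g = 1 by rw [this, one_smul]
  refine endB h hL x0 gx (fun a ha => ?_) (lt_of_le_of_lt (Nat.mul_le_mul_left 4 (?_ : _ ≤ Nat.card
    ((C B).subgroupOf L) * {l | c l = 0}.ncard)) ?_)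
  · have := g1 _ (hY a (le_centralizer_iff.1 (BL.trans hL.cen) ha) x Bx)
    have := fa h (mul_mem (inv_mem ha) (‹A.Normal›.conj_mem a ha g)) x0 (by
      rw [mul_smul, mul_smul, mul_smul, inv_smul_eq_iff.2 gx.symm, this, inv_smul_smul])
    exact (mul_inv_eq_iff_eq_mul.1 (inv_mul_eq_one.1 this).symm).symm
  · rw [← Nat.card_coe_set_eq {l | c l = 0}, ← QuotientGroup.card_preimage_mk, Nat.card_coe_set_eq,
      ← Set.ncard_image_of_injective _ Subtype.val_injective]
    refine Set.ncard_le_ncard fun l hl => ⟨⟨l, hl.1⟩, by_contra fun d => hl.2 ?_, rfl⟩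
    by_cases e : ((⟨l, hl.1⟩ : L) : L ⧸ (C B).subgroupOf L) = 1
    · exact g1 _ (hY l ((QuotientGroup.eq_one_iff (⟨l, hl.1⟩ : L)).1 e) x Bx)
    have a := σ2 _ e
    rw [σ3, smul_right_inj d] at a
    have b := QuotientGroup.eq.1 (s1 (⟨l, hl.1⟩ : L))
    generalize s _ = t at a b
    have b' : t.1⁻¹ * l ∈ (C B) := b
    have a' : t.1⁻¹ * (g * t * g⁻¹) ∈ B := hB.le ⟨(stabilizer G x).inv_mem_iff.1 (by
      simpa [mul_assoc, mul_smul, eq_comm (a := x), inv_smul_eq_iff] using a),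
      L.mul_mem (L.inv_mem t.2) (‹L.Normal›.conj_mem _ t.2 g)⟩
    have := hY _ b' x Bx _ a'
    rwa [mul_smul, mul_smul, mul_smul, inv_smul_eq_iff.2 (g1 _ (hY _ b' x Bx)).symm, smul_smul t.1, mul_inv_cancel_left,
      mul_smul, smul_left_cancel_iff] at this
  · rw [card_eq_card_quotient_mul_card_subgroup ((C B).subgroupOf L), mul_left_comm, mul_comm]
    exact Nat.mul_lt_mul_of_pos_right c2 Nat.card_pos

end Cfsg.Agent.H26.DB
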