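import Mathlib
import Cfsg.Agent.H26.DB4

/-! Coprime bases of size two, V: small degrees. -/

set_option autoImplicit false
set_option linter.unusedSectionVars false

namespace Cfsg.Agent.H26.DB

open Subgroup MulAction BT Module
open scoped Pointwise commutatorElement

universe u

variable {G V K : Type u} [Group G] [Finite G] [AddCommGroup V] [Finite V] [Nontrivial V]
  [DistribMulAction G V] [FaithfulSMul G V] [Field K] [Module K V] {A L : Subgroup G} [A.Normal] {ι : G → K}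

local notation "C" X => Subgroup.centralizer (X : Set G)

theorem two_ne {r : ℕ} (hr : r.Prime) (r2 : r ≠ 2) (hV : ∀ v : V, r • v = 0) : (2 : K) ≠ 0 := fun e => by
  obtain ⟨v, hv⟩ := exists_ne (0 : V)
  exact hv (canc hr (n := 2) (fun d => r2 ((Nat.prime_dvd_prime_iff_eq hr Nat.prime_two).1 d)) hV (by
    rw [smul_zero, two_smul, ← two_smul K, e, zero_smul]))

variable (h : PD V A ι) [L.Normal] (hL : LD A L) {W : Type u} [AddCommGroup W] [Finite W] [DistribMulAction G W]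
  {p : G → W} (hp : Sec A L W p)
include h hL

theorem pairs {B : Subgroup G} (hB : B ≤ L) : (C B).relIndex L = A.relIndex B :=
  h.ri hL.le hL.cen hB ▸ (h.pair (hB.trans hL.cen) fun x a y b => hL.com x a y (hB b)).antisymm
    (h.pair hL.cen fun x a y b => hL.com x (hB a) y b)

theorem isot {B : Subgroup G} (hB : B ≤ L) (hc : B ≤ C B) : A.relIndex B * A.relIndex B ∣ A.relIndex L := by
  rw [← relIndex_mul_relIndex A ((C B) ⊓ L) L (le_inf (le_centralizer_iff.1 (hB.trans hL.cen)) hL.le) inf_le_right,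
    inf_relIndex_right, pairs h hL hB]
  refine Nat.mul_dvd_mul_right ?_ _
  rw [← QuotientGroup.ker_mk' A, relIndex_ker, relIndex_ker]
  exact card_dvd_of_le (map_mono (le_inf hc hB))

include hp

theorem six {n : ℕ} (hn : A.relIndex L ∣ 2 ^ n * 3 ^ n) {l : G} (hl : l ∈ L) : l ^ 6 ∈ A := by
  have hC := hp.cr hL.le fun U => h.cr hL
  rw [← hp.ker _ (pow_mem hl _), hp.pow hl]
  have h1 := sqf hC 2 n (w := 3 ^ n • p l) (by
    rw [smul_smul]; exact addOrderOf_dvd_iff_nsmul_eq_zero.1 ((addOrderOf_dvd_natCard _).trans (hp.card ▸ hn)))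
  rw [smul_comm] at h1
  simpa [smul_smul] using sqf hC 3 n h1

theorem thmB {r : ℕ} (hr : r.Prime) (r2 : r ≠ 2) (hS : St.{u} r (Nat.card V)) (hs : Group.IsSolvable G)
    (ho : ¬ r ∣ Nat.card G) (hV : ∀ v : V, r • v = 0) {e : ℕ} (he : A.relIndex L = e * e) (e1 : e ≤ 17) (e2 : e ≠ 16) :
    Bs G V ∨ (∀ u : K, u ≠ 0 → u ^ 8 = 1) ∧ ∃ B ≤ L, B ≤ (C B) ∧ B ⊓ A = ⊥ ∧ 4 ∣ A.relIndex B := by
  rcases exB (L := L) hr hS hs ho hV with H | ⟨x, y, x0, b0, hy, hb⟩
  · exact .inl (semi h hL hp hr hV H)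
  generalize hB : stabilizer G x ⊓ L = B at *
  have BL : B ≤ L := hB ▸ inf_le_right
  have h1 : B ⊓ A = ⊥ := eq_bot_iff.2 fun b hb => fa h hb.2 x0 (hB.ge hb.1).1
  have h2 : B ≤ C B := fun a ha b hb => commutatorElement_eq_one_iff_mul_comm.1 (h1.le ⟨by
    rw [commutatorElement_def]; exact B.mul_mem (mul_mem (mul_mem hb ha) (B.inv_mem hb)) (B.inv_mem ha),
    hL.com b (BL hb) a (BL ha)⟩)
  have h3 : A ≤ C B := le_centralizer_iff.1 (BL.trans hL.cen)
  have : ((C B).subgroupOf L).Normal := ⟨fun a ha b => by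
    have := mul_mem (h3 (hL.com b b.2 a a.2)) ha
    simpa [mem_subgroupOf, commutatorElement_def] using this⟩
  have h4 : ∀ a b : L ⧸ (C B).subgroupOf L, a * b = b * a := fun a b => QuotientGroup.induction_on a fun a =>
    QuotientGroup.induction_on b fun b => QuotientGroup.eq.2 (by
      simpa [mem_subgroupOf, commutatorElement_def, mul_assoc] using h3 (hL.com _ (inv_mem b.2) _ (inv_mem a.2)))
  have h5 : Nat.card (L ⧸ (C B).subgroupOf L) = A.relIndex B := pairs h hL BL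
  have h6 : A.relIndex B ∣ e := (Nat.pow_dvd_pow_iff two_ne_zero).1 (by simpa only [sq, ← he] using isot h hL BL h2)
  have h7 : A.relIndex B ≠ 1 := fun e => b0 (by rw [← h1, inf_eq_left.2 (relIndex_eq_one.1 e)])
  have e0 : 0 < e := Nat.pos_of_ne_zero (by rintro rfl; exact index_ne_zero_of_finite he)
  have h8 : e ∣ 24 → ∀ l ∈ L, l ^ 6 ∈ A := fun d l => six h hL hp (n := 6)
    (he ▸ (Nat.mul_dvd_mul d d).trans (by norm_num))
  have k1 : Cl (L ⧸ (C B).subgroupOf L) K (Nat.card G) → Bs G V := fun c =>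
    coreB h hL hr ho hV x0 hB hy hb Nat.card_pos.ne' c (fun q => ⟨q.out, q.out_eq, Subtype.ext pow_card_eq_one'⟩)
      fun _ _ _ _ _ _ => pow_card_eq_one'
  have k2 : A.relIndex B = 3 ∨ A.relIndex B = 9 → Bs G V := fun c => by
    obtain ⟨t, m, m2, e⟩ := Nat.exists_eq_two_pow_mul_odd (Nat.card_pos (α := G)).ne'
    refine coreB h hL hr ho hV x0 hB hy hb m2.pos.ne' (col_odd m2 (two_ne hr r2 hV) (h5 ▸ c)) (fun q => ?_)
      fun u hu v hv a b => by rw [pwO hL hu hv m2 (cpw hL hv hu (b ▸ one_mem _)), a, b, mul_one]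
    obtain ⟨j, a, b⟩ := Nat.chineseRemainder (show (2 ^ t).Coprime 9 from (by norm_num : Nat.Coprime 2 9).pow_left t) 0 1
    obtain ⟨i, rfl⟩ := (Nat.modEq_zero_iff_dvd).1 a
    refine ⟨q.out ^ (2 ^ t * i), ?_, Subtype.ext ?_⟩
    · rw [QuotientGroup.mk_pow, QuotientGroup.out_eq', pow_eq_pow_iff_modEq.2 (b.of_dvd ((orderOf_dvd_natCard q).trans
        (by rcases c with c | c <;> simp [h5, c]))), pow_one]
    · rw [← pow_mul, mul_right_comm, ← e, pow_mul, coe_pow, coe_pow, pow_card_eq_one', one_pow]; rfl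
  have k3 : A.relIndex B = 4 ∨ A.relIndex B = 8 → Bs G V ∨ ∀ u : K, u ≠ 0 → u ^ 8 = 1 := fun c => by
    refine or_iff_not_imp_right.2 fun H => ?_
    push Not at H
    obtain ⟨u, u0, u8⟩ := H
    have h9 := h8 (by
      have : 4 ∣ e := Dvd.dvd.trans (by omega) h6
      interval_cases e <;> omega)
    refine coreB h hL hr ho hV x0 hB hy hb four_ne_zero (col_two u0 u8 (h5 ▸ c)) (fun q => ?_)
      fun u hu v hv a b => by
        rw [pwE hL hu hv (n := 2) (mem_bot.1 (mem_cop (m := 2) (n := 3) (by norm_num)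
          (by rw [← pow_mul]; exact cpw hL hv hu (b ▸ one_mem _)) (by rw [← pow_mul]; exact cpw hL hv hu (h9 v hv)))),
          a, b, mul_one]
    obtain ⟨a, ha, e⟩ := lemN' h hL hp q.out.2 (h9 _ q.out.2)
    refine ⟨(q.out * ⟨a, hL.le ha⟩⁻¹) ^ 9, ?_, Subtype.ext ?_⟩
    · rw [QuotientGroup.mk_pow, QuotientGroup.mk_mul_of_mem _ (inv_mem (show (⟨a, hL.le ha⟩ : L) ∈ (C B).subgroupOf L from h3 ha)),
        QuotientGroup.out_eq', pow_succ, orderOf_dvd_iff_pow_eq_one.1 ((orderOf_dvd_natCard q).trans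
        (by rcases c with c | c <;> simp [h5, c])), one_mul]
    · rw [← pow_mul, show 9 * 4 = 2 * 6 * 3 from rfl, pow_mul, coe_pow, coe_pow]
      exact (congrArg (· ^ 3) e).trans (one_pow _)
  by_cases c : A.relIndex B = 4 ∨ A.relIndex B = 8
  · exact (k3 c).imp_right fun H => ⟨H, B, BL, h2, h1, by omega⟩
  by_cases c' : A.relIndex B = 3 ∨ A.relIndex B = 9
  · exact .inl (k2 c')
  refine .inl (k1 (col_cases h4 Nat.card_pos.ne' ?_))
  rw [h5]
  by_cases c2 : A.relIndex B = 12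
  · refine .inr (.inl ⟨c2, fun q => QuotientGroup.induction_on q fun l => (QuotientGroup.eq_one_iff (l ^ 6)).2
      (h3 (h8 (by rw [c2] at h6; interval_cases e <;> omega) l l.2))⟩)
  have := Nat.le_of_dvd e0 h6
  have : A.relIndex B ≤ 17 := by omega
  generalize A.relIndex B = n at *
  interval_cases n <;> first | omega | exact .inr (.inr (by decide +kernel))

omit hp in
theorem plus {B : Subgroup G} (BL : B ≤ L) (h2 : B ≤ C B) (h1 : B ⊓ A = ⊥) (h4 : 4 ∣ A.relIndex B)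
    (hA : ∀ a ∈ A, a ^ 2 = 1) (hl : ∀ l ∈ L, l ^ 2 ∈ A) (he : A.relIndex L = 16) (h0 : (2 : K) ≠ 0) {g : G} (hg : g ^ 5 = 1)
    (hf : ∀ l ∈ L, ⁅g, l⁆ = 1 → l ∈ A) (hgA : g ∈ C A) : False := by
  classical
  have := Fintype.ofFinite G
  have h3 : A ≤ C B := le_centralizer_iff.1 (BL.trans hL.cen)
  have h5 : A.relIndex B = 4 := by
    have := isot h hL BL h2
    obtain ⟨t, ht⟩ := h4
    rw [he, ht] at this
    have := Nat.le_of_dvd (by norm_num) this
    have : t ≠ 0 := by rintro rfl; exact index_ne_zero_of_finite ht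
    rw [ht]; nlinarith [Nat.pos_of_ne_zero this]
  have h6 : (C B) ⊓ L ≤ A ⊔ B := by
    have a := relIndex_mul_relIndex A _ L (le_inf h3 hL.le) inf_le_right
    have b := relIndex_mul_relIndex A _ _ le_sup_left (sup_le (le_inf h3 hL.le) (le_inf h2 BL))
    rw [inf_relIndex_right, pairs h hL BL, h5, he] at a
    rw [relIndex_sup_left, h5] at b
    exact relIndex_eq_one.1 (by omega)
  have h7 : ∀ b ∈ B, b ^ 2 = 1 := fun b hb => h1.le ⟨pow_mem hb 2, hl b (BL hb)⟩
  have h8 : ∀ l ∈ (C B) ⊓ L, l ^ 2 = 1 := fun l c => by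
    obtain ⟨a, ha, b, hb, rfl⟩ := mem_sup_of_normal_left.1 (h6 c)
    rw [(cmA hL ha (BL hb)).mul_pow, hA a ha, h7 b hb, one_mul]
  have h9 : ∀ l : G, ∃ b ∈ B, ∀ b' ∈ B, l ∉ (C B) → ⁅b, l * b'⁆ ≠ 1 := fun l => by
    by_cases c : l ∈ C B
    · exact ⟨1, one_mem _, fun _ _ d => (d c).elim⟩
    · obtain ⟨b, hb, e⟩ : ∃ b ∈ B, b * l ≠ l * b := by simpa [mem_centralizer_iff] using c
      exact ⟨b, hb, fun b' hb' _ d => e (mul_right_cancel (b := b') (by
        rw [mul_assoc, commutatorElement_eq_one_iff_mul_comm.1 d, mul_assoc, mul_assoc, h2 hb' b hb]))⟩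
  choose β β1 β2 using h9
  let φ : G → G := fun l => l * β (l : G ⧸ B).out
  have φ1 : ∀ l, ((φ l : G) : G ⧸ B) = l := fun l => QuotientGroup.mk_mul_of_mem _ (β1 _)
  have φ2 : ∀ l, φ (φ l) = l := fun l => by
    simp only [φ] at φ1 ⊢; rw [φ1, mul_assoc, ← sq, h7 _ (β1 _), mul_one]
  have φ3 : ∀ l ∈ L, l ∉ (C B) → (φ l ^ 2 = 1 ↔ l ^ 2 ≠ 1) := fun l a b => by
    obtain ⟨c, hc⟩ := QuotientGroup.mk_out_eq_mul B l
    have d := β2 (l : G ⧸ B).out _ (inv_mem c.2) (by rwa [hc, mul_mem_cancel_right (h2 c.2)])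
    rw [hc, mul_inv_cancel_right, ← hc] at d
    have d1 := hL.com _ (BL (β1 (l : G ⧸ B).out)) l a
    have d2 := neg1 h d1 d (hA _ d1)
    rw [pwL hL a (BL (β1 _)), h7 _ (β1 _), mul_one, Nat.choose_self, pow_one]
    refine ⟨fun e e' => d (by rwa [e', one_mul] at e), fun e => h.inj (mul_mem (hl l a) d1) (one_mem _) ?_⟩
    rw [h.mul (hl l a) d1, d2, neg1 h (hl l a) e (hA _ (hl l a)), h.one]; ring
  have φ4 : ∀ l, (φ l ∈ L ∧ φ l ∉ (C B)) ↔ (l ∈ L ∧ l ∉ (C B)) := fun l => by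
    simp only [φ, mul_mem_cancel_right (h2 (β1 _)), mul_mem_cancel_right (BL (β1 _))]
  have c1 : (Finset.univ.filter fun l => (l ∈ L ∧ l ∉ (C B)) ∧ l ^ 2 = 1).card =
      (Finset.univ.filter fun l => (l ∈ L ∧ l ∉ (C B)) ∧ ¬ l ^ 2 = 1).card :=
    Finset.card_nbij' φ φ (fun l c => by
      simp only [Finset.coe_filter, Finset.mem_univ, true_and, Set.mem_setOf_eq] at c ⊢
      exact ⟨(φ4 l).2 c.1, fun d => (φ3 l c.1.1 c.1.2).1 d c.2⟩) (fun l c => by
      simp only [Finset.coe_filter, Finset.mem_univ, true_and, Set.mem_setOf_eq] at c ⊢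
      exact ⟨(φ4 l).2 c.1, (φ3 l c.1.1 c.1.2).2 c.2⟩) (fun l _ => φ2 l) fun l _ => φ2 l
  have c2 := Finset.card_filter_add_card_filter_not (s := Finset.univ.filter fun l => l ∈ L ∧ l ∉ (C B)) fun l => l ^ 2 = 1
  have c3 := Finset.card_filter_add_card_filter_not (s := Finset.univ.filter fun l => l ∈ L) fun l => l ∈ (C B)
  have c4 := Finset.card_filter_add_card_filter_not (s := Finset.univ.filter fun l => l ∈ L ∧ l ^ 2 = 1) fun l => l ∈ (C B)
  simp only [Finset.filter_filter] at c2 c3 c4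
  have c5 : ∀ H : Subgroup G, (Finset.univ.filter fun l => l ∈ H).card = Nat.card H := fun H => by
    rw [Nat.card_eq_fintype_card, Fintype.card_subtype]
  have c6 : Nat.card A = 2 := by
    have := cycA h
    obtain ⟨b, hb, bA⟩ := SetLike.not_le_iff_exists.1 (mt relIndex_eq_one.2 (show A.relIndex B ≠ 1 by omega))
    obtain ⟨l, a, c⟩ := ndl h hL (BL hb) bA
    have : Nontrivial A := ⟨⟨⟨_, hL.com b (BL hb) l a⟩, 1, fun e => c (congrArg Subtype.val e)⟩⟩
    rw [← IsCyclic.exponent_eq_card]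
    exact (Nat.dvd_prime Nat.prime_two).1 (Monoid.exponent_dvd_of_forall_pow_eq_one fun a => Subtype.ext (hA a a.2))
      |>.resolve_left Monoid.one_lt_exponent.ne'
  have c7 := relIndex_mul_relIndex ⊥ A L bot_le hL.le
  have c8 := relIndex_mul_relIndex ⊥ ((C B) ⊓ L) L bot_le inf_le_right
  simp only [relIndex_bot_left, inf_relIndex_right, pairs h hL BL, h5, he, c6] at c7 c8
  rw [c5, show (Finset.univ.filter fun l => l ∈ L ∧ l ∈ (C B)) = Finset.univ.filter (· ∈ (C B) ⊓ L) by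
    simp [and_comm], c5] at c3
  rw [show (Finset.univ.filter fun l => (l ∈ L ∧ l ^ 2 = 1) ∧ l ∈ (C B)) = Finset.univ.filter (· ∈ (C B) ⊓ L) from
    Finset.filter_congr fun l _ => ⟨fun a => ⟨a.2, a.1.1⟩, fun a => ⟨⟨a.2, h8 l a⟩, a.1⟩⟩, c5,
    show (Finset.univ.filter fun l => (l ∈ L ∧ l ^ 2 = 1) ∧ l ∉ (C B)) = Finset.univ.filter fun l =>
      (l ∈ L ∧ l ∉ (C B)) ∧ l ^ 2 = 1 from Finset.filter_congr fun l _ => by tauto] at c4
  let S : SubMulAction (ConjAct G) G := ⟨{l | l ∈ L ∧ l ^ 2 = 1}, fun c l a => ⟨‹L.Normal›.conj_mem l a.1 _, by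
    rw [← smul_pow', a.2, smul_one]⟩⟩
  have := Fact.mk Nat.prime_five
  have c9 := card_modEq_ncard_fixedBy (Ω := S) (q := 5) (c := ConjAct.toConjAct g) (by rw [← map_pow, hg, map_one])
  rw [← Set.ncard_image_of_injective _ Subtype.val_injective, show Subtype.val '' fixedBy S (ConjAct.toConjAct g) = A from
    Set.ext fun l => ⟨by
      rintro ⟨l, a, rfl⟩
      exact hf l l.2.1 (mul_inv_eq_one.2 (congrArg Subtype.val a)), fun a => ⟨⟨l, hL.le a, hA l a⟩,
        Subtype.ext (mul_inv_eq_iff_eq_mul.2 (hgA l a).symm), rfl⟩⟩, ← Nat.card_coe_set_eq,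
    show Nat.card S = (Finset.univ.filter fun l => l ∈ L ∧ l ^ 2 = 1).card by
      rw [← Fintype.card_subtype, ← Nat.card_eq_fintype_card]; rfl] at c9
  have : Nat.card (A : Set G) = 2 := c6
  unfold Nat.ModEq at c9
  omega

end Cfsg.Agent.H26.DB
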