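import Mathlib
import Cfsg.Agent.H26.DB5

/-! Coprime bases of size two, VI: elements with large fixed spaces. -/

set_option autoImplicit false
set_option linter.unusedSectionVars false

namespace Cfsg.Agent.H26.DB

open Subgroup MulAction BT Module
open scoped Pointwise commutatorElement

universe u

section
variable {G V : Type*} [Group G] [Finite G] [AddCommGroup V] [Finite V] [DistribMulAction G V]

theorem weight {r : ℕ} (hr : r.Prime) (r2 : r ≠ 2) (hV : ∀ v : V, r • v = 0) {I : Type*} (σ : I → G)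
    (h1 : ∀ i, σ i * σ i = 1) (h2 : ∀ i j, Commute (σ i) (σ j)) (s : Finset I) : ∀ (U : AddSubgroup V) (k : ℕ),
    (∀ i, ∀ v ∈ U, σ i • v ∈ U) → (∀ v ∈ U, v ≠ 0 → (∀ i ∈ s, σ i • v = v ∨ σ i • v = -v) →
      {i | i ∈ s ∧ σ i • v = v}.ncard + 1 ≤ k) →
      Nat.card U * ∏ i ∈ s, Nat.card (U ⊓ fx V (σ i) : AddSubgroup V) ≤ Nat.card U ^ k := by
  classical
  have hc : ∀ v w : V, v + v = w + w → v = w := fun v w e =>
    canc hr (n := 2) (fun d => r2 ((Nat.prime_dvd_prime_iff_eq hr Nat.prime_two).1 d)) hV (by simpa [two_smul] using e)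
  induction s using Finset.induction_on with
  | empty =>
    intro U k _ H
    rcases k with _ | k
    · simp [show U = ⊥ from eq_bot_iff.2 fun v hv => by_contra fun e => by simpa using H v hv e]
    · simpa using Nat.le_self_pow (by simp) _
  | insert a s ha ih =>
    intro U k hU H
    let P := U ⊓ fx V (σ a)
    let M := U ⊓ (DistribSMul.toAddMonoidHom V (σ a)).eqLocus (-.id V)
    have hM : ∀ v, v ∈ M ↔ v ∈ U ∧ σ a • v = -v := fun _ => Iff.rfl
    have hP : ∀ v, v ∈ P ↔ v ∈ U ∧ σ a • v = v := fun _ => Iff.rfl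
    have k1 : ∀ X : AddSubgroup V, (∀ v ∈ X, σ a • v ∈ X) → Nat.card (U ⊓ X : AddSubgroup V) ≤
        Nat.card (P ⊓ X : AddSubgroup V) * Nat.card (M ⊓ X : AddSubgroup V) := fun X c => by
      rw [← Nat.card_prod]
      refine Nat.card_le_card_of_injective (fun v => (⟨v.1 + σ a • v.1, (hP _).2 ⟨add_mem v.2.1 (hU a _ v.2.1), by
        rw [smul_add, smul_smul, h1, one_smul, add_comm]⟩, add_mem v.2.2 (c _ v.2.2)⟩,
        ⟨v.1 - σ a • v.1, (hM _).2 ⟨sub_mem v.2.1 (hU a _ v.2.1), by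
        rw [smul_sub, smul_smul, h1, one_smul, neg_sub]⟩, X.sub_mem v.2.2 (c _ v.2.2)⟩)) fun v w e => ?_
      have e1 : v.1 + σ a • v.1 = w.1 + σ a • w.1 := congrArg (fun x => x.1.1) e
      have e2 : v.1 - σ a • v.1 = w.1 - σ a • w.1 := congrArg (fun x => x.2.1) e
      exact Subtype.ext (hc _ _ (by linear_combination (norm := abel) e1 + e2))
    have k2 : Nat.card P * Nat.card M ≤ Nat.card U := by
      rw [← Nat.card_prod]
      refine Nat.card_le_card_of_injective (fun v => ⟨v.1.1 + v.2.1, add_mem v.1.2.1 v.2.2.1⟩) fun v w e => ?_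
      have e1 : v.1.1 + v.2.1 = w.1.1 + w.2.1 := congrArg Subtype.val e
      have e2 := congrArg (σ a • ·) e1
      simp only [smul_add, ((hP _).1 v.1.2).2, ((hP _).1 w.1.2).2, ((hM _).1 v.2.2).2, ((hM _).1 w.2.2).2] at e2
      exact Prod.ext (Subtype.ext (hc _ _ (by linear_combination (norm := abel) e1 + e2)))
        (Subtype.ext (hc _ _ (by linear_combination (norm := abel) e1 - e2)))
    have k3 := ih M k (fun i v hv => (hM _).2 ⟨hU i v hv.1, by
      rw [smul_smul, (h2 a i).eq, mul_smul, ((hM _).1 hv).2, smul_neg]⟩) fun v hv v0 b =>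
        (Nat.succ_le_succ (Set.ncard_le_ncard (fun i hi => And.intro (Finset.mem_insert_of_mem hi.1) hi.2)
          ((insert a s).finite_toSet.subset fun _ hi => hi.1))).trans (H v hv.1 v0 (by simpa [((hM _).1 hv).2] using b))
    have k4 : ∀ v ∈ P, v ≠ 0 → (∀ i ∈ s, σ i • v = v ∨ σ i • v = -v) → {i | i ∈ s ∧ σ i • v = v}.ncard + 1 + 1 ≤ k :=
      fun v hv v0 b => by
        rw [← Set.ncard_insert_of_notMem (a := a) (fun c => ha c.1) (s.finite_toSet.subset fun _ hi => hi.1)]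
        refine (Nat.succ_le_succ (Set.ncard_le_ncard ?_ ((insert a s).finite_toSet.subset fun _ hi => hi.1))).trans
          (H v hv.1 v0 (by simpa [((hP _).1 hv).2] using b))
        rintro i (rfl | hi)
        exacts [⟨Finset.mem_insert_self _ _, hv.2⟩, ⟨Finset.mem_insert_of_mem hi.1, hi.2⟩]
    have k5 : ∀ i, ∀ v ∈ P, σ i • v ∈ P := fun i v hv => (hP _).2 ⟨hU i v hv.1, by
      rw [smul_smul, (h2 a i).eq, mul_smul, ((hP _).1 hv).2]⟩
    have k6 := ih P (k - 1) k5 fun v hv v0 b => by have := k4 v hv v0 b; omega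
    have k7 : Nat.card P * (Nat.card P * ∏ i ∈ s, Nat.card (P ⊓ fx V (σ i) : AddSubgroup V)) ≤ Nat.card P ^ k := by
      rcases k with _ | k
      · have : Nat.card P ≤ 1 := (Nat.le_mul_of_pos_right _ (Finset.prod_pos fun _ _ => Nat.card_pos)).trans k6
        exact (Nat.mul_le_mul this k6)
      · rw [pow_succ']; exact Nat.mul_le_mul_left _ k6
    have k8 := k1 ⊤ fun _ _ => trivial
    simp only [inf_top_eq] at k8
    rw [Finset.prod_insert ha]
    refine (Nat.mul_le_mul k8 (Nat.mul_le_mul_left _ (Finset.prod_le_prod' fun i _ => k1 _ fun v hv => by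
      rw [mem_fx, smul_smul, (h2 i a).eq, mul_smul, mem_fx.1 hv]))).trans ?_
    rw [Finset.prod_mul_distrib]
    refine le_trans (le_of_eq ?_) ((Nat.mul_le_mul k7 k3).trans
      ((mul_pow _ _ _).symm.le.trans (Nat.pow_le_pow_left k2 k)))
    simp only [P]; ring

variable (V) in
def Lg (g : G) : Prop := g ≠ 1 ∧ Nat.card V < Nat.card (fx V g) ^ 2

theorem fx_conj (g l : G) : Nat.card (fx V g) ≤ Nat.card (fx V (l * g * l⁻¹)) := Nat.card_le_card_of_injective
    (fun v => ⟨l • v.1, mem_fx.2 (by rw [mul_smul, inv_smul_smul, mul_smul, mem_fx.1 v.2])⟩)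
    fun v w e => by simpa using e

theorem disj {U U' : AddSubgroup V} (h : U ⊓ U' = ⊥) : Nat.card U * Nat.card U' ≤ Nat.card V := by
  rw [← Nat.card_prod]
  refine Nat.card_le_card_of_injective (fun x => x.1.1 + x.2.1) fun x y e => ?_
  have e1 : x.1.1 - y.1.1 = y.2.1 - x.2.1 := by dsimp only at e; linear_combination (norm := abel) e
  have : x.1.1 - y.1.1 = 0 := h.le ⟨U.sub_mem x.1.2 y.1.2, e1 ▸ U'.sub_mem y.2.2 x.2.2⟩
  exact Prod.ext (Subtype.ext (sub_eq_zero.1 this)) (Subtype.ext (sub_eq_zero.1 (e1 ▸ this)).symm)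
end

variable {G V K : Type u} [Group G] [Finite G] [AddCommGroup V] [Finite V] [Nontrivial V]
  [DistribMulAction G V] [FaithfulSMul G V] [Field K] [Module K V] {A L : Subgroup G} [A.Normal] {ι : G → K}

local notation "C" X => Subgroup.centralizer (X : Set G)

variable (h : PD V A ι)
include h

theorem fxA {a : G} (ha : a ∈ A) (a1 : a ≠ 1) : fx V a = ⊥ := eq_bot_iff.2 fun _ hv => by_contra fun e => a1 (fa h ha e hv)

theorem lg1 {g : G} (hg : Lg V g) {l : G} (e : ⁅g, l⁆ ∈ A) : ⁅g, l⁆ = 1 := by_contra fun c => by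
  have := half (V := V) g l
  rw [fxA h e c, AddSubgroup.card_bot, mul_one] at this
  exact this.not_gt hg.2

theorem lg2 {g : G} (hg : Lg V g) : g ∈ C A := fun a ha => (commutatorElement_eq_one_iff_mul_comm.1
  (lg1 h hg (commutator_le_right ⊤ A (commutator_mem_commutator trivial ha)))).symm

theorem lg0 {g : G} (hg : Lg V g) (ha : g ∈ A) : False := by
  have := hg.2
  rw [fxA h ha hg.1, AddSubgroup.card_bot] at this
  exact this.not_gt Finite.one_lt_card

theorem lg4 {g g' : G} (hg : Lg V g) (hg' : Lg V g') (e : g⁻¹ * g' ∈ A) : g = g' := by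
  by_contra c
  have := disj (U := fx V g) (U' := fx V g') (eq_bot_iff.2 fun v hv => (fxA h e (by rwa [Ne, inv_mul_eq_one])).le (by
    rw [mem_fx, mul_smul, mem_fx.1 hv.2, inv_smul_eq_iff, mem_fx.1 hv.1]))
  have a := hg.2; have b := hg'.2
  nlinarith [Nat.mul_lt_mul'' a b, Nat.mul_le_mul this this]

theorem cnt1 {S : Set G} (hS : ∀ s ∈ S, Lg V s) {U : Subgroup G} {g : G} (hU : ∀ s ∈ S, g⁻¹ * s ∈ U) :
    S.ncard ≤ A.relIndex U := by
  rw [← Nat.card_coe_set_eq]
  exact Nat.card_le_card_of_injective (fun s : S => ((⟨_, hU s s.2⟩ : U) : U ⧸ A.subgroupOf U)) fun s t e =>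
    Subtype.ext (lg4 h (hS _ s.2) (hS _ t.2) (by simpa [mem_subgroupOf, mul_assoc] using QuotientGroup.eq.1 e))

variable [L.Normal] (hL : LD A L)
include hL

theorem lg3 {g : G} (hg : Lg V g) : g ∉ L := fun c =>
  let ⟨l, a, b⟩ := ndl h hL c (lg0 h hg); b (lg1 h hg (hL.com g c l a))

theorem cmL (g : G) {l : G} (hl : l ∈ L) : ⁅g, l⁆ ∈ L := commutator_le_right ⊤ L (commutator_mem_commutator trivial hl)

theorem lg5 {g : G} (hg : Lg V g) : ∃ l ∈ L, ⁅g, l⁆ ∉ A := by
  by_contra! H; exact lg3 h hL hg (hL.ker g (lg2 h hg) H)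

theorem lg6 {g : G} (hg : Lg V g) : Nat.card (fx V g) ^ 4 ≤ Nat.card V ^ 3 := by
  obtain ⟨l, a, b⟩ := lg5 h hL hg
  have c : Nat.card (fx V ⁅g, l⁆) ^ 2 ≤ Nat.card V :=
    not_lt.1 fun c => lg3 h hL ⟨fun e => b (by rw [e]; exact one_mem _), c⟩ (cmL h hL g a)
  have d := Nat.pow_le_pow_left (half (V := V) g l) 2
  rw [← pow_mul, mul_pow] at d
  exact d.trans ((Nat.mul_le_mul_left _ c).trans_eq (pow_succ _ _).symm)

theorem cube3 {x : G} (hx : x ∈ L) (h1 : x ^ 2 ∉ A) : Nat.card (fx V x) ^ 3 ≤ Nat.card V := by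
  obtain ⟨l, hl, h2⟩ := ndl h hL (pow_mem hx 2) h1
  have h3 := hL.com x hx l hl
  have k : ∀ v : V, x • l • v = ι ⁅x, l⁆ • l • x • v := fun v => by
    rw [← h.act _ h3]; simp [commutatorElement_def, smul_smul]
  have h5 : ι ⁅x, l⁆ * ι ⁅x, l⁆ - 1 ≠ 0 := sub_ne_zero.2 fun e => h2 (commutatorElement_eq_one_iff_mul_comm.2
    (eq_of_smul_eq_smul fun v : V => by simp only [sq, mul_smul, k, h.lin x (hL.cen hx)]; rw [smul_smul, e, one_smul]))
  have h4 : ι ⁅x, l⁆ - 1 ≠ 0 := sub_ne_zero.2 fun e => h5 (by simp [e])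
  have h6 : ι ⁅x, l⁆ ≠ 0 := left_ne_zero_of_mul_eq_one ((h.mul h3 (inv_mem h3)).symm.trans (by rw [mul_inv_cancel, h.one]))
  refine cube (DistribSMul.toAddMonoidHom V l) (DistribSMul.toAddMonoidHom V (l * l)) fun u hu v hv w hw e => ?_
  simp only [DistribSMul.toAddMonoidHom_apply, mul_smul] at e
  have e1 := congrArg (x • ·) e
  simp only [smul_add, k, mem_fx.1 hu, mem_fx.1 hv, mem_fx.1 hw, smul_zero, h.lin l (hL.cen hl)] at e1
  have e2 := congrArg (x • ·) e1
  simp only [smul_add, k, mem_fx.1 hu, mem_fx.1 hv, mem_fx.1 hw, smul_zero, h.lin l (hL.cen hl),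
    h.lin x (hL.cen hx)] at e2
  suffices l • v = 0 ∧ l • l • w = 0 by simpa only [smul_eq_zero_iff_eq] using this
  generalize ι ⁅x, l⁆ = ζ, l • l • w = w', l • v = v' at *
  obtain rfl : w' = 0 := smul_right_injective V (mul_ne_zero h5 (mul_ne_zero h6 h4)) (by
    linear_combination (norm := module) e2 - (1 + ζ) • e1 + ζ • e)
  exact ⟨smul_right_injective V h4 (by linear_combination (norm := module) e1 - e), rfl⟩

theorem lg7 {g l : G} (hl : l ∈ L) (e : ⁅g, l⁆ ^ 2 ∉ A) : Nat.card (fx V g) ^ 6 ≤ Nat.card V ^ 4 := by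
  have d := Nat.pow_le_pow_left (half (V := V) g l) 3
  rw [← pow_mul, mul_pow] at d
  exact d.trans ((Nat.mul_le_mul_left _ (cube3 h hL (cmL h hL g hl) e)).trans_eq (pow_succ _ _).symm)

variable {g : G} (hg : Lg V g) (h2 : ∀ l ∈ L, ⁅g, l⁆ ^ 2 ∈ A)
include hg

theorem dual {u : G} (hu : u ∈ L) : (∀ l ∈ L, Commute u ⁅g, l⁆) ↔ Commute g u := by
  have k : ∀ l ∈ L, Commute u ⁅g, l⁆ ↔ ⁅g⁻¹ * u * g, l⁆ = ⁅u, l⁆ := fun l hl => by
    have a := hL.com _ (‹L.Normal›.conj_mem' u hu g) l hl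
    have b : u * ⁅g, l⁆ * u⁻¹ = g * ⁅g⁻¹ * u * g, l⁆ * g⁻¹ * ⁅g, l⁆ * ⁅u, l⁆⁻¹ := by
      simp only [commutatorElement_def]; group
    rw [← lg2 h hg _ a, mul_inv_cancel_right, (cmA hL a (cmL h hL g hl)).eq] at b
    rw [Commute, SemiconjBy, ← mul_inv_eq_iff_eq_mul, b, mul_assoc, mul_eq_left, mul_inv_eq_one]
  refine ⟨fun H => ?_, fun H l hl => (k l hl).2 (by rw [mul_assoc, ← H.eq, inv_mul_cancel_left])⟩
  have a : u⁻¹ * (g⁻¹ * u * g) ∈ A := (h.nd hL.le hL.cen).le ⟨fun l hl => by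
    have := (k l hl).1 (H l hl)
    simp only [commutatorElement_def, mul_left_inj] at this
    calc _ = u⁻¹ * (u * l * u⁻¹) * (g⁻¹ * u * g) := by group
      _ = _ := by rw [← this]; group, L.mul_mem (L.inv_mem hu) (‹L.Normal›.conj_mem' u hu g)⟩
  exact Commute.inv_right_iff.1 (commutatorElement_eq_one_iff_commute.1 (lg1 h hg (by
    simpa [commutatorElement_def, mul_assoc] using ‹A.Normal›.conj_mem _ a g)))

omit hg in
theorem dmul (l : G) {m : G} : ⁅g, l * m⁆ = ⁅g, l⁆ * ⁅l, ⁅g, m⁆⁆ * ⁅g, m⁆ := by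
  simp only [commutatorElement_def]; group

include h2

theorem ti1 {l : G} (hl : l ∈ L) : ⁅g, l⁆ ^ 2 = 1 := by
  have a := hg.2.trans_le (half g l)
  have : Nontrivial (fx V ⁅g, l⁆) := Finite.one_lt_card_iff_nontrivial.1 (by
    by_contra! c; exact a.not_ge ((Nat.mul_le_mul_left _ c).trans_eq (mul_one _)))
  obtain ⟨v, hv⟩ := exists_ne (0 : fx V ⁅g, l⁆)
  exact fa h (h2 l hl) (v := v.1) (fun e => hv (Subtype.ext e)) (by rw [sq, mul_smul, mem_fx.1 v.2, mem_fx.1 v.2])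

theorem ti0 {l m : G} (hl : l ∈ L) (hm : m ∈ L) : ⁅l, ⁅g, m⁆⁆ ^ 2 = 1 := by
  rw [← commutatorElement_inv, inv_pow, cpw hL (cmL h hL g hm) hl (h2 m hm), inv_one]

theorem ti2 {l m : G} (hl : l ∈ L) (hm : m ∈ L) : Commute ⁅g, l⁆ ⁅g, m⁆ := by
  have a := ti1 h hL hg h2 (mul_mem hl hm)
  have b := hL.com l hl _ (cmL h hL g hm)
  rw [dmul h hL, ← (cmA hL b (cmL h hL g hl)).eq, mul_assoc,
    (cmA hL b (mul_mem (cmL h hL g hl) (cmL h hL g hm))).mul_pow, ti0 h hL hg h2 hl hm, one_mul,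
    pwL hL (cmL h hL g hl) (cmL h hL g hm), ti1 h hL hg h2 hl, ti1 h hL hg h2 hm] at a
  exact (commutatorElement_eq_one_iff_commute.1 (by simpa using a)).symm

theorem ti3 {l : G} (hl : l ∈ L) : Commute g ⁅g, l⁆ := (dual h hL hg (cmL h hL g hl)).1 fun _ => ti2 h hL hg h2 hl

theorem ti4 : g * g = 1 := by
  have a : ∀ l ∈ L, l * (g * g) = g * g * l := fun l hl => by
    have b := (ti3 h hL hg h2 hl).eq
    have c := ti1 h hL hg h2 hl
    calc _ = ⁅g, l⁆ ^ 2 * l * (g * g) := by rw [c, one_mul]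
      _ = ⁅g, l⁆ * g * (l * g) := by simp only [sq, commutatorElement_def]; group
      _ = _ := by rw [← b]; simp only [commutatorElement_def]; group
  have b : g * g ∈ A := (h.nd hL.le hL.cen).le ⟨a, hL.ker _ (mul_mem (lg2 h hg) (lg2 h hg)) fun y hy => by
    rw [commutatorElement_eq_one_iff_mul_comm.2 (a y hy).symm]; exact one_mem _⟩
  have : Nontrivial (fx V g) := Finite.one_lt_card_iff_nontrivial.1 (by
    by_contra! c; exact hg.2.not_ge ((Nat.pow_le_pow_left c 2).trans Nat.card_pos))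
  obtain ⟨v, hv⟩ := exists_ne (0 : fx V g)
  exact fa h b (v := v.1) (fun e => hv (Subtype.ext e)) (by rw [mul_smul, mem_fx.1 v.2, mem_fx.1 v.2])

theorem ti5 {l : G} (hl : l ∈ L) : Commute g (l * l) ∧ Commute l ⁅g, l⁆ := by
  have a := dmul h hL (g := g) l (m := l)
  have b := hL.com l hl _ (cmL h hL g hl)
  rw [← (cmA hL b (cmL h hL g hl)).eq, mul_assoc, ← sq ⁅g, l⁆, ti1 h hL hg h2 hl, mul_one] at a
  have c := lg1 h hg (a ▸ b)
  exact ⟨commutatorElement_eq_one_iff_commute.1 c, commutatorElement_eq_one_iff_commute.1 (a ▸ c)⟩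

theorem gauss {r : ℕ} (hr : r.Prime) (r2 : r ≠ 2) (hV : ∀ v : V, r • v = 0) [Fintype L] {v : V} (v0 : v ≠ 0)
    (hv : ∀ l : L, (g * ⁅g, l.1⁆) • v = v ∨ (g * ⁅g, l.1⁆) • v = -v) : ∃ S : ℤ,
    S ^ 2 * (centralizer {g}).relIndex L = Nat.card L ^ 2 ∧
      2 * ({l : L | (g * ⁅g, l.1⁆) • v = v}.ncard : ℤ) = Nat.card L + S := by
  classical
  have inj : ∀ a b : ℤˣ, a • v = b • v → a = b := fun a b e => by
    have k : v ≠ -v := fun e => v0 (canc hr (n := 2) (fun d => r2 ((Nat.prime_dvd_prime_iff_eq hr Nat.prime_two).1 d)) hV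
      (by rw [two_smul, smul_zero, ← eq_neg_iff_add_eq_zero]; exact e))
    rcases Int.units_eq_one_or a with rfl | rfl <;> rcases Int.units_eq_one_or b with rfl | rfl <;> simp_all [eq_comm]
  let ε : L → ℤˣ := fun l => if (g * ⁅g, l.1⁆) • v = v then 1 else -1
  have ε1 : ∀ l : L, (g * ⁅g, l.1⁆) • v = ε l • v := fun l => by
    simp only [ε]; split_ifs with c
    · simpa using c
    · simpa using (hv l).resolve_left c
  let β : L → L → ℤˣ := fun l m => if ⁅l.1, ⁅g, m.1⁆⁆ = 1 then 1 else -1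
  have β1 : ∀ (l m : L) (w : V), ⁅l.1, ⁅g, m.1⁆⁆ • w = β l m • w := fun l m w => by
    simp only [β]; split_ifs with c
    · simp [c]
    · simpa using neg2 h (hL.com l l.2 _ (cmL h hL g m.2)) c (ti0 h hL hg h2 l.2 m.2) w
  have sm : ∀ (x : G) (a : ℤˣ) (w : V), x • a • w = a • x • w := fun x a w => smul_comm _ _ _
  have g1 : g • v = ε 1 • v := by simpa using ε1 1
  have ε2 : ∀ l m : L, ε (l * m) = ε l * (β l m * (ε 1 * ε m)) := fun l m => inj _ _ (by
    rw [← ε1, coe_mul, dmul h hL, ← mul_assoc, ← mul_assoc, mul_smul, mul_smul, β1,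
      show ⁅g, m.1⁆ • v = g • (g * ⁅g, m.1⁆) • v by rw [smul_smul, ← mul_assoc, ti4 h hL hg h2, one_mul], ε1, sm g, g1]
    simp only [sm, ε1, smul_smul]; congr 1; simp only [mul_comm, mul_left_comm])
  have β2 : ∀ l l' m : L, β (l * l') m = β l m * β l' m := fun l l' m => inj _ _ (by
    have a := (cmA hL (hL.com l' l'.2 _ (cmL h hL g m.2)) l.2).eq
    rw [← β1, coe_mul, show ⁅l.1 * l', ⁅g, m.1⁆⁆ = l * ⁅l'.1, ⁅g, m.1⁆⁆ * l.1⁻¹ * ⁅l.1, ⁅g, m.1⁆⁆ by
      generalize ⁅g, m.1⁆ = d; simp only [commutatorElement_def]; group, ← a, mul_inv_cancel_right, mul_smul, β1, β1,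
      smul_smul, mul_comm])
  have β3 : ∀ m : L, (ε 1 * ε m : ℤ) * ∑ l, (β l m : ℤ) = if m.1 ∈ centralizer {g} then Fintype.card L else 0 := fun m => by
    split_ifs with c
    · have d : ⁅g, m.1⁆ = 1 := commutatorElement_eq_one_iff_mul_comm.2 (c g rfl)
      have : ε m = ε 1 := inj _ _ (by rw [← ε1, ← ε1, d]; simp)
      simp [β, d, this, ← Units.val_mul]
    · obtain ⟨l, a, b⟩ := ndl h hL (cmL h hL g m.2) fun e => c (by
        rintro _ rfl; exact commutatorElement_eq_one_iff_mul_comm.1 (lg1 h hg e))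
      have d : β ⟨l, a⟩ m = -1 := if_neg fun e => b (by rw [← commutatorElement_inv, e, inv_one])
      have := Equiv.sum_comp (Equiv.mulLeft (⟨l, a⟩ : L)) fun l => (β l m : ℤ)
      simp only [Equiv.coe_mulLeft, β2, d, Units.val_mul, Units.val_neg, Units.val_one, neg_mul, one_mul,
        Finset.sum_neg_distrib] at this
      rw [show ∑ l, (β l m : ℤ) = 0 by omega, mul_zero, Nat.cast_zero]
  refine ⟨∑ l, ε l, ?_, ?_⟩
  · have : (∑ l, (ε l : ℤ)) ^ 2 = ∑ m : L, (ε 1 * ε m : ℤ) * ∑ l, (β l m : ℤ) := by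
      rw [sq, Finset.sum_mul]
      simp only [Finset.mul_sum]
      refine Eq.trans (Finset.sum_congr rfl fun l _ => ?_) Finset.sum_comm
      rw [← Equiv.sum_comp (Equiv.mulLeft l)]
      refine Finset.sum_congr rfl fun m _ => ?_
      rw [Equiv.coe_mulLeft, ε2, ← Units.val_mul, ← mul_assoc, Int.units_mul_self, one_mul]
      simp [mul_comm]
    rw [this]
    simp only [β3, Nat.cast_ite, Nat.cast_zero, Finset.sum_ite, Finset.sum_const, smul_zero, add_zero, nsmul_eq_mul]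
    rw [← Fintype.card_subtype, ← Nat.card_eq_fintype_card, ← Nat.card_eq_fintype_card, sq, mul_right_comm]
    exact congrArg (· * (Nat.card L : ℤ)) (by exact_mod_cast ((centralizer {g}).subgroupOf L).card_mul_index)
  · simp only [ε, apply_ite (Units.val (α := ℤ)), Finset.sum_ite, Finset.sum_const]
    rw [Nat.card_eq_fintype_card, ← Finset.card_univ, ← Finset.card_filter_add_card_filter_not (s := Finset.univ)
      fun l : L => (g * ⁅g, l.1⁆) • v = v, ← Set.ncard_coe_finset, Finset.coe_filter_univ]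
    simp; ring

theorem ti6 {r : ℕ} (hr : r.Prime) (r2 : r ≠ 2) (hV : ∀ v : V, r • v = 0) :
    (centralizer {g}).relIndex L = 4 ∨
      16 ∣ (centralizer {g}).relIndex L ∧ Nat.card (fx V g) ^ 8 ≤ Nat.card V ^ 5 := by
  classical
  have := Fintype.ofFinite L
  have h3 := fun l : L => ti3 h hL hg h2 l.2
  have k := weight hr r2 hV (fun l : L => g * ⁅g, l.1⁆) (fun l => by
    rw [← sq, (h3 l).mul_pow, sq, ti4 h hL hg h2, ti1 h hL hg h2 l.2, one_mul])
    (fun l m => ((Commute.refl g).mul_right (h3 m)).mul_left ((h3 l).symm.mul_right (ti2 h hL hg h2 l.2 m.2)))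
    Finset.univ ⊤
  rw [AddSubgroup.card_top] at k
  simp only [Finset.mem_univ, true_and, top_inf_eq, forall_true_left, AddSubgroup.mem_top,
    implies_true] at k
  have k1 : Nat.card (fx V g) ^ Nat.card L ≤ ∏ l : L, Nat.card (fx V (g * ⁅g, l.1⁆)) := by
    rw [Nat.card_eq_fintype_card (α := L), ← Finset.card_univ]
    refine Finset.pow_card_le_prod _ _ _ fun l _ => ?_
    rw [commutatorElement_def, ← mul_assoc, ← mul_assoc, ← mul_assoc, ti4 h hL hg h2, one_mul,
      inv_eq_of_mul_eq_one_right (ti4 h hL hg h2)]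
    exact fx_conj g l
  obtain ⟨v, v0, hv⟩ : ∃ v : V, v ≠ 0 ∧ ∀ l : L, (g * ⁅g, l.1⁆) • v = v ∨ (g * ⁅g, l.1⁆) • v = -v := by
    by_contra! H
    have := k 0 fun v a b => let ⟨l, c⟩ := H v a; ((b l).elim c.1 c.2).elim
    exact (Finite.one_lt_card (α := V)).not_ge ((Nat.le_mul_of_pos_right _ (Finset.prod_pos fun _ _ => Nat.card_pos)).trans this)
  obtain ⟨S, hS, -⟩ := gauss h hL hg h2 hr r2 hV v0 hv
  have : ((centralizer {g}).subgroupOf L).Normal := ⟨fun a ha b => by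
    have := mul_mem (show ⁅b.1, a.1⁆ ∈ centralizer {g} by
      rintro _ rfl; exact (lg2 h hg _ (hL.com b b.2 a a.2)).symm) ha
    simpa [mem_subgroupOf, commutatorElement_def] using this⟩
  obtain ⟨j, hj⟩ := IsPGroup.iff_card.1 (show IsPGroup 2 (L ⧸ (centralizer {g}).subgroupOf L) from fun q =>
    QuotientGroup.induction_on q fun l => ⟨1, (QuotientGroup.eq_one_iff (l ^ 2)).2 (by
      rintro _ rfl; simpa [sq] using (ti5 h hL hg h2 l.2).1.eq)⟩)
  change (centralizer {g}).relIndex L = _ at hj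
  have L0 : 0 < Nat.card L := Nat.card_pos
  have hsq : IsSquare ((centralizer {g}).relIndex L) := by
    have S0 : S ≠ 0 := by rintro rfl; exact pow_ne_zero 2 (Nat.cast_ne_zero.2 L0.ne') (by rw [← hS]; simp)
    obtain ⟨t, ht⟩ := (Int.pow_dvd_pow_iff two_ne_zero).1 (Dvd.intro _ hS)
    rw [ht, mul_pow, mul_right_inj' (pow_ne_zero 2 S0)] at hS
    exact Int.isSquare_natCast_iff.1 ⟨t, by rw [hS, sq]⟩
  rcases lt_or_ge j 4 with c | c
  · left
    rw [hj] at hsq ⊢
    interval_cases j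
    · obtain ⟨l, a, b⟩ := lg5 h hL hg
      exact (b (by rw [commutatorElement_eq_one_iff_mul_comm.2 (relIndex_eq_one.1 hj a g rfl)]; exact one_mem _)).elim
    · exact absurd hsq (by decide +kernel)
    · rfl
    · exact absurd hsq (by decide +kernel)
  have d : 16 ∣ (centralizer {g}).relIndex L := hj ▸ pow_dvd_pow 2 c
  refine .inr ⟨d, ?_⟩
  have d1 : (16 : ℤ) ≤ (centralizer {g}).relIndex L := by exact_mod_cast Nat.le_of_dvd (by rw [hj]; positivity) d
  have k2 := k (5 * Nat.card L / 8 + 1) fun v v0 hv => by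
    obtain ⟨S, a, b⟩ := gauss h hL hg h2 hr r2 hV v0 hv
    have : 4 * S ≤ Nat.card L := abs_le_of_sq_le_sq' (by nlinarith [sq_nonneg S]) (by positivity) |>.2
    omega
  rw [pow_succ'] at k2
  have k3 := Nat.pow_le_pow_left (k1.trans (Nat.le_of_mul_le_mul_left k2 Nat.card_pos)) 8
  rw [← pow_mul, ← pow_mul] at k3
  refine (Nat.pow_le_pow_iff_left L0.ne').1 ?_
  rw [← pow_mul, ← pow_mul, mul_comm]
  exact k3.trans (Nat.pow_le_pow_right Nat.card_pos (by omega))

theorem ti7 : (centralizer {g}).relIndex L * (centralizer {g}).relIndex L ∣ A.relIndex L := by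
  let T := Subgroup.closure ((⁅g, ·⁆) '' (L : Set G))
  have a : T ≤ L := (closure_le _).2 (by rintro _ ⟨l, hl, rfl⟩; exact cmL h hL g hl)
  have b : ∀ u ∈ L, u ∈ (C T) ↔ u ∈ centralizer {g} := fun u hu => by
    rw [centralizer_closure, mem_centralizer_singleton_iff]
    refine .trans ⟨fun H l hl => (H _ ⟨l, hl, rfl⟩).symm, ?_⟩ ((dual h hL hg hu).trans eq_comm)
    rintro H _ ⟨l, hl, rfl⟩; exact (H l hl).symm
  have c := isot h hL a ((closure_le _).2 (by
    rintro _ ⟨l, hl, rfl⟩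
    exact (b _ (cmL h hL g hl)).2 (mem_centralizer_singleton_iff.2 (ti3 h hL hg h2 hl).eq.symm)))
  rwa [← pairs h hL a, ← inf_relIndex_right (C T), show (C T) ⊓ L = centralizer {g} ⊓ L from
    Subgroup.ext fun u => and_congr_left (b u), inf_relIndex_right] at c

omit h2 in
theorem cnt2 {S : Set G} (hS : ∀ s ∈ S, Lg V s ∧ g⁻¹ * s ∈ L) : S.ncard ≤ (centralizer {g}).relIndex L := by
  refine (cnt1 h (fun s a => (hS s a).1) (U := (C (centralizer {g} ⊓ L : Subgroup G)) ⊓ L) (g := g)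
    fun s a => ⟨fun d hd => ?_, (hS s a).2⟩).trans ?_
  · have b := hd.1 g rfl
    have c := lg1 h (hS s a).1 (l := d) (by
      rw [show ⁅s, d⁆ = g * ⁅g⁻¹ * s, d⁆ * g⁻¹ * ⁅g, d⁆ by simp only [commutatorElement_def]; group,
        commutatorElement_eq_one_iff_mul_comm.2 b, mul_one]
      exact ‹A.Normal›.conj_mem _ (hL.com _ (hS s a).2 d hd.2) g)
    exact ((show Commute d g from b.symm).inv_right.mul_right (commutatorElement_eq_one_iff_commute.1 c).symm).eq
  · rw [← pairs h hL inf_le_right, ← inf_relIndex_right (centralizer {g})]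
    exact relIndex_le_of_le_left (le_centralizer_iff.1 inf_le_left) index_ne_zero_of_finite

end Cfsg.Agent.H26.DB
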