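import Mathlib
import Cfsg.Agent.H26.DB6

/-! Coprime bases of size two, VII: the counting argument. -/

set_option autoImplicit false
set_option linter.unusedSectionVars false

namespace Cfsg.Agent.H26.DB

open Subgroup MulAction BT Module
open scoped Pointwise commutatorElement

universe u

open Classical in
theorem count {G V : Type*} [Group G] [Fintype G] [AddCommGroup V] [Finite V] [DistribMulAction G V] (h : ¬ Bs G V) :
    Nat.card V ^ 2 ≤ ∑ g ∈ Finset.univ.filter fun g : G => (orderOf g).Prime, Nat.card (fx V g) ^ 2 := by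
  have := Fintype.ofFinite V
  simp only [Bs, not_exists, not_forall] at h
  calc _ = ∑ y : V × V, 1 := by simp [sq]
    _ ≤ ∑ y : V × V, ∑ g ∈ Finset.univ.filter fun g : G => (orderOf g).Prime, if g • y = y then 1 else 0 :=
      Finset.sum_le_sum fun y _ => by
      obtain ⟨g, a, b, x, c⟩ := h y.1 y.2
      have g1 : orderOf g ≠ 1 := by rw [Ne, orderOf_eq_one_iff]; rintro rfl; simp at c
      rw [Finset.sum_boole, Nat.cast_id]
      refine Finset.card_pos.2 ⟨g ^ (orderOf g / (orderOf g).minFac), Finset.mem_filter.2 ⟨Finset.mem_filter.2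
        ⟨Finset.mem_univ _, ?_⟩, (stabilizer G y).pow_mem (Prod.ext a b) _⟩⟩
      rw [orderOf_pow_orderOf_div (orderOf_pos g).ne' (Nat.minFac_dvd _)]
      exact Nat.minFac_prime g1
    _ = _ := Finset.sum_comm.trans (Finset.sum_congr rfl fun g _ => by
      rw [Finset.sum_boole, Nat.cast_id, sq, ← Nat.card_prod, ← Fintype.card_subtype, ← Nat.card_eq_fintype_card]
      exact Nat.card_congr ⟨fun y => (⟨y.1.1, congrArg Prod.fst y.2⟩, ⟨y.1.2, congrArg Prod.snd y.2⟩),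
        fun y => ⟨(y.1, y.2), Prod.ext y.1.2 y.2.2⟩, fun _ => rfl, fun _ => rfl⟩)

theorem root {f M N k : ℕ} (M0 : 0 < M) (k0 : k ≠ 0) (h : (f ^ 2 * M) ^ k ≤ (N ^ 2) ^ k) :
    ((f ^ 2 : ℕ) : ℚ) ≤ (N : ℚ) ^ 2 / M := by
  rw [le_div_iff₀ (by exact_mod_cast M0)]
  exact_mod_cast (Nat.pow_le_pow_iff_left k0).1 h

variable {G V K : Type u} [Group G] [Finite G] [AddCommGroup V] [Finite V] [Nontrivial V]
  [DistribMulAction G V] [FaithfulSMul G V] [Field K] [Module K V] {A L : Subgroup G} [A.Normal] {ι : G → K}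

local notation "C" X => Subgroup.centralizer (X : Set G)

variable (V A L) in
def P4 (g : G) : Prop := Lg V g ∧ (∀ l ∈ L, ⁅g, l⁆ ^ 2 ∈ A) ∧ (centralizer {g}).relIndex L = 4

variable (h : PD V A ι) [L.Normal] (hL : LD A L) {W : Type u} [AddCommGroup W] [Finite W] [DistribMulAction G W]
  {p : G → W} (hp : Sec A L W p)
include h hL hp

theorem krL {g : G} (a : g ∈ C A) (b : g ∈ kr G W) : g ∈ L := hL.ker g a fun y hy => (hp.fix g hy).1 (mem_kr.1 b _)

theorem idxL : L.relIndex (C A) ≤ (kr G W).index := by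
  refine (relIndex_le_of_le_left (H := kr G W ⊓ (C A)) (fun g hg => krL h hL hp hg.2 hg.1) index_ne_zero_of_finite).trans ?_
  rw [inf_relIndex_right, ← relIndex_top_right]
  exact relIndex_le_of_le_right le_top index_ne_zero_of_finite

theorem fib {S : Set G} {t : ℕ} (hS : ∀ g ∈ S, Lg V g ∧ (centralizer {g}).relIndex L ≤ t) :
    S.ncard ≤ t * (((↑) : G → G ⧸ kr G W) '' S).ncard := by
  classical
  have := Fintype.ofFinite G
  rw [Set.ncard_eq_toFinset_card', Set.ncard_eq_toFinset_card', Set.toFinset_image]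
  refine Finset.card_le_mul_card_image _ _ fun a ha => ?_
  obtain ⟨g, hg, rfl⟩ := Finset.mem_image.1 ha
  rw [Set.mem_toFinset] at hg
  rw [← Set.ncard_coe_finset]
  refine (cnt2 h hL (hS g hg).1 fun s hs => ?_).trans (hS g hg).2
  simp only [Finset.coe_filter, Set.mem_toFinset, Set.mem_setOf_eq] at hs
  exact ⟨(hS s hs.1).1, krL h hL hp (mul_mem (inv_mem (lg2 h (hS g hg).1)) (lg2 h (hS s hs.1).1))
    (QuotientGroup.eq.1 hs.2.symm)⟩

theorem countA {r : ℕ} (hr : r.Prime) (r2 : r ≠ 2) (hV : ∀ v : V, r • v = 0) {e : ℕ} (he : A.relIndex L = e * e)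
    {H n2 n3 n4 M2 M3 M4 : ℕ} {a : ℚ} (hH : (kr G W).index ≤ H)
    (h1 : ({g : G | (orderOf g).Prime}.ncard : ℚ) ≤ a * Nat.card V)
    (h2 : (∀ l ∈ L, l ^ 2 ∈ A) ∨ e * e * H ≤ n2)
    (h3 : ¬ 4 ∣ e ∨ 4 * (((↑) : G → G ⧸ kr G W) '' {g | P4 V A L g}).ncard ≤ n3) (h4 : ¬ 16 ∣ e ∨ e * H ≤ n4)
    (p2 : 0 < M2) (p3 : 0 < M3) (p4 : 0 < M4)
    (m2 : M2 ^ 3 ≤ Nat.card V ^ 2) (m3 : M3 ^ 2 ≤ Nat.card V) (m4 : M4 ^ 4 ≤ Nat.card V ^ 3)
    (hf : a + n2 / M2 + n3 / M3 + n4 / M4 < 1) : Bs G V := by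
  classical
  have := Fintype.ofFinite G
  by_contra hB
  let S2 := {g : G | Lg V g ∧ ∃ l ∈ L, ⁅g, l⁆ ^ 2 ∉ A}
  let S4 := {g : G | Lg V g ∧ (∀ l ∈ L, ⁅g, l⁆ ^ 2 ∈ A) ∧ 16 ∣ (centralizer {g}).relIndex L ∧
    Nat.card (fx V g) ^ 8 ≤ Nat.card V ^ 5}
  have e0 : 0 < e := Nat.pos_of_ne_zero (by rintro rfl; exact index_ne_zero_of_finite he)
  have k0 : ∀ g, Lg V g → (∀ l ∈ L, ⁅g, l⁆ ^ 2 ∈ A) → (centralizer {g}).relIndex L ∣ e := fun g a b =>
    (Nat.pow_dvd_pow_iff two_ne_zero).1 (by simpa only [sq, ← he] using ti7 h hL a b)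
  have k2 : S2.ncard ≤ n2 := by
    rcases h2 with c | c
    · rw [show S2 = ∅ from Set.eq_empty_of_forall_notMem fun g ⟨_, l, a, b⟩ => b (c _ (cmL h hL g a))]; simp
    · refine (cnt1 h (fun s a => a.1) (U := C A) (g := 1) fun s a => by simpa using lg2 h a.1).trans (le_trans ?_ c)
      rw [← relIndex_mul_relIndex A L _ hL.le hL.cen, he]
      exact Nat.mul_le_mul_left _ ((idxL h hL hp).trans hH)
  have k3 : {g | P4 V A L g}.ncard ≤ n3 := by
    rcases h3 with c | c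
    · rw [show {g | P4 V A L g} = ∅ from Set.eq_empty_of_forall_notMem fun g a => c (a.2.2 ▸ k0 g a.1 a.2.1)]; simp
    · exact (fib h hL hp fun g a => ⟨a.1, a.2.2.le⟩).trans c
  have k4 : S4.ncard ≤ n4 := by
    rcases h4 with c | c
    · rw [show S4 = ∅ from Set.eq_empty_of_forall_notMem fun g a => c (a.2.2.1.trans (k0 g a.1 a.2.1))]; simp
    · exact (fib h hL hp fun g a => ⟨a.1, Nat.le_of_dvd e0 (k0 g a.1 a.2.1)⟩).trans
        ((Nat.mul_le_mul_left _ ((Set.ncard_le_card _).trans hH)).trans c)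
  have N0 : (0 : ℚ) < Nat.card V := by exact_mod_cast Nat.card_pos
  have k5 : ∀ (S : Set G) [∀ g, Decidable (g ∈ S)] (n M : ℕ), S.ncard ≤ n → ∑ g ∈ Finset.univ.filter fun g : G => (orderOf g).Prime,
      (if g ∈ S then (Nat.card V : ℚ) ^ 2 / M else 0) ≤ n / M * (Nat.card V : ℚ) ^ 2 := fun S _ n M c => by
    rw [← Finset.sum_filter, Finset.sum_const, nsmul_eq_mul, div_mul_eq_mul_div, mul_div_assoc]
    gcongr
    rw [← Set.ncard_coe_finset]
    exact (Set.ncard_le_ncard fun g a => (Finset.mem_filter.1 a).2).trans c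
  have k6 : ((Nat.card V ^ 2 : ℕ) : ℚ) ≤ _ := Nat.cast_le.2 (count hB)
  rw [Nat.cast_sum] at k6
  replace k6 := k6.trans (Finset.sum_le_sum (g := fun g => (Nat.card V : ℚ) +
    (if g ∈ S2 then (Nat.card V : ℚ) ^ 2 / M2 else 0) + (if g ∈ {g | P4 V A L g} then (Nat.card V : ℚ) ^ 2 / M3 else 0) +
    (if g ∈ S4 then (Nat.card V : ℚ) ^ 2 / M4 else 0)) fun g hg => by
      have z : ∀ (P : Prop) [Decidable P] (M : ℕ), 0 ≤ (if P then (Nat.card V : ℚ) ^ 2 / M else 0) := fun P _ M => by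
        split_ifs <;> positivity
      have z2 := z (g ∈ S2) M2; have z3 := z (g ∈ {g | P4 V A L g}) M3; have z4 := z (g ∈ S4) M4
      by_cases c : Lg V g
      swap
      · have : ((Nat.card (fx V g) ^ 2 : ℕ) : ℚ) ≤ Nat.card V := Nat.cast_le.2 (not_lt.1 fun d => c ⟨by
          rintro rfl; simp [Nat.not_prime_one] at hg, d⟩)
        linarith
      by_cases d : ∀ l ∈ L, ⁅g, l⁆ ^ 2 ∈ A
      · rcases ti6 h hL c d hr r2 hV with f | f
        · rw [if_pos (show g ∈ {g | P4 V A L g} from ⟨c, d, f⟩)]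
          have := root (f := Nat.card (fx V g)) (N := Nat.card V) p3 two_ne_zero (by
            rw [mul_pow, ← pow_mul, ← pow_mul]; exact (Nat.mul_le_mul (lg6 h hL c) m3).trans_eq (pow_succ _ _).symm)
          linarith
        · rw [if_pos (show g ∈ S4 from ⟨c, d, f⟩)]
          have := root (f := Nat.card (fx V g)) (N := Nat.card V) p4 four_ne_zero (by
            rw [mul_pow, ← pow_mul, ← pow_mul]; exact (Nat.mul_le_mul f.2 m4).trans_eq (pow_add _ _ _).symm)
          linarith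
      · push Not at d
        rw [if_pos (show g ∈ S2 from ⟨c, d⟩)]
        obtain ⟨l, a, b⟩ := d
        have := root (f := Nat.card (fx V g)) (N := Nat.card V) p2 three_ne_zero (by
          rw [mul_pow, ← pow_mul, ← pow_mul]; exact (Nat.mul_le_mul (lg7 h hL a b) m2).trans_eq (pow_add _ _ _).symm)
        linarith)
  simp only [Finset.sum_add_distrib, Finset.sum_const, nsmul_eq_mul] at k6
  rw [← Set.ncard_coe_finset, Finset.coe_filter_univ, Nat.cast_pow] at k6
  have := k5 _ _ M2 k2; have := k5 _ _ M3 k3; have := k5 _ _ M4 k4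
  have := mul_le_mul_of_nonneg_right h1 N0.le
  have := mul_lt_mul_of_pos_right hf (pow_pos N0 2)
  linarith

end Cfsg.Agent.H26.DB
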