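import Mathlib
import Cfsg.Agent.H26.DB7
import Cfsg.Agent.H1.Frattini

/-! Coprime bases of size two, VIII: symplectic modules over the field with two elements. -/

set_option autoImplicit false
set_option linter.unusedSectionVars false

namespace Cfsg.Agent.H26.DB

open Subgroup MulAction BT Module
open scoped Pointwise commutatorElement IsMulCommutative

theorem autP {P : Type*} [Group P] [Finite P] {s : ℕ} [Fact s.Prime] (hP : IsPGroup s P) :
    ∃ d a, (frattini P).index = s ^ d ∧ Nat.card (MulAut P) ∣ s ^ a * ∏ i ∈ Finset.range d, (s ^ d - s ^ i) := by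
  obtain ⟨d, hd⟩ := (hP.to_quotient (frattini P)).exists_card_eq
  obtain ⟨b, hb⟩ := (hP.to_subgroup (frattini P)).exists_card_eq
  refine ⟨d, b * d, hd, ?_⟩
  have : IsMulCommutative (P ⧸ frattini P) := Normal.quotient_commutative_iff_commutator_le.2
    (have := hP.isNilpotent; H1.commutator_le_frattini)
  rw [← (quotAut (frattini P)).ker.card_mul_index, index_ker, pow_mul, ← hb,
    ← card_mulAut_of_elementary (V := P ⧸ frattini P) (fun x => QuotientGroup.induction_on x fun x =>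
      (QuotientGroup.eq_one_iff (x ^ s)).2 (H1.pow_mem_frattini hP x)) hd]
  exact Nat.mul_dvd_mul (card_dvd_of_frattini hP hd _ fun a ha => (mem_ker_quotAut _).1 ha) (card_subgroup_dvd_card _)

variable {H W : Type*} [Group H] [Finite H] [AddCommGroup W] [Finite W] [DistribMulAction H W]

theorem burn (X : Subgroup H) {d : ℕ} (h : ∀ x ∈ X, x ≠ 1 → Nat.card (fx W x) = d) :
    Nat.card W ≡ d [MOD Nat.card X] := by
  classical
  have := Fintype.ofFinite X
  have := Fintype.ofFinite W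
  have := Fintype.ofFinite (Quotient (orbitRel X W))
  have k := sum_card_fixedBy_eq_card_orbits_mul_card_group X W
  have k1 : ∀ x : X, Fintype.card (fixedBy W x) = Nat.card (fx W x.1) := fun x => Nat.card_eq_fintype_card.symm
  rw [← Finset.add_sum_erase _ _ (Finset.mem_univ 1), Finset.sum_congr rfl fun x hx => (k1 x).trans
    (h x x.2 fun e => Finset.ne_of_mem_erase hx (Subtype.ext e))] at k
  simp only [fixedBy_one_eq_univ, Fintype.card_setUniv, Finset.sum_const, Finset.card_erase_of_mem (Finset.mem_univ _),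
    Finset.card_univ, smul_eq_mul, ← Nat.card_eq_fintype_card] at k
  have : 0 < Nat.card X := Nat.card_pos
  obtain ⟨n, hn⟩ : ∃ n, Nat.card X = n + 1 := ⟨_, (Nat.sub_add_cancel this).symm⟩
  rw [hn, Nat.add_sub_cancel, Nat.card_univ] at k
  rw [hn]
  refine Nat.ModEq.add_right_cancel' (n * d) ?_
  rw [k, show d + n * d = (n + 1) * d by ring, mul_comm]
  exact (Nat.modEq_zero_iff_dvd.2 (Dvd.intro _ rfl)).trans (Nat.modEq_zero_iff_dvd.2 (Dvd.intro _ rfl)).symm

theorem invfix (N : Subgroup H) [N.Normal] : Inv H (FixedPoints.addSubgroup N W) := fun g x hx y => by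
  have := hx ⟨_, ‹N.Normal›.conj_mem' y y.2 g⟩
  rwa [Subgroup.mk_smul, mul_smul, mul_smul, inv_smul_eq_iff] at this

theorem fixtop [FaithfulSMul H W] {N : Subgroup H} (h : FixedPoints.addSubgroup N W = ⊤) : N = ⊥ :=
  eq_bot_iff.2 fun g hg => eq_of_smul_eq_smul fun x : W => by simpa using h.ge (AddSubgroup.mem_top x) ⟨g, hg⟩

theorem fxtop [FaithfulSMul H W] {g : H} (h : Nat.card (fx W g) = Nat.card W) : g = 1 :=
  eq_of_smul_eq_smul fun x : W => by simpa [mem_fx] using (AddSubgroup.eq_top_of_card_eq _ h).ge (AddSubgroup.mem_top x)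

theorem modfix {s : ℕ} (hs : s.Prime) {g : H} (hg : g ^ s = 1) {U : AddSubgroup W} (hU : ∀ x ∈ U, g • x ∈ U) :
    Nat.card U ≡ Nat.card (U ⊓ fx W g : AddSubgroup W) [MOD s] := by
  have := Fact.mk hs
  let U' : SubMulAction (zpowers g) W := ⟨U, by
    rintro ⟨c, hc⟩ x hx
    obtain ⟨n, rfl⟩ := (mem_powers_iff_mem_zpowers.2 hc)
    change g ^ n • x ∈ U
    induction n with
    | zero => simpa
    | succ n ih => rw [pow_succ', mul_smul]; exact hU _ (ih (pow_mem (mem_zpowers g) n))⟩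
  refine (card_modEq_ncard_fixedBy (Ω := U') (c := ⟨g, mem_zpowers g⟩) (Subtype.ext hg)).trans (congrArg (· % s) ?_)
  rw [← Nat.card_coe_set_eq]
  exact Nat.card_congr ⟨fun x => ⟨x.1.1, x.1.2, congrArg Subtype.val x.2⟩, fun x => ⟨⟨x.1, x.2.1⟩, Subtype.ext x.2.2⟩,
    fun _ => rfl, fun _ => rfl⟩

theorem four {T : AddSubgroup W} (h : Nat.card T = 4) (h2 : ∀ w : W, w + w = 0) {a b t : W} (ha : a ∈ T) (hb : b ∈ T)
    (a0 : a ≠ 0) (b0 : b ≠ 0) (ab : a ≠ b) (ht : t ∈ T) : t = 0 ∨ t = a ∨ t = b ∨ t = a + b := by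
  classical
  have : ({0, a, b, a + b} : Set W) = T := Set.eq_of_subset_of_ncard_le (by
    rintro x (rfl | rfl | rfl | rfl); exacts [zero_mem T, ha, hb, add_mem ha hb]) (by
    rw [← Nat.card_coe_set_eq, show Nat.card (T : Set W) = 4 from h, Set.ncard_insert_of_notMem, Set.ncard_insert_of_notMem,
      Set.ncard_pair] <;> simp [a0, b0, ab, a0.symm, b0.symm]
    exact fun e => ab (add_right_cancel (e.symm.trans (h2 b).symm)))
  exact this.ge ht

variable (H) in
structure SP (ω : W →+ W →+ ZMod 2) : Prop where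
  alt : ∀ w, ω w w = 0
  inv : ∀ (g : H) a b, ω (g • a) (g • b) = ω a b
  nd : ∀ a, (∀ b, ω a b = 0) → a = 0

def pp (ω : W →+ W →+ ZMod 2) (U : AddSubgroup W) : AddSubgroup W where
  carrier := {w | ∀ u ∈ U, ω u w = 0}
  zero_mem' := by simp
  add_mem' a b u hu := by simp [a u hu, b u hu]
  neg_mem' a u hu := by simp [a u hu]

variable (ω : W →+ W →+ ZMod 2) in
def Q4 (g : H) : Prop := (∀ w : W, g • g • w = w) ∧ (∀ w, ω w (g • w) = 0) ∧ (fx W g).index = 4

variable {ω : W →+ W →+ ZMod 2} (hω : SP H ω)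
include hω

theorem SP.two (w : W) : w + w = 0 := hω.nd _ fun b => by simp [CharTwo.add_self_eq_zero]

theorem SP.symm (a b : W) : ω a b = ω b a := by
  have := hω.alt (a + b)
  simp only [map_add, AddMonoidHom.add_apply, hω.alt, zero_add, add_zero] at this
  rwa [CharTwo.add_eq_zero, eq_comm] at this

theorem SP.card_pp (U : AddSubgroup W) : Nat.card U * Nat.card (pp ω U) = Nat.card W := by
  letI : Module (ZMod 2) W := AddCommGroup.zmodModule fun w => by rw [two_smul, hω.two]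
  let B : LinearMap.BilinForm (ZMod 2) W := LinearMap.mk₂ _ (fun a b => ω a b) (by simp)
    (fun c a b => ZMod.map_smul (ω.flip b) c a) (by simp) fun c a b => ZMod.map_smul (ω a) c b
  let U' : Submodule (ZMod 2) W := AddSubgroup.toZModSubmodule 2 U
  have := LinearMap.BilinForm.finrank_orthogonal (B := B) ⟨hω.nd, fun a h => hω.nd a fun b => hω.symm a b ▸ h b⟩ U'
  change Nat.card U' * Nat.card (B.orthogonal U') = _
  rw [natCard_eq_pow_finrank (K := ZMod 2) (V := U'), natCard_eq_pow_finrank (K := ZMod 2) (V := B.orthogonal U'),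
    natCard_eq_pow_finrank (K := ZMod 2) (V := W),
    ← pow_add, this, Nat.add_sub_cancel' U'.finrank_le]

theorem SP.le_pp {U U' : AddSubgroup W} (h : U ≤ pp ω U') : U' ≤ pp ω U := fun a ha b hb => hω.symm a b ▸ h hb a ha

theorem SP.pp_pp (U : AddSubgroup W) : pp ω (pp ω U) = U := (AddSubgroup.eq_of_le_of_card_ge (hω.le_pp le_rfl) (by
  have a := hω.card_pp U
  rw [← hω.card_pp (pp ω U), mul_comm] at a
  exact (Nat.eq_of_mul_eq_mul_left Nat.card_pos a).ge)).symm

theorem SP.sq {U : AddSubgroup W} (h : U ⊓ pp ω U = ⊥) : ∃ i, Nat.card U = 4 ^ i := by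
  obtain ⟨T, -, ⟨h1, h2⟩, hm⟩ := Finite.exists_le_maximal (p := fun T : AddSubgroup W => T ≤ U ∧ T ≤ pp ω T) (a := ⊥)
    ⟨bot_le, bot_le⟩
  have h3 : pp ω T ⊓ U = T := le_antisymm (fun x hx => hm (y := T ⊔ AddSubgroup.zmultiples x)
    ⟨sup_le h1 (AddSubgroup.zmultiples_le.2 hx.2), by
      have : T ⊔ AddSubgroup.zmultiples x ≤ pp ω (AddSubgroup.zmultiples x) :=
        sup_le (hω.le_pp (AddSubgroup.zmultiples_le.2 hx.1)) (AddSubgroup.zmultiples_le.2 (by
          rintro _ ⟨n, rfl⟩; simp [hω.alt]))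
      exact sup_le (hω.le_pp (sup_le h2 (AddSubgroup.zmultiples_le.2 hx.1))) (hω.le_pp this)⟩ le_sup_left
      (AddSubgroup.mem_sup_right (AddSubgroup.mem_zmultiples x))) (le_inf h2 h1)
  have k : ∀ X Y : AddSubgroup W, X ⊓ Y = ⊥ → Nat.card (X ⊔ Y : AddSubgroup W) = Nat.card X * Nat.card Y := fun X Y e => by
    rw [← AddSubgroup.relIndex_bot_left, ← AddSubgroup.relIndex_mul_relIndex ⊥ X _ bot_le le_sup_left,
      AddSubgroup.relIndex_sup_left, ← AddSubgroup.inf_relIndex_right X, e]; simp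
  have h4 : U ⊔ pp ω U = ⊤ := AddSubgroup.eq_top_of_card_eq _ (by rw [k _ _ h, hω.card_pp])
  have h5 : pp ω U ≤ pp ω T := fun x hx u hu => hx u (h1 hu)
  have h6 : pp ω T = T ⊔ pp ω U := by
    conv_rhs => rw [← h3, inf_sup_assoc_of_le _ h5, h4, inf_top_eq]
  have h7 := hω.card_pp T
  rw [h6, k _ _ (eq_bot_iff.2 (h ▸ inf_le_inf_right _ h1)), ← hω.card_pp U, ← mul_assoc] at h7
  obtain ⟨i, hi⟩ := (IsPGroup.iff_card (p := 2) (G := Multiplicative T)).1 fun x => ⟨1, by
    rw [pow_one, _root_.sq]; exact Subtype.ext (hω.two x.toAdd.1)⟩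
  exact ⟨i, by rw [← Nat.eq_of_mul_eq_mul_right Nat.card_pos h7, show Nat.card T = 2 ^ i from hi, ← mul_pow]; rfl⟩

theorem SP.nd_fix {X : Subgroup H} (h : Odd (Nat.card X)) :
    FixedPoints.addSubgroup X W ⊓ pp ω (FixedPoints.addSubgroup X W) = ⊥ := eq_bot_iff.2 fun w hw => hω.nd w fun y => by
  have := Fintype.ofFinite X
  have a := hw.2 (∑ x : X, x • y) fun z => by
    rw [Finset.smul_sum, ← Equiv.sum_comp (Equiv.mulLeft z) fun x : X => x • y]; simp [mul_smul]
  rw [hω.symm, map_sum, Finset.sum_congr rfl fun (x : X) _ => show ω w (x • y) = ω w y by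
    rw [← hω.inv x w y]; exact congrArg (ω · _) (hw.1 x).symm] at a
  rwa [Finset.sum_const, Finset.card_univ, ← Nat.card_eq_fintype_card, nsmul_eq_mul,
    (ZMod.natCast_eq_one_iff_odd).2 h, one_mul] at a

theorem SP.nd_fx {c : H} (h : Odd (orderOf c)) : fx W c ⊓ pp ω (fx W c) = ⊥ := by
  have : fx W c = FixedPoints.addSubgroup (zpowers c) W := AddSubgroup.ext fun w =>
    ⟨fun a g => (zpowers_le.2 (show c ∈ stabilizer H w from a) g.2 :), fun a => a ⟨c, mem_zpowers c⟩⟩
  rw [this]; exact hω.nd_fix (by rwa [Nat.card_zpowers])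

theorem SP.dl (g : H) (w : W) : g • w + w ∈ pp ω (fx W g) := fun u hu => by
  rw [map_add, ← hω.inv g u w, mem_fx.1 hu, CharTwo.add_self_eq_zero]

theorem SP.ppinv {g : H} {U U' : AddSubgroup W} (h : ∀ x ∈ U', g⁻¹ • x ∈ U) : ∀ x ∈ pp ω U, g • x ∈ pp ω U' :=
  fun x hx u hu => by rw [← hω.inv g⁻¹, inv_smul_smul, hx _ (h u hu)]

theorem SP.o2 [FaithfulSMul H W] (hC : CR H W) : pCore 2 H = ⊥ := by
  obtain ⟨U, h1, h2, h3⟩ := hC _ (invfix (pCore 2 H))
  let U' : SubMulAction (pCore 2 H) W := ⟨U, fun g x hx => h1 g x hx⟩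
  by_cases e : U = ⊥
  · exact fixtop (W := W) (by rwa [e, sup_bot_eq] at h3)
  obtain ⟨i, hi⟩ := (IsPGroup.iff_card (p := 2) (G := Multiplicative U)).1 fun x => ⟨1, by
    rw [pow_one, _root_.sq]; exact Subtype.ext (hω.two x.toAdd.1)⟩
  obtain ⟨b, hb, c⟩ := (H1.isPGroup_pCore 2 H).exists_fixed_point_of_prime_dvd_card_of_fixed_point U'
    (show 2 ∣ Nat.card (Multiplicative U) from hi ▸ dvd_pow_self 2 (by
      rintro rfl; exact e (AddSubgroup.card_eq_one.1 hi))) (a := ⟨0, U.zero_mem⟩) fun g => Subtype.ext (smul_zero g)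
  exact (c (Subtype.ext (h2.le ⟨fun g => congrArg Subtype.val (hb g), b.2⟩).symm)).elim

variable {g : H} (hg : Q4 ω g)
include hg

theorem Q4.card : Nat.card (pp ω (fx W g)) = 4 := by
  have := hω.card_pp (fx W g)
  rw [← (fx W g).index_mul_card, hg.2.2, mul_comm] at this
  exact Nat.eq_of_mul_eq_mul_right Nat.card_pos this

theorem Q4.le : pp ω (fx W g) ≤ fx W g := fun t ht => add_right_cancel ((hω.nd (g • t + t) fun w => by
  rw [map_add, AddMonoidHom.add_apply, ← hω.inv g (g • t), hg.1, ← map_add, hω.symm]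
  exact ht _ (by rw [mem_fx, smul_add, hg.1, add_comm])).trans (hω.two t).symm)

theorem Q4.uniq {w t : W} (hw : w ∉ fx W g) (ht : t ∈ pp ω (fx W g)) (t0 : t ≠ 0) (e : ω w t = 0) : g • w = w + t := by
  by_contra c
  have d : g • w + w ≠ 0 := fun d => hw (add_right_cancel (d.trans (hω.two w).symm))
  refine hw (hω.pp_pp (fx W g) ▸ fun u hu => ?_)
  have e1 : ω w (g • w + w) = 0 := by rw [map_add, hg.2.1, hω.alt, add_zero]
  rw [hω.symm]
  rcases four (hg.card hω) hω.two ht (hω.dl g w) t0 d (fun d => c (by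
    rw [d, add_comm, add_assoc, hω.two, add_zero])) hu with rfl | rfl | rfl | rfl
  exacts [map_zero _, e, e1, by rw [map_add, e, e1, add_zero]]

theorem Q4.det [FaithfulSMul H W] {g' : H} (hg' : Q4 ω g') (e : pp ω (fx W g) ≤ pp ω (fx W g')) : g = g' := by
  have e1 := AddSubgroup.eq_of_le_of_card_ge e (by rw [hg.card hω, hg'.card hω])
  have e2 : fx W g = fx W g' := by rw [← hω.pp_pp (fx W g), e1, hω.pp_pp]
  refine eq_of_smul_eq_smul fun w : W => ?_
  by_cases c : w ∈ fx W g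
  · exact (mem_fx.1 c).trans (mem_fx.1 (e2 ▸ c)).symm
  · rw [hg'.uniq hω (e2 ▸ c) (e (hω.dl g w)) (fun d => c (add_right_cancel (d.trans (hω.two w).symm)))
      (by rw [map_add, hg.2.1, hω.alt, add_zero]), add_comm, add_assoc, hω.two, add_zero]

theorem Q4.conj (f : H) : Q4 ω (f * g * f⁻¹) := ⟨fun w => by simp [mul_smul, hg.1], fun w => by
  rw [← hω.inv f⁻¹, mul_smul, mul_smul, inv_smul_smul, hg.2.1], by
  have a := (fx W g).index_mul_card
  have b := fx_conj (V := W) (f * g * f⁻¹) f⁻¹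
  rw [show f⁻¹ * (f * g * f⁻¹) * f⁻¹⁻¹ = g by group] at b
  rw [← (fx W (f * g * f⁻¹)).index_mul_card, b.antisymm (fx_conj g f), hg.2.2] at a
  exact (Nat.eq_of_mul_eq_mul_right Nat.card_pos a).symm⟩

theorem Q4.inv [FaithfulSMul H W] {Z : Subgroup H} [Z.Normal] (hZ : ∀ z ∈ Z, z ≠ 1 → fx W z = ⊥)
    (h : 16 < Nat.card W ∨ ¬ 3 ∣ Nat.card H) {f : H} (hf : f ∈ Z) : Commute g f := by
  by_contra c
  have c1 : ⁅g, f⁆ ≠ 1 := fun e => c (commutatorElement_eq_one_iff_commute.1 e)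
  have c2 : ⁅g, f⁆ ∈ Z := commutator_le_right ⊤ Z (commutator_mem_commutator trivial hf)
  have a := half (V := W) g f
  have b := (fx W g).index_mul_card
  rw [hZ _ c2 c1, AddSubgroup.card_bot, ← b, hg.2.2] at a
  have d : Nat.card (fx W g) ≤ 4 := by nlinarith [Nat.card_pos (α := fx W g)]
  rw [hg.2.2] at b
  refine h.resolve_left (by omega) ?_
  have e := AddSubgroup.eq_of_le_of_card_ge (hg.le hω) (hg.card hω ▸ d)
  have hg' := hg.conj hω f
  have c3 : ∀ w : W, ⁅g, f⁆ • w = g • (f * g * f⁻¹) • w := fun w => by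
    rw [commutatorElement_def, show g⁻¹ = g from inv_eq_of_mul_eq_one_right (eq_of_smul_eq_smul fun w : W => by
      rw [mul_smul, hg.1, one_smul])]; simp [mul_smul]
  generalize f * g * f⁻¹ = g' at hg' c3
  have c4 : ∀ w ∈ fx W g, w ∈ fx W g' → w = 0 := fun w a b => (hZ _ c2 c1).le (by rw [mem_fx, c3, mem_fx.1 b, mem_fx.1 a])
  have : Nontrivial (fx W g) := Finite.one_lt_card_iff_nontrivial.1 (by rw [← e, hg.card hω]; norm_num)
  obtain ⟨⟨x, hx⟩, x0⟩ := exists_ne (0 : fx W g)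
  replace x0 : x ≠ 0 := fun e => x0 (Subtype.ext e)
  have y1 := hg'.le hω (hω.dl g' x)
  have y0 : g' • x + x ≠ 0 := fun d => x0 (c4 x hx (add_right_cancel (d.trans (hω.two x).symm)))
  have y2 := hg.uniq hω (fun d => y0 (c4 _ d y1)) (e.ge hx) x0 (by
    rw [hω.symm, map_add, hg'.2.1, hω.alt, add_zero])
  have y3 : g' • x = g' • x + x + x := by rw [add_assoc, hω.two, add_zero]
  generalize g' • x + x = y at *
  have y4 : ⁅g, f⁆ • x = y := by rw [c3, y3, smul_add, y2, mem_fx.1 hx, add_assoc, hω.two, add_zero]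
  have y5 : ⁅g, f⁆ • y = y + x := by rw [c3, mem_fx.1 y1, y2]
  have y6 : ⁅g, f⁆ ^ 3 = 1 := by_contra fun d => x0 ((hZ _ (pow_mem c2 3) d).le (by
    rw [mem_fx, pow_three, mul_smul, mul_smul, y4, y5, smul_add, y4, y5, add_right_comm, hω.two, zero_add]))
  exact orderOf_eq_prime (hp := ⟨Nat.prime_three⟩) y6 c1 ▸ orderOf_dvd_natCard _

omit hg

theorem SP.jb1 [FaithfulSMul H W] : {g : H | Q4 ω g}.ncard ≤ Nat.card W ^ 2 := by
  have k : ∀ g : {g : H | Q4 ω g}, ∃ t : W × W, t.1 ∈ pp ω (fx W g.1) ∧ t.2 ∈ pp ω (fx W g.1) ∧ t.1 ≠ 0 ∧ t.2 ≠ 0 ∧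
      t.1 ≠ t.2 := fun g => by
    have := Fintype.ofFinite (pp ω (fx W g.1))
    obtain ⟨a, b, c, h1, h2, h3⟩ := Fintype.two_lt_card_iff.1 (show 2 < Fintype.card (pp ω (fx W g.1)) by
      rw [← Nat.card_eq_fintype_card, Q4.card hω g.2]; norm_num)
    exact ⟨(a - c, b - c), (a - c).2, (b - c).2, by simpa [sub_eq_zero], by simpa [sub_eq_zero], by simpa⟩
  choose t h1 h2 h3 h4 h5 using k
  rw [← Nat.card_coe_set_eq, _root_.sq, ← Nat.card_prod]
  refine Nat.card_le_card_of_injective t fun g g' e => Subtype.ext (Q4.det hω g.2 g'.2 fun u hu => ?_)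
  rcases four (Q4.card hω g.2) hω.two (h1 g) (h2 g) (h3 g) (h4 g) (h5 g) hu with rfl | rfl | rfl | rfl
  exacts [zero_mem _, e ▸ h1 g', e ▸ h2 g', e ▸ add_mem (h1 g') (h2 g')]

theorem SP.jb2 [FaithfulSMul H W] (h : Nat.card W = 64) {z : H} [(zpowers z).Normal] (h3 : z ^ 3 = 1) (hz : fx W z = ⊥) :
    {g : H | Q4 ω g}.ncard ≤ 21 := by
  classical
  have := Fintype.ofFinite H
  have := Fintype.ofFinite W
  have k : ∀ g : H, Q4 ω g → ∀ t ∈ pp ω (fx W g), z • t ∈ pp ω (fx W g) := fun g hg => hω.ppinv fun x hx => by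
    have := hg.inv hω (Z := zpowers z) (fun y hy y1 => eq_bot_iff.2 fun w hw => hz.le (by
      have := Fact.mk Nat.prime_three
      have e := orderOf_eq_prime h3 (by rintro rfl; exact y1 (by simpa using hy))
      have : zpowers y = zpowers z := eq_of_le_of_card_ge (zpowers_le.2 hy) (by
        rw [Nat.card_zpowers, Nat.card_zpowers, e]
        exact (orderOf_eq_prime (orderOf_dvd_iff_pow_eq_one.1 (e ▸ orderOf_dvd_of_mem_zpowers hy)) y1).ge)
      exact (zpowers_le.2 (show y ∈ stabilizer H w from hw) (this.ge (mem_zpowers z)) :))) (.inl (by omega))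
        (inv_mem (mem_zpowers z))
    rw [mem_fx, smul_smul, this.eq, mul_smul, mem_fx.1 hx]
  have k1 := Finset.card_biUnion (s := Finset.univ.filter fun g : H => Q4 ω g)
    (t := fun g => (Finset.univ.filter (· ∈ pp ω (fx W g))).erase 0) fun g hg g' hg' e => Finset.disjoint_left.2
      fun t a b => e (by
        simp only [Finset.coe_filter, Finset.mem_univ, true_and, Set.mem_setOf_eq, Finset.mem_erase, Finset.mem_filter] at *
        refine hg.det hω hg' fun u hu => ?_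
        rcases four (hg.card hω) hω.two a.2 (k g hg t a.2) a.1 ((smul_ne_zero_iff_ne z).2 a.1) (fun d => a.1 (hz.le d.symm)) hu
          with rfl | rfl | rfl | rfl
        exacts [zero_mem _, b.2, k g' hg' t b.2, add_mem b.2 (k g' hg' t b.2)])
  rw [Finset.sum_congr rfl (g := fun _ => 3) fun g hg => by
    rw [Finset.card_erase_of_mem (by simp), ← Fintype.card_subtype, ← Nat.card_eq_fintype_card,
      Q4.card hω (Finset.mem_filter.1 hg).2]] at k1
  have := Finset.card_le_univ ((Finset.univ.filter fun g : H => Q4 ω g).biUnion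
    fun g => (Finset.univ.filter (· ∈ pp ω (fx W g))).erase 0)
  rw [k1, ← Nat.card_eq_fintype_card, h, Finset.sum_const, smul_eq_mul, ← Set.ncard_coe_finset, Finset.coe_filter_univ] at this
  omega

end Cfsg.Agent.H26.DB
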