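import Mathlib
import Cfsg.Agent.H26.DB8

/-! Coprime bases of size two, IX: solvable groups on small symplectic modules. -/

set_option autoImplicit false
set_option linter.unusedSectionVars false

namespace Cfsg.Agent.H26.DB

open Subgroup MulAction BT Module
open scoped Pointwise commutatorElement IsMulCommutative

theorem hb {h s b m n t : ℕ} (hs : s.Prime) (h1 : h ∣ s ^ b * m) (h2 : h ∣ n) (h3 : ¬ s ^ (t + 1) ∣ n) : h ∣ s ^ t * m := by
  obtain ⟨u, v, a, c, rfl⟩ := Nat.dvd_mul.1 h1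
  obtain ⟨i, -, rfl⟩ := (Nat.dvd_prime_pow hs).1 a
  exact Nat.mul_dvd_mul (pow_dvd_pow _ (Nat.le_of_lt_succ (lt_of_not_ge fun d =>
    h3 ((pow_dvd_pow s d).trans ((Dvd.intro _ rfl).trans h2))))) c

variable {H W : Type*} [Group H] [Finite H] [AddCommGroup W] [Finite W] [DistribMulAction H W] [FaithfulSMul H W]

local notation "F" => fittingSubgroup H

theorem autF (hs : Group.IsSolvable H) : Nat.card H ∣ Nat.card F * Nat.card (MulAut F) := by
  have h3 := relIndex_centralizer_dvd_card_mulAut F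
  rw [normalizer_eq_top, relIndex_top_right] at h3
  rw [← (centralizer (F : Set H)).card_mul_index]
  exact Nat.mul_dvd_mul (card_dvd_of_le (H1.centralizer_fittingSubgroup_le hs)) h3

theorem cycF (hs : Group.IsSolvable H) (h : IsCyclic F) : Nat.card H ≤ Nat.card F * (Nat.card F).totient :=
  Nat.le_of_dvd (Nat.mul_pos Nat.card_pos (Nat.totient_pos.2 Nat.card_pos)) (IsCyclic.card_mulAut F ▸ autF hs)

theorem pgF {s : ℕ} (h : ∀ f ∈ F, (orderOf f).Prime → orderOf f = s) : ∃ n, Nat.card F = s ^ n :=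
  ⟨_, Nat.eq_prime_pow_of_unique_prime_dvd Nat.card_pos.ne' fun {t} ht d => by
    obtain ⟨x, hx⟩ := exists_prime_orderOf_dvd_card' (G := F) t (hp := ⟨ht⟩) d
    rw [← orderOf_coe] at hx
    exact hx.symm.trans (h x x.2 (hx ▸ ht))⟩

theorem inP {f : H} (hf : f ∈ F) (h : (orderOf f).Prime) : f ∈ pCore (orderOf f) H :=
  have := Fact.mk h
  H1.le_pCore_of_le_fittingSubgroup (IsPGroup.of_card (n := 1) (by simp)) (zpowers_le.2 hf) (mem_zpowers f)

theorem comF {f z : H} (hf : f ∈ F) (hz : z ∈ F) (a : (orderOf f).Prime) (b : (orderOf z).Prime)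
    (e : orderOf f ≠ orderOf z) (h : fx W z = ⊥) : Nat.card (fx W f) ≡ 1 [MOD orderOf z] := by
  have c := H1.pCore_le_centralizer_pPrimeCore _ (inP hf a) z
    (H1.pCore_le_pPrimeCore ((Nat.coprime_primes a b).2 e) (inP hz b))
  simpa [h] using modfix b (pow_orderOf_eq_one z) (U := fx W f) fun x hx => by
    rw [mem_fx, smul_smul, ← c, mul_smul, mem_fx.1 hx]

theorem nine {n : ℕ} (h3 : Nat.card F = 3 ^ n) (h : Nat.card W = 64) {P : AddSubgroup W} (h4 : Nat.card P = 4)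
    (hP : ∀ f ∈ F, ∀ x ∈ P, f • x ∈ P) {a : W} (ha : a ∈ P) (a0 : a ≠ 0)
    (hf : ∀ f ∈ F, f ≠ 1 → f • a = a → Nat.card (fx W f) = 4) :
    Nat.card (stabilizer H a ⊓ F : Subgroup H) ∣ 3 ∧ Nat.card F ≤ 3 * Nat.card (stabilizer H a ⊓ F : Subgroup H) := by
  have h1 := burn (W := W) (stabilizer H a ⊓ F) fun x hx x1 => hf x hx.2 x1 hx.1
  refine ⟨by simpa using hb (m := 1) (t := 1) Nat.prime_three (by
    rw [mul_one, ← h3]; exact card_dvd_of_le inf_le_right) ((Nat.modEq_iff_dvd' (by omega)).1 h1.symm) (by simp [h]), ?_⟩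
  rw [← relIndex_bot_left, ← relIndex_mul_relIndex ⊥ (stabilizer H a ⊓ F) F bot_le inf_le_right, relIndex_bot_left, mul_comm,
    inf_relIndex_right, show (stabilizer H a).relIndex F = (stabilizer F a).index from rfl, index_stabilizer]
  refine Nat.mul_le_mul_right _ ((Set.ncard_le_ncard (t := (P : Set W) \ {0}) ?_).trans ?_)
  · rintro _ ⟨f, rfl⟩; exact ⟨hP f f.2 a ha, (smul_ne_zero_iff_ne f).2 a0⟩
  · rw [Set.ncard_diff_singleton_of_mem (by simp), ← Nat.card_coe_set_eq, show Nat.card (P : Set W) = 4 from h4]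

variable {ω : W →+ W →+ ZMod 2} (hω : SP H ω) (hs : Group.IsSolvable H) (hC : CR H W)
include hω hC

theorem oddF : Odd (Nat.card F) := by
  have := H1.not_dvd_relIndex_pCore_fittingSubgroup (G := H) 2
  rwa [hω.o2 hC, relIndex_bot_left, Nat.two_dvd_ne_zero, ← Nat.odd_iff] at this

theorem oddf {f : H} (hf : f ∈ F) : Odd (orderOf f) := (oddF hω hC).of_dvd_nat (orderOf_dvd_natCard _ hf)

theorem fxF {f : H} (hf : f ∈ F) (f1 : f ≠ 1) {n : ℕ} (h : Nat.card W = 4 ^ n) : ∃ i < n, Nat.card (fx W f) = 4 ^ i := by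
  obtain ⟨i, hi⟩ := hω.sq (hω.nd_fx (oddf hω hC hf))
  refine ⟨i, (Nat.pow_lt_pow_iff_right (a := 4) (by norm_num)).1 ?_, hi⟩
  rw [← hi, ← h]
  exact (fx W f).card_le_card_addGroup.lt_of_ne fun e => f1 (fxtop e)

theorem fxP {f : H} (hf : f ∈ F) (a : (orderOf f).Prime) {n : ℕ} (h : Nat.card W = 4 ^ n) :
    orderOf f ≠ 2 ∧ ∃ i < n, Nat.card (fx W f) = 4 ^ i ∧ orderOf f ∣ 4 ^ n - 4 ^ i := by
  obtain ⟨i, b, c⟩ := fxF hω hC hf (by rintro rfl; simp [Nat.not_prime_one] at a) h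
  refine ⟨fun e => absurd (e ▸ oddf hω hC hf) (by decide), i, b, c, (Nat.modEq_iff_dvd' (by gcongr; norm_num)).1 (Nat.ModEq.symm ?_)⟩
  simpa [h, c] using modfix a (pow_orderOf_eq_one f) (U := (⊤ : AddSubgroup W)) fun _ _ => trivial

theorem corP {f : H} (hf : f ∈ F) (a : (orderOf f).Prime) {n : ℕ} (h : Nat.card W = 4 ^ n) :
    ∃ i < n, Nat.card (FixedPoints.addSubgroup (pCore (orderOf f) H) W) = 4 ^ i ∧ orderOf f ∣ 4 ^ n - 4 ^ i := by
  have := Fact.mk a
  obtain ⟨i, hi⟩ := hω.sq (hω.nd_fix (X := pCore (orderOf f) H)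
    ((oddF hω hC).of_dvd_nat (card_dvd_of_le (H1.pCore_le_fittingSubgroup _))))
  have b : i < n := (Nat.pow_lt_pow_iff_right (a := 4) (by norm_num)).1 (by
    rw [← hi, ← h]
    exact (AddSubgroup.card_le_card_addGroup _).lt_of_ne fun e => by
      have := (fixtop (AddSubgroup.eq_top_of_card_eq _ e)).le (inP hf a)
      rw [mem_bot.1 this, orderOf_one] at a; exact Nat.not_prime_one a)
  refine ⟨i, b, hi, (Nat.modEq_iff_dvd' (by gcongr; norm_num)).1 (Nat.ModEq.symm ?_)⟩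
  rw [← h, ← hi]
  exact (H1.isPGroup_pCore _ H).card_modEq_card_fixedPoints W

theorem jb3 : {g : H | Q4 ω g}.ncard + Nat.card F ≤ Nat.card H := by
  rw [← SetLike.coe_sort_coe, Nat.card_coe_set_eq, ← Set.ncard_union_eq (Set.disjoint_left.2 fun g a b => by
    have := fxtop (W := W) (g := g) (by
      rw [show fx W g = ⊤ from (AddSubgroup.eq_top_iff' _).2 fun w => (zpowers_le.2 (show g ^ 2 ∈ stabilizer H w by
        rw [mem_stabilizer_iff, sq, mul_smul, a.1]) ((mem_zpowers_pow_iff).2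
        (Nat.coprime_two_left.2 (oddf hω hC b))) :), AddSubgroup.card_top])
    have c := a.2.2
    simp [this, show fx W (1 : H) = ⊤ from (AddSubgroup.eq_top_iff' _).2 fun w => one_smul H w] at c)]
  exact Set.ncard_le_card _

include hs

theorem SR (h : ∀ f ∈ F, (orderOf f).Prime → fx W f = ⊥) (h4 : 4 < Nat.card W) :
    (16 < Nat.card W ∨ ¬ 3 ∣ Nat.card H → ∀ g : H, ¬ Q4 ω g) ∧ Nat.card F ∣ Nat.card W - 1 ∧
      Nat.card H ≤ Nat.card F * (Nat.card F).totient := by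
  have k : ∀ f ∈ F, f ≠ 1 → fx W f = ⊥ := fun f hf f1 => eq_bot_iff.2 fun w hw => (h _ (pow_mem hf _) (by
    rw [orderOf_pow_orderOf_div (orderOf_pos f).ne' (Nat.minFac_dvd _)]
    exact Nat.minFac_prime (by rwa [Ne, orderOf_eq_one_iff]))).le ((stabilizer H w).pow_mem hw _)
  refine ⟨fun a g hg => ?_, (Nat.modEq_iff_dvd' Nat.card_pos).1 (burn F fun x a b => by
    rw [k x a b, AddSubgroup.card_bot]).symm, cycF hs ?_⟩
  · have b := hg.2.2
    rcases eq_or_ne g 1 with rfl | g1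
    · simp [show fx W (1 : H) = ⊤ from (AddSubgroup.eq_top_iff' _).2 fun w => one_smul H w] at b
    rw [k g (H1.centralizer_fittingSubgroup_le hs fun f hf => (hg.inv hω k a hf).eq.symm) g1, AddSubgroup.index_bot] at b
    omega
  let φ : F →* MulAut (Multiplicative W) :=
    { toFun := fun a => AddEquiv.toMultiplicative (DistribMulAction.toAddEquiv W a)
      map_one' := by ext v; exact one_smul F v.toAdd
      map_mul' := fun a b => by ext v; exact mul_smul a b v.toAdd }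
  have hφ : H1.Semireg φ := fun l l1 v e => (k l l.2 fun e => l1 (Subtype.ext e)).le e
  have : Nontrivial W := Finite.one_lt_card_iff_nontrivial.1 (by omega)
  have := H1.isNilpotent_fittingSubgroup H
  have : IsZGroup F := ⟨fun s a P => by
    have := Fact.mk a
    refine ((hφ.comp P.1.subtype Subtype.val_injective).isCyclic_or_quaternion P.2).elim id ?_
    rintro ⟨rfl, -⟩
    obtain ⟨n, hn⟩ := P.2.exists_card_eq
    have := (oddF hω hC).of_dvd_nat (card_subgroup_dvd_card P.1)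
    rw [hn] at this
    rw [card_eq_one.1 (hn.trans (Nat.coprime_self _ |>.1 ((Nat.coprime_two_right.2 this).pow_right n)))]
    infer_instance⟩
  infer_instance

omit hω hC hs in
theorem k2 : ∀ {s : ℕ}, s.Prime → ∀ a b c, s ∣ 2 ^ a * 3 ^ b * c → s ≠ 2 → s ≠ 3 → s ∣ c := fun hs a b c d e f =>
    ((Nat.Prime.dvd_mul hs).1 d).resolve_left fun d => ((Nat.Prime.dvd_mul hs).1 d).elim
      (fun d => e ((Nat.prime_dvd_prime_iff_eq hs Nat.prime_two).1 (hs.dvd_of_dvd_pow d)))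
      fun d => f ((Nat.prime_dvd_prime_iff_eq hs Nat.prime_three).1 (hs.dvd_of_dvd_pow d))

variable (h3 : ¬ 3 ∣ Nat.card H) (hN : ∀ t : W, (∀ g : H, g • t = t) → t = 0)
include h3 hN

theorem no4 (U : AddSubgroup W) (hU : Inv H U) (e : Nat.card U = 4) : False := by
  have : Nontrivial U := Finite.one_lt_card_iff_nontrivial.1 (by omega)
  obtain ⟨⟨a, ha⟩, a0⟩ := exists_ne (0 : U)
  replace a0 : a ≠ 0 := fun e => a0 (Subtype.ext e)
  obtain ⟨g, hg⟩ : ∃ g : H, g • a ≠ a := by by_contra! c; exact a0 (hN a c)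
  have b := fun t => four e hω.two ha (hU g a ha) a0 ((smul_ne_zero_iff_ne g).2 a0) hg.symm (t := t)
  have c : ∀ k : H, k • a ≠ a + g • a := fun k d => by
    have c1 : k⁻¹ * g ∉ stabilizer H a := fun c => a0 (by
      rw [mem_stabilizer_iff, mul_smul, inv_smul_eq_iff, d] at c; simpa using c)
    refine h3 (Dvd.dvd.trans (dvd_of_eq ?_) (stabilizer H a).index_dvd_card)
    rw [index_stabilizer, show orbit H a = (U : Set W) \ {0} from Set.ext fun t => ⟨by
      rintro ⟨f, rfl⟩; exact ⟨hU f a ha, (smul_ne_zero_iff_ne f).2 a0⟩, fun ht => by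
        rcases b t ht.1 with rfl | rfl | rfl | rfl
        exacts [(ht.2 rfl).elim, mem_orbit_self _, mem_orbit _ _, ⟨k, d⟩]⟩, Set.ncard_diff_singleton_of_mem (by simp),
      ← Nat.card_coe_set_eq, show Nat.card (U : Set W) = 4 from e]
  refine hg (add_left_cancel ((hN _ fun k => ?_).trans (hω.two a).symm))
  have c1 := ((b _ (hU k a ha)).resolve_left ((smul_ne_zero_iff_ne k).2 a0)).imp_right fun d => d.resolve_right (c k)
  have c2 := ((b _ (hU (k * g) a ha)).resolve_left ((smul_ne_zero_iff_ne _).2 a0)).imp_right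
    fun d => d.resolve_right (c _)
  have c3 : k • a ≠ (k * g) • a := fun e => hg (by simpa [mul_smul] using e.symm)
  rw [smul_add, ← mul_smul]
  rcases c1 with c1 | c1 <;> rcases c2 with c2 | c2 <;> rw [c1, c2] at c3 ⊢
  exacts [(c3 rfl).elim, add_comm _ _, (c3 rfl).elim]

theorem W3a (h : Nat.card W = 16) :
    Nat.card H ≤ 20 ∧ (∀ g : H, ¬ Q4 ω g) ∧ (Nat.card H ≤ 1 ∨ ∃ g : H, orderOf g = 5 ∧ fx W g = ⊥) := by
  have k1 : ∀ f ∈ F, orderOf f ≠ 3 := fun f hf e => h3 (e ▸ orderOf_dvd_natCard f)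
  have k3 : (Nat.card F).Coprime 3 := (Nat.prime_three.coprime_iff_not_dvd.2 fun e =>
    h3 (e.trans (card_subgroup_dvd_card _))).symm
  have k4 : ∀ f ∈ F, (orderOf f).Prime → fx W f = ⊥ := fun f hf a => by
    obtain ⟨b, i, c, d, e⟩ := fxP hω hC hf a (n := 2) h
    interval_cases i
    · exact AddSubgroup.card_eq_one.1 d
    · exact (a.ne_one (Nat.dvd_one.1 (k2 a 2 1 1 e b (k1 f hf)))).elim
  obtain ⟨a, b, c⟩ := SR hω hs hC k4 (by omega)
  rcases (Nat.dvd_prime Nat.prime_five).1 (k3.dvd_of_dvd_mul_left (show _ ∣ 3 * 5 by rwa [h] at b)) with d | d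
  · rw [d] at c; exact ⟨c.trans (by norm_num), a (.inr h3), .inl c⟩
  · obtain ⟨x, hx⟩ := exists_prime_orderOf_dvd_card' (G := F) 5 (hp := ⟨Nat.prime_five⟩) d.symm.dvd
    rw [← orderOf_coe] at hx
    rw [d] at c; exact ⟨c.trans (by decide +kernel), a (.inr h3), .inr ⟨x, hx, k4 x x.2 (hx ▸ Nat.prime_five)⟩⟩

theorem W3b (h : Nat.card W = 64) : Nat.card H ≤ 42 ∧ ∀ g : H, ¬ Q4 ω g := by
  have k1 : ∀ f ∈ F, orderOf f ≠ 3 := fun f hf e => h3 (e ▸ orderOf_dvd_natCard f)
  have k3 : (Nat.card F).Coprime 3 := (Nat.prime_three.coprime_iff_not_dvd.2 fun e =>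
    h3 (e.trans (card_subgroup_dvd_card _))).symm
  obtain ⟨a, b, c⟩ := SR hω hs hC (fun f hf a => by
    obtain ⟨b, i, c, d, e⟩ := fxP hω hC hf a (n := 3) h
    interval_cases i
    · exact AddSubgroup.card_eq_one.1 d
    · obtain ⟨j, c', d', e'⟩ := corP hω hC hf a (n := 3) h
      rw [(Nat.prime_dvd_prime_iff_eq a Nat.prime_five).1 (k2 a 2 1 5 e b (k1 f hf))] at d' e'
      interval_cases j
      · omega
      · exact (no4 hω hs hC h3 hN _ (invfix _) d').elim
      · omega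
    · exact (a.ne_one (Nat.dvd_one.1 (k2 a 4 1 1 e b (k1 f hf)))).elim) (by omega)
  refine ⟨?_, a (.inr h3)⟩
  rcases (Nat.dvd_prime (by norm_num)).1 ((k3.pow_right 2).dvd_of_dvd_mul_left (show _ ∣ 3 ^ 2 * 7 by rwa [h] at b))
    with d | d <;> rw [d] at c <;> exact c.trans (by decide +kernel)

theorem W3c (h : Nat.card W = 256) : (Nat.card H ≤ 5440 ∧ ∀ g : H, ¬ Q4 ω g) ∨ Nat.card H ≤ 800 := by
  have k1 : ∀ f ∈ F, orderOf f ≠ 3 := fun f hf e => h3 (e ▸ orderOf_dvd_natCard f)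
  have k3 : (Nat.card F).Coprime 3 := (Nat.prime_three.coprime_iff_not_dvd.2 fun e =>
    h3 (e.trans (card_subgroup_dvd_card _))).symm
  have k4 : ∀ f ∈ F, (orderOf f).Prime → orderOf f = 5 ∧ (fx W f = ⊥ ∨ Nat.card (fx W f) = 16) ∨
      orderOf f = 17 ∧ fx W f = ⊥ := fun f hf a => by
    obtain ⟨b, i, c, d, e⟩ := fxP hω hC hf a (n := 4) h
    interval_cases i
    · rcases (Nat.Prime.dvd_mul a).1 (k2 a 0 1 (5 * 17) e b (k1 f hf)) with e | e
      · exact .inl ⟨(Nat.prime_dvd_prime_iff_eq a Nat.prime_five).1 e, .inl (AddSubgroup.card_eq_one.1 d)⟩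
      · exact .inr ⟨(Nat.prime_dvd_prime_iff_eq a (by norm_num)).1 e, AddSubgroup.card_eq_one.1 d⟩
    · obtain ⟨j, c', d', e'⟩ := corP hω hC hf a (n := 4) h
      rw [(Nat.prime_dvd_prime_iff_eq a (by norm_num)).1 (k2 a 2 2 7 e b (k1 f hf))] at d' e'
      interval_cases j
      · omega
      · exact (no4 hω hs hC h3 hN _ (invfix _) d').elim
      · omega
      · omega
    · exact .inl ⟨(Nat.prime_dvd_prime_iff_eq a Nat.prime_five).1 (k2 a 4 1 5 e b (k1 f hf)), .inr d⟩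
    · exact (a.ne_one (Nat.dvd_one.1 (k2 a 6 1 1 e b (k1 f hf)))).elim
  by_cases c : ∃ z ∈ F, orderOf z = 17
  · obtain ⟨z, hz, z1⟩ := c
    have z2 : (orderOf z).Prime := by rw [z1]; norm_num
    obtain ⟨a, b, c⟩ := SR hω hs hC (fun f hf a => by
      rcases k4 f hf a with ⟨b, c | c⟩ | b
      · exact c
      · have := comF hf hz a z2 (by omega) ((k4 z hz z2).resolve_left (by omega)).2
        rw [c, z1] at this; exact absurd this (by decide)
      · exact b.2) (by omega)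
    refine .inl ⟨c.trans ?_, a (.inr h3)⟩
    have d := Nat.mem_divisors.2 ⟨k3.dvd_of_dvd_mul_left (show _ ∣ 3 * 85 by rwa [h] at b), by norm_num⟩
    generalize Nat.card F = n at d
    revert n; decide +kernel
  right
  obtain ⟨n, hn⟩ := pgF fun f hf a => ((k4 f hf a).resolve_right fun d => c ⟨f, hf, d.1⟩).1
  have := Fact.mk Nat.prime_five
  obtain ⟨d, a, e1, e2⟩ := autP (IsPGroup.of_card hn)
  have e3 := card_dvd_gl hC Nat.prime_two (k := 8) h
  have e4 : d ≤ 2 := by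
    by_contra! e
    exact absurd ((pow_dvd_pow 5 e).trans (e1 ▸ (index_dvd_card _).trans ((card_subgroup_dvd_card _).trans e3)))
      (by decide +kernel)
  have e5 : Nat.card H ∣ 5 ^ (n + a + 1) * 32 * 3 := (autF hs).trans (by
    rw [hn, pow_add, pow_add, mul_assoc, mul_assoc, mul_assoc]
    exact Nat.mul_dvd_mul_left _ (e2.trans (Nat.mul_dvd_mul_left _ (by interval_cases d <;> decide +kernel))))
  exact Nat.le_of_dvd (by norm_num) (hb (t := 2) Nat.prime_five
    ((Nat.prime_three.coprime_iff_not_dvd.2 h3).symm.dvd_of_dvd_mul_right e5) e3 (by decide +kernel))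

end Cfsg.Agent.H26.DB
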