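import Mathlib
import Cfsg.Agent.H26.DB9

/-! Coprime bases of size two, X: small symplectic modules, groups of order prime to five. -/

set_option autoImplicit false
set_option linter.unusedSectionVars false

namespace Cfsg.Agent.H26.DB

open Subgroup MulAction BT Module
open scoped Pointwise commutatorElement IsMulCommutative

theorem com9 {X : Type*} [Group X] [Finite X] (h : Nat.card X ∣ 9) (a b : X) : a * b = b * a := by
  have := Fact.mk Nat.prime_three
  obtain ⟨i, hi, e⟩ := (Nat.dvd_prime_pow Nat.prime_three (m := 2)).1 h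
  interval_cases i
  · have := (Nat.card_eq_one_iff_unique.1 e).1; exact Subsingleton.elim _ _
  · have := isCyclic_of_prime_card e; exact mul_comm' a b
  · exact IsPGroup.commutative_of_card_eq_prime_sq e a b

variable {H W : Type*} [Group H] [Finite H] [AddCommGroup W] [Finite W] [DistribMulAction H W] [FaithfulSMul H W]

local notation "F" => fittingSubgroup H

theorem csup {X Y : AddSubgroup W} (e : X ⊓ Y = ⊥) : Nat.card (X ⊔ Y : AddSubgroup W) = Nat.card X * Nat.card Y := by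
  rw [← AddSubgroup.relIndex_bot_left, ← AddSubgroup.relIndex_mul_relIndex ⊥ X _ bot_le le_sup_left,
    AddSubgroup.relIndex_sup_left, ← AddSubgroup.inf_relIndex_right X, e]; simp

theorem normfix {U : AddSubgroup W} (hU : Inv H U) : (fixingSubgroup H (U : Set W)).Normal :=
  ⟨fun x hx g => (mem_fixingSubgroup_iff H).2 fun w hw => by
    rw [mul_smul, mul_smul, (mem_fixingSubgroup_iff H).1 hx _ (hU _ w hw), smul_inv_smul]⟩

variable (H) in
def Pl (ω : W →+ W →+ ZMod 2) (k : ℕ) : Prop := ∃ P : Fin k → AddSubgroup W,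
  (∀ i, Nat.card (P i) = 4 ∧ P i ⊓ pp ω (P i) = ⊥) ∧ (∀ i j, i ≠ j → P i ≤ pp ω (P j)) ∧
    (∀ w, (∀ i, w ∈ pp ω (P i)) → w = 0) ∧ ∀ (g : H) i, ∃ j, ∀ w ∈ P i, g • w ∈ P j

variable {ω : W →+ W →+ ZMod 2} (hω : SP H ω) (hs : Group.IsSolvable H) (hC : CR H W)
include hω

theorem sup_pp {U : AddSubgroup W} (h : U ⊓ pp ω U = ⊥) : U ⊔ pp ω U = ⊤ :=
  AddSubgroup.eq_top_of_card_eq _ (by rw [csup h, hω.card_pp])

theorem fix_all {U : AddSubgroup W} (h : U ⊓ pp ω U = ⊥) {g : H} (a : U ≤ fx W g) (b : pp ω U ≤ fx W g) : g = 1 :=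
  fxtop (W := W) (by rw [show fx W g = ⊤ from eq_top_iff.2 (sup_pp hω h ▸ sup_le a b), AddSubgroup.card_top])

theorem cj (g c : H) : ∀ w ∈ pp ω (fx W c), g • w ∈ pp ω (fx W (g * c * g⁻¹)) := hω.ppinv fun x hx => by
  rw [mem_fx, ← smul_left_cancel_iff g, smul_inv_smul, ← mul_smul, ← mul_smul, mem_fx.1 hx]

theorem cjc (g c : H) : Nat.card (fx W (g * c * g⁻¹)) = Nat.card (fx W c) := by
  have b := fx_conj (V := W) (g * c * g⁻¹) g⁻¹
  rw [show g⁻¹ * (g * c * g⁻¹) * g⁻¹⁻¹ = c by group] at b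
  exact b.antisymm (fx_conj c g)

theorem pc4 {c : H} (h : Nat.card (fx W c) * 4 = Nat.card W) : Nat.card (pp ω (fx W c)) = 4 :=
  Nat.eq_of_mul_eq_mul_left Nat.card_pos ((hω.card_pp _).trans h.symm)

include hC

theorem orth {n : ℕ} (h3 : Nat.card F = 3 ^ n) {c c' : H} (hc : c ∈ F) (hc' : c' ∈ F)
    (h : Nat.card (fx W c) * 4 = Nat.card W) (h' : Nat.card (fx W c') * 4 = Nat.card W) :
    pp ω (fx W c) = pp ω (fx W c') ∨ pp ω (fx W c) ≤ fx W c' := by
  let X := zpowers c ⊔ zpowers c'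
  have hX : X ≤ F := sup_le (zpowers_le.2 hc) (zpowers_le.2 hc')
  have ho : Odd (Nat.card X) := (oddF hω hC).of_dvd_nat (card_dvd_of_le hX)
  let D := FixedPoints.addSubgroup X W
  have h1 := hω.nd_fix ho
  have hU : Inv X (pp ω D) := fun g => hω.ppinv (g := g.1) fun x hx y => by
    rw [show g.1⁻¹ • x = x from hx g⁻¹]; exact hx y
  have k : ∀ c : H, Nat.card (fx W c) * 4 = Nat.card W → (fx W c).index = 4 := fun c e =>
    Nat.eq_of_mul_eq_mul_right Nat.card_pos ((fx W c).index_mul_card.trans (e.symm.trans (mul_comm _ _)))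
  have h2 : Nat.card (pp ω D) ≤ 16 := by
    rw [Nat.eq_of_mul_eq_mul_left Nat.card_pos ((hω.card_pp D).trans D.card_mul_index.symm)]
    refine (AddSubgroup.index_antitone (H := fx W c ⊓ fx W c') (K := D) fun w hw (g : X) =>
      (sup_le (zpowers_le.2 hw.1) (zpowers_le.2 hw.2) : X ≤ stabilizer H w) g.2).trans (AddSubgroup.index_inf_le.trans ?_)
    rw [k c h, k c' h']
  obtain ⟨i, hi⟩ := hω.sq (U := pp ω D) (by rwa [hω.pp_pp, inf_comm])
  letI : SMul X (pp ω D) := ⟨fun g x => ⟨g • x.1, hU g _ x.2⟩⟩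
  letI : DistribMulAction X (pp ω D) :=
    Function.Injective.distribMulAction (pp ω D).subtype Subtype.val_injective fun _ _ => rfl
  have : FaithfulSMul X (pp ω D) := ⟨fun {a b} e => Subtype.ext (eq_of_inv_mul_eq_one (fix_all hω h1
    (fun w hw => hw (a⁻¹ * b)) fun w hw => by
      rw [mem_fx, mul_smul, inv_smul_eq_iff]; exact (congrArg Subtype.val (e ⟨w, hw⟩)).symm))⟩
  have h4 := card_dvd_gl (maschke (G := X) (V := pp ω D) Nat.prime_two (by rwa [Nat.two_dvd_ne_zero, ← Nat.odd_iff])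
    fun v => Subtype.ext ((two_smul ℕ v.1).trans (hω.two _))) Nat.prime_two (k := 2 * i) (by rw [hi, pow_mul]; rfl)
  have h5 : i ≤ 2 := (Nat.pow_le_pow_iff_right (a := 4) (by norm_num)).1 (hi ▸ h2)
  have h6 : Commute c c' := congrArg Subtype.val (com9 (X := X) (by
    simpa using hb (m := 1) (t := 2) (n := 20160) Nat.prime_three (by rw [mul_one, ← h3]; exact card_dvd_of_le hX)
      (h4.trans (by interval_cases i <;> decide +kernel)) (by norm_num))
    ⟨c, mem_sup_left (mem_zpowers c)⟩ ⟨c', mem_sup_right (mem_zpowers c')⟩)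
  have h7 : ∀ w ∈ pp ω (fx W c), c' • w ∈ pp ω (fx W c) := by simpa [h6.eq.symm] using cj hω c' c
  have h8 : ∀ w ∈ pp ω (fx W c'), c • w ∈ pp ω (fx W c') := by simpa [h6.eq] using cj hω c c'
  by_cases e : pp ω (fx W c) ⊓ pp ω (fx W c') = ⊥
  · exact .inr fun w hw => add_right_cancel ((e.le ⟨add_mem (h7 w hw) hw, hω.dl c' w⟩).trans (hω.two w).symm)
  obtain ⟨t, ht, t0⟩ := (AddSubgroup.bot_or_exists_ne_zero _).resolve_left e
  refine .inl (AddSubgroup.eq_of_le_of_card_ge (fun u hu => ?_) (by rw [pc4 hω h, pc4 hω h']))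
  have h9 : c • t ∈ pp ω (fx W c) := by simpa using cj hω c c t ht.1
  rcases four (pc4 hω h) hω.two ht.1 h9 t0 ((smul_ne_zero_iff_ne c).2 t0)
    (fun d => t0 ((hω.nd_fx (oddf hω hC hc)).le ⟨d.symm, ht.1⟩)) hu with rfl | rfl | rfl | rfl
  exacts [zero_mem _, ht.2, h8 t ht.2, add_mem ht.2 (h8 t ht.2)]

include hs

theorem W5a (h5 : ¬ 5 ∣ Nat.card H) (h : Nat.card W = 16) :
    Pl H ω 2 ∨ Nat.card H ≤ 6 ∧ {g : H | Q4 ω g}.ncard ≤ 3 := by
  have k1 : ∀ f ∈ F, (orderOf f).Prime → orderOf f = 3 := fun f hf a => by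
    obtain ⟨b, i, c, -, e⟩ := fxP hω hC hf a (n := 2) h
    by_contra d
    interval_cases i
    · exact h5 ((Nat.prime_dvd_prime_iff_eq a Nat.prime_five).1 (k2 a 0 1 5 e b d) ▸ orderOf_dvd_natCard f)
    · exact a.ne_one (Nat.dvd_one.1 (k2 a 2 1 1 e b d))
  obtain ⟨n, hn⟩ := pgF k1
  by_cases c : ∃ c ∈ F, Nat.card (fx W c) * 4 = Nat.card W
  · obtain ⟨c, hc, e⟩ := c
    have a := hω.nd_fx (oddf hω hC hc)
    refine .inl ⟨![pp ω (fx W c), fx W c], fun i => ?_, fun i j => ?_, fun w b => a.le ⟨hω.pp_pp (fx W c) ▸ b 0, b 1⟩,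
      fun g i => ?_⟩
    · fin_cases i
      exacts [⟨pc4 hω e, by simpa [hω.pp_pp, inf_comm] using a⟩, ⟨by simp; omega, a⟩]
    · fin_cases i <;> fin_cases j <;> simp [hω.pp_pp]
    have b : ∀ w ∈ fx W c, g • w ∈ fx W (g * c * g⁻¹) := fun w hw => by simp [mem_fx, mul_smul, mem_fx.1 hw]
    have d := cj hω g c
    have e' := (cjc hω g c ▸ e :)
    rcases orth hω hC hn (H1.fittingSubgroup_normal.conj_mem c hc g) hc e' e with f | f
    · rw [← hω.pp_pp (fx W (g * c * g⁻¹)), f, hω.pp_pp] at b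
      rw [f] at d
      fin_cases i
      exacts [⟨0, d⟩, ⟨1, b⟩]
    · replace f := AddSubgroup.eq_of_le_of_card_ge f (by rw [pc4 hω e']; omega)
      rw [← hω.pp_pp (fx W (g * c * g⁻¹)), f] at b
      rw [f] at d
      fin_cases i
      exacts [⟨1, d⟩, ⟨0, b⟩]
  obtain ⟨-, b, c⟩ := SR hω hs hC (fun f hf a => by
    obtain ⟨-, i, b, d, -⟩ := fxP hω hC hf a (n := 2) h
    interval_cases i
    · exact AddSubgroup.card_eq_one.1 d
    · exact (c ⟨f, hf, by omega⟩).elim) (by omega)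
  have d := jb3 hω hC
  rcases (Nat.dvd_prime Nat.prime_three).1 ((Nat.prime_five.coprime_iff_not_dvd.2 fun e =>
    h5 (e.trans (card_subgroup_dvd_card F))).symm.dvd_of_dvd_mul_right (show _ ∣ 3 * 5 by rwa [h] at b)) with e | e <;>
    rw [e] at c d
  · exact .inr ⟨by simp at c; omega, by simp at c; omega⟩
  · rw [show Nat.totient 3 = 2 by decide] at c; exact .inr ⟨c, by omega⟩

variable {n : ℕ} (h3 : Nat.card (fittingSubgroup H) = 3 ^ n) (h : Nat.card W = 64)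
include h3 h

theorem W5c {c c' : H} (hc : c ∈ F) (hc' : c' ∈ F) (e : Nat.card (fx W c) * 4 = Nat.card W)
    (e' : Nat.card (fx W c') * 4 = Nat.card W) (ne : pp ω (fx W c) ≠ pp ω (fx W c')) : Pl H ω 3 := by
  have o : ∀ c ∈ F, ∀ c' ∈ F, Nat.card (fx W c) * 4 = Nat.card W → Nat.card (fx W c') * 4 = Nat.card W →
      pp ω (fx W c) ≠ pp ω (fx W c') → pp ω (fx W c) ≤ pp ω (pp ω (fx W c')) := fun c a c' b d e f =>
    (hω.pp_pp _).symm ▸ (orth hω hC h3 a b d e).resolve_left f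
  have nd : ∀ c ∈ F, pp ω (fx W c) ⊓ pp ω (pp ω (fx W c)) = ⊥ := fun c a => by
    rw [hω.pp_pp, inf_comm, hω.nd_fx (oddf hω hC a)]
  have k : ∀ X Y : AddSubgroup W, Nat.card X = 4 → Nat.card Y = 4 → X ≤ pp ω Y → Y ⊓ pp ω Y = ⊥ →
      Nat.card (pp ω (X ⊔ Y)) = 4 := fun X Y a b c d => by
    have := hω.card_pp (X ⊔ Y)
    rw [csup (eq_bot_iff.2 fun w hw => d.le ⟨hw.2, c hw.1⟩), a, b, h] at this
    omega
  have k1 : ∀ X Y Z : AddSubgroup W, Z ≤ pp ω X → Z ≤ pp ω Y → Z ≤ pp ω (X ⊔ Y) := fun X Y Z a b =>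
    hω.le_pp (sup_le (hω.le_pp a) (hω.le_pp b))
  have o1 := o c hc c' hc' e e' ne
  let P := ![pp ω (fx W c), pp ω (fx W c'), pp ω (pp ω (fx W c) ⊔ pp ω (fx W c'))]
  have p0 : ∀ w ∈ pp ω (fx W c) ⊔ pp ω (fx W c'), w ∈ pp ω (pp ω (fx W c) ⊔ pp ω (fx W c')) → w = 0 := fun w a b => by
    obtain ⟨x, hx, y, hy, rfl⟩ := AddSubgroup.mem_sup.1 a
    have x0 : x = 0 := (nd c hc).le ⟨hx, fun u hu => by
      simpa [hω.le_pp o1 hy u hu] using b u (AddSubgroup.mem_sup_left hu)⟩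
    rw [x0, zero_add] at b ⊢
    exact (nd c' hc').le ⟨hy, fun u hu => b u (AddSubgroup.mem_sup_right hu)⟩
  have p1 : ∀ i, Nat.card (P i) = 4 ∧ P i ⊓ pp ω (P i) = ⊥ := fun i => by
    fin_cases i
    exacts [⟨pc4 hω e, nd c hc⟩, ⟨pc4 hω e', nd c' hc'⟩, ⟨k _ _ (pc4 hω e) (pc4 hω e') o1 (nd c' hc'),
      eq_bot_iff.2 fun w hw => p0 w ((hω.pp_pp _).le hw.2) hw.1⟩]
  have p2 : ∀ i j, i ≠ j → P i ≤ pp ω (P j) := fun i j => by
    have a : P 0 ≤ pp ω (P 2) := le_sup_left.trans (hω.pp_pp _).ge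
    have b : P 1 ≤ pp ω (P 2) := le_sup_right.trans (hω.pp_pp _).ge
    fin_cases i <;> fin_cases j <;> intro d
    exacts [(d rfl).elim, o1, a, hω.le_pp o1, (d rfl).elim, b, hω.le_pp a, hω.le_pp b, (d rfl).elim]
  have p3 : ∀ d ∈ F, Nat.card (fx W d) * 4 = Nat.card W → ∃ j, pp ω (fx W d) = P j := fun d a b => by
    by_contra! f
    exact f 2 (AddSubgroup.eq_of_le_of_card_ge (k1 _ _ _ (o d a c hc b e (f 0)) (o d a c' hc' b e' (f 1)))
      (by rw [(p1 2).1, pc4 hω b]))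
  refine ⟨P, p1, p2, fun w a => p0 w ((hω.pp_pp _).le (a 2)) (k1 _ _ (AddSubgroup.zmultiples w)
    (AddSubgroup.zmultiples_le.2 (a 0)) (AddSubgroup.zmultiples_le.2 (a 1)) (AddSubgroup.mem_zmultiples w)), fun g i => ?_⟩
  obtain ⟨j, hj⟩ := p3 _ (H1.fittingSubgroup_normal.conj_mem c hc g) (cjc hω g c ▸ e)
  obtain ⟨j', hj'⟩ := p3 _ (H1.fittingSubgroup_normal.conj_mem c' hc' g) (cjc hω g c' ▸ e')
  have q : ∀ c : H, ∀ w ∈ pp ω (fx W (g * c * g⁻¹)), g⁻¹ • w ∈ pp ω (fx W c) := fun c => by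
    simpa [mul_assoc] using cj hω g⁻¹ (g * c * g⁻¹)
  fin_cases i
  · exact ⟨j, hj ▸ cj hω g c⟩
  · exact ⟨j', hj' ▸ cj hω g c'⟩
  have jj : j ≠ j' := by
    rintro rfl
    exact ne (AddSubgroup.eq_of_le_of_card_ge (fun w hw => inv_smul_smul g w ▸ q c' _ (hj' ▸ hj ▸ cj hω g c w hw))
      (by rw [pc4 hω e, pc4 hω e']))
  obtain ⟨l, a, b⟩ : ∃ l : Fin 3, l ≠ j ∧ l ≠ j' :=
    (by decide : ∀ j j' : Fin 3, ∃ l : Fin 3, l ≠ j ∧ l ≠ j') j j'
  refine ⟨l, AddSubgroup.eq_of_le_of_card_ge (k1 _ _ _ (p2 l j a) (p2 l j' b)) (by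
    rw [(p1 l).1, k _ _ (p1 j).1 (p1 j').1 (p2 _ _ jj) (p1 j').2]) ▸ hω.ppinv fun x hx => ?_⟩
  obtain ⟨x, hx', y, hy, rfl⟩ := AddSubgroup.mem_sup.1 hx
  rw [smul_add]
  exact AddSubgroup.add_mem_sup (q c x (hj ▸ hx')) (q c' y (hj' ▸ hy))

theorem W5d {c : H} (hc : c ∈ F) (e : Nat.card (fx W c) * 4 = Nat.card W)
    (u : ∀ d ∈ F, Nat.card (fx W d) * 4 = Nat.card W → pp ω (fx W d) = pp ω (fx W c)) : Nat.card H ≤ 54 := by
  have hP : Inv H (pp ω (fx W c)) := fun g =>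
    u _ (H1.fittingSubgroup_normal.conj_mem c hc g) (cjc hω g c ▸ e) ▸ cj hω g c
  have hQ : Inv H (fx W c) := fun g => hω.pp_pp (fx W c) ▸ hω.ppinv (hP g⁻¹)
  have nd := hω.nd_fx (oddf hω hC hc)
  have : Nontrivial (pp ω (fx W c)) := Finite.one_lt_card_iff_nontrivial.1 (by rw [pc4 hω e]; norm_num)
  obtain ⟨⟨a, ha⟩, a0⟩ := exists_ne (0 : pp ω (fx W c))
  replace a0 : a ≠ 0 := fun e => a0 (Subtype.ext e)
  obtain ⟨h1, h2⟩ := nine h3 h (pc4 hω e) (fun f _ => hP f) ha a0 fun f hf f1 b => by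
    obtain ⟨i, c1, d⟩ := fxF hω hC hf f1 (n := 3) h
    interval_cases i
    · exact (a0 ((AddSubgroup.card_eq_one.1 d).le b)).elim
    · exact d
    · have := congrArg (pp ω) (u f hf (by omega))
      rw [hω.pp_pp, hω.pp_pp] at this
      exact (a0 (nd.le ⟨this ▸ b, ha⟩)).elim
  rcases (Nat.dvd_prime Nat.prime_three).1 h1 with h1 | h1
  · rw [h1] at h2
    have : n ≤ 1 := (Nat.pow_le_pow_iff_right (a := 3) (by norm_num)).1 (h3 ▸ h2)
    refine (cycF hs (isCyclic_of_card_dvd_prime (hp := ⟨Nat.prime_three⟩) (h3 ▸ pow_dvd_pow 3 this))).trans ?_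
    rw [h3]; interval_cases n <;> decide
  have h4 : stabilizer H a ⊓ F = fixingSubgroup H (pp ω (fx W c) : Set W) ⊓ F := le_antisymm (fun x hx => ⟨by
    have b := modfix Nat.prime_three (g := x) (congrArg Subtype.val (h1 ▸ pow_card_eq_one' (G := ↥(stabilizer H a ⊓ F)) (x := (⟨x, hx⟩ :
      ↥(stabilizer H a ⊓ F))))) (hP x)
    have d := AddSubgroup.card_le_of_le (inf_le_left : pp ω (fx W c) ⊓ fx W x ≤ _)
    have : Nontrivial ↥(pp ω (fx W c) ⊓ fx W x) := ⟨⟨⟨a, ha, hx.1⟩, 0, fun e => a0 (congrArg Subtype.val e)⟩⟩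
    have := Finite.one_lt_card (α := ↥(pp ω (fx W c) ⊓ fx W x))
    have := AddSubgroup.eq_of_le_of_card_ge (inf_le_left : pp ω (fx W c) ⊓ fx W x ≤ _) (by
      rw [pc4 hω e] at b d ⊢; unfold Nat.ModEq at b; omega)
    exact (mem_fixingSubgroup_iff H).2 fun w hw => (this.ge hw).2, hx.2⟩)
    fun x hx => ⟨(mem_fixingSubgroup_iff H).1 hx.1 a ha, hx.2⟩
  rw [h1] at h2
  rw [h4] at h1
  have h5 : Nat.card ↥(fixingSubgroup H (fx W c : Set W) ⊓ F) = 3 := by
    have := burn (W := W) (d := 16) (fixingSubgroup H (fx W c : Set W) ⊓ F) fun f hf f1 => by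
      obtain ⟨i, c1, d⟩ := fxF hω hC hf.2 f1 (n := 3) h
      have := AddSubgroup.card_le_of_le (show fx W c ≤ fx W f from (mem_fixingSubgroup_iff H).1 hf.1)
      interval_cases i <;> omega
    refine ((Nat.dvd_prime Nat.prime_three).1 (hb (m := 1) (t := 1) Nat.prime_three (by
      rw [mul_one, ← h3]; exact card_dvd_of_le inf_le_right) ((Nat.modEq_iff_dvd' (by omega)).1 this.symm)
        (by simp [h]))).resolve_left fun d => ?_
    have : c = 1 := (card_eq_one.1 d).le ⟨(mem_fixingSubgroup_iff H).2 fun _ a => a, hc⟩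
    rw [this, show fx W (1 : H) = ⊤ from (AddSubgroup.eq_top_iff' _).2 fun w => one_smul H w, AddSubgroup.card_top] at e
    omega
  have := normfix hP
  have := normfix hQ
  have h6 : fixingSubgroup H (pp ω (fx W c) : Set W) ⊓ F ⊓ (fixingSubgroup H (fx W c : Set W) ⊓ F) = ⊥ :=
    eq_bot_iff.2 fun x hx => fix_all hω nd ((mem_fixingSubgroup_iff H).1 hx.2.1) ((mem_fixingSubgroup_iff H).1 hx.1.1)
  have h7 := relIndex_centralizer_dvd_of_card_prime Nat.prime_three h1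
  have h8 := relIndex_centralizer_dvd_of_card_prime Nat.prime_three h5
  rw [normalizer_eq_top, relIndex_top_right] at h7 h8
  have h9 : fixingSubgroup H (pp ω (fx W c) : Set W) ⊓ F ⊔ fixingSubgroup H (fx W c : Set W) ⊓ F = F :=
    eq_of_le_of_card_ge (sup_le inf_le_right inf_le_right) (by
      rwa [← relIndex_bot_left (_ ⊔ _), ← relIndex_mul_relIndex ⊥ _ _ bot_le le_sup_left, relIndex_sup_left,
        ← inf_relIndex_right (_ ⊓ _), h6, relIndex_bot_left, relIndex_bot_left, h1, h5])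
  generalize fixingSubgroup H (pp ω (fx W c) : Set W) ⊓ F = X, fixingSubgroup H (fx W c : Set W) ⊓ F = Y at *
  have a1 : centralizer (X : Set H) ⊓ centralizer (Y : Set H) ≤ F := le_trans (le_centralizer_iff.1 (h9.ge.trans
    (sup_le (le_centralizer_iff.1 inf_le_left) (le_centralizer_iff.1 inf_le_right)))) (H1.centralizer_fittingSubgroup_le hs)
  have a2 := (index_antitone a1).trans (index_inf_le.trans
    (Nat.mul_le_mul (Nat.le_of_dvd two_pos h7) (Nat.le_of_dvd two_pos h8)))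
  rw [← (F).index_mul_card]
  exact (Nat.mul_le_mul a2 h2).trans (by norm_num)

omit hs h3 in
theorem uniqz (u : ∀ d ∈ F, Nat.card (fx W d) ≠ 16) {z y : H} (hz : z ∈ F) (hy : y ∈ F) (c : Commute z y)
    (z3 : z ^ 3 = 1) (y3 : y ^ 3 = 1) (z0 : fx W z = ⊥) (y0 : fx W y = ⊥) : y ∈ zpowers z := by
  have k : ∀ z : H, z ^ 3 = 1 → fx W z = ⊥ → ∀ w : W, z • z • w = z • w + w := fun z a b w => by
    have : z • z • w + (z • w + w) = 0 := b.le (by
      rw [mem_fx, smul_add, smul_add, smul_smul, smul_smul, ← pow_three', a, one_smul, smul_smul]; abel)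
    exact add_right_cancel (this.trans (hω.two _).symm)
  have k1 : ∀ d ∈ F, d ≠ 1 → Nat.card (fx W d) ≤ 4 := fun d a b => by
    obtain ⟨i, c1, e⟩ := fxF hω hC a b (n := 3) h
    have := u d a
    interval_cases i <;> omega
  by_contra e
  let φ : W →+ W := DistribSMul.toAddMonoidHom W y + DistribSMul.toAddMonoidHom W z
  have a : φ.ker ≤ fx W (z⁻¹ * y) := fun w hw => by
    rw [mem_fx, mul_smul, inv_smul_eq_iff]; exact add_right_cancel (hw.trans (hω.two _).symm)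
  have b : φ.range ≤ fx W (z * y) := by
    rintro _ ⟨w, rfl⟩
    change (z * y) • (y • w + z • w) = y • w + z • w
    rw [smul_add, mul_smul, k y y3 y0, c.eq, mul_smul, k z z3 z0, smul_add, smul_add, smul_smul y, ← c.eq, mul_smul]
    linear_combination (norm := abel) hω.two (z • y • w)
  have a1 := (AddSubgroup.card_le_of_le a).trans (k1 _ (mul_mem (inv_mem hz) hy) fun d =>
    e (inv_mul_eq_one.1 d ▸ mem_zpowers z))
  have b1 := (AddSubgroup.card_le_of_le b).trans (k1 _ (mul_mem hz hy) fun d =>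
    e (eq_inv_of_mul_eq_one_right d ▸ inv_mem (mem_zpowers z)))
  have := φ.ker.index_mul_card
  rw [AddSubgroup.index_ker, h] at this
  nlinarith

theorem W5e (u : ∀ d ∈ F, Nat.card (fx W d) ≠ 16) :
    Nat.card H ≤ 54 ∨ Nat.card H ≤ 2592 ∧ {g : H | Q4 ω g}.ncard ≤ 21 := by
  have := Fact.mk Nat.prime_three
  have k1 : ∀ d ∈ F, d ≠ 1 → fx W d ≠ ⊥ → Nat.card (fx W d) = 4 := fun d a b c => by
    obtain ⟨i, c1, e⟩ := fxF hω hC a b (n := 3) h
    interval_cases i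
    exacts [(c (AddSubgroup.card_eq_one.1 e)).elim, e, (u d a e).elim]
  have k2 : ∀ z ∈ F, (∀ f ∈ F, Commute z f) → z ≠ 1 → fx W z ≠ ⊥ → n ≤ 2 := fun z a b c d => by
    obtain ⟨x, hx, x0⟩ := (AddSubgroup.bot_or_exists_ne_zero _).resolve_left d
    obtain ⟨h1, h2⟩ := nine h3 h (k1 z a c d) (fun f hf w hw => by
      rw [mem_fx, smul_smul, (b f hf).eq, mul_smul, mem_fx.1 hw]) hx x0 fun f hf f1 e =>
        k1 f hf f1 fun e' => x0 (e'.le e)
    have := Nat.le_of_dvd three_pos h1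
    exact (Nat.pow_le_pow_iff_right (a := 3) (by norm_num)).1 (by omega)
  by_cases c : ∃ z ∈ F, (∀ f ∈ F, Commute z f) ∧ z ^ 3 = 1 ∧ fx W z = ⊥
  · obtain ⟨z, a, b, c, d⟩ := c
    have : (zpowers z).Normal := ⟨fun y hy g => by
      obtain ⟨k, rfl⟩ := hy
      rw [← conj_zpow]
      have e := H1.fittingSubgroup_normal.conj_mem z a g
      exact zpow_mem (uniqz hω hC h u a e (b _ e) c (by rw [conj_pow, c]; simp) d (AddSubgroup.card_eq_one.1 (by
        rw [cjc hω, d, AddSubgroup.card_bot]))) k⟩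
    refine .inr ⟨?_, hω.jb2 h c d⟩
    obtain ⟨r, s, e1, e2⟩ := autP (IsPGroup.of_card h3)
    have e3 := card_dvd_gl hC Nat.prime_two (k := 6) h
    have e0 : n ≤ 4 := by
      by_contra! e
      exact absurd ((pow_dvd_pow 3 e).trans (h3 ▸ (card_subgroup_dvd_card _).trans e3)) (by decide +kernel)
    have e4 : r ≤ 3 := by
      by_contra! e
      have e5 := (frattini F).index_mul_card
      have e6 := Nat.card_pos (α := frattini F)
      rw [e1, h3] at e5
      have e7 : 3 ^ 4 ≤ 3 ^ r := Nat.pow_le_pow_right three_pos e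
      have e8 : 3 ^ n ≤ 3 ^ 4 := Nat.pow_le_pow_right three_pos e0
      obtain ⟨_, e9⟩ := (H1.frattini_eq_bot_iff (IsPGroup.of_card h3)).1 (card_eq_one.1 (by nlinarith))
      obtain ⟨y, hy, y1⟩ := SetLike.not_le_iff_exists.1 fun e : F ≤ zpowers z => by
        have := card_le_of_le e
        rw [Nat.card_zpowers, h3] at this
        have := orderOf_le_of_pow_eq_one three_pos c
        nlinarith
      have e10 : ∀ f ∈ F, Commute y f := fun f hf => congrArg Subtype.val (mul_comm' (⟨y, hy⟩ : F) ⟨f, hf⟩)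
      have := k2 y hy e10 (by rintro rfl; exact y1 (one_mem _)) fun d' =>
        y1 (uniqz hω hC h u a hy (b y hy) c (congrArg Subtype.val (e9 ⟨y, hy⟩)) d d')
      have : 3 ^ n ≤ 3 ^ 2 := Nat.pow_le_pow_right three_pos this
      nlinarith
    have e5 : Nat.card H ∣ 3 ^ (n + s + 3) * 32 * 13 := (autF hs).trans (by
      rw [h3, pow_add, pow_add, mul_assoc, mul_assoc, mul_assoc]
      exact Nat.mul_dvd_mul_left _ (e2.trans (Nat.mul_dvd_mul_left _ (by interval_cases r <;> decide +kernel))))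
    exact Nat.le_of_dvd (by norm_num) (hb (t := 4) Nat.prime_three
      ((Nat.Coprime.coprime_dvd_left e3 (by decide +kernel)).dvd_of_dvd_mul_right e5) e3 (by decide +kernel))
  left
  have k3 : n ≤ 2 := by
    by_contra! e
    have : Nontrivial F := Finite.one_lt_card_iff_nontrivial.1 (h3 ▸ Nat.one_lt_pow (by omega) (by norm_num))
    have := (IsPGroup.of_card h3).center_nontrivial
    obtain ⟨j, j0, hj⟩ := ((IsPGroup.of_card h3).to_subgroup (center F)).nontrivial_iff_card.1 this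
    obtain ⟨z, hz⟩ := exists_prime_orderOf_dvd_card' (G := center F) 3 (hj ▸ dvd_pow_self 3 j0.ne')
    have a : ∀ f ∈ F, Commute z.1.1 f := fun f hf => (congrArg Subtype.val (mem_center_iff.1 z.2 ⟨f, hf⟩)).symm
    rw [← orderOf_coe, ← orderOf_coe] at hz
    exact e.not_ge (k2 _ z.1.2 a (fun e => by simp [e] at hz) fun d => c ⟨_, z.1.2, a, hz ▸ pow_orderOf_eq_one _, d⟩)
  by_cases d : IsCyclic F
  · refine (cycF hs d).trans ?_
    rw [h3]; interval_cases n <;> decide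
  have k4 : n = 2 := k3.antisymm (by
    by_contra! e; exact d (isCyclic_of_card_dvd_prime (p := 3) (h3 ▸ pow_dvd_pow 3 (Nat.le_of_lt_succ e))))
  rw [k4] at h3
  have := burn (W := W) F fun f hf f1 => k1 f hf f1 fun e => c ⟨f, hf, fun y hy =>
    congrArg Subtype.val (com9 h3.dvd (⟨f, hf⟩ : F) ⟨y, hy⟩), by
      by_contra e'
      obtain ⟨i, a, b⟩ := (Nat.dvd_prime_pow Nat.prime_three).1 (h3 ▸ orderOf_dvd_natCard (⟨f, hf⟩ : F))
      refine d (isCyclic_of_orderOf_eq_card ⟨f, hf⟩ ?_)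
      rw [b, h3, a.antisymm (by
        by_contra! e; exact e' (orderOf_dvd_iff_pow_eq_one.1 (by
          rw [← orderOf_mk f hf, b]; exact pow_dvd_pow 3 (Nat.le_of_lt_succ e))))], e⟩
  rw [h, h3] at this
  exact absurd this (by decide)

omit h3 in
theorem W5b (h5 : ¬ 5 ∣ Nat.card H) : Pl H ω 3 ∨ 128 * Nat.card H + 2500 * {g : H | Q4 ω g}.ncard < 390000 := by
  have k1 : ∀ f ∈ F, (orderOf f).Prime → orderOf f = 3 ∨ orderOf f = 7 ∧ fx W f = ⊥ := fun f hf a => by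
    obtain ⟨b, i, c, d, e⟩ := fxP hω hC hf a (n := 3) h
    refine or_iff_not_imp_left.2 fun g => ?_
    interval_cases i
    · exact ⟨(Nat.prime_dvd_prime_iff_eq a (by norm_num)).1 (k2 a 0 2 7 e b g), AddSubgroup.card_eq_one.1 d⟩
    · exact (h5 ((Nat.prime_dvd_prime_iff_eq a Nat.prime_five).1 (k2 a 2 1 5 e b g) ▸ orderOf_dvd_natCard f)).elim
    · exact (a.ne_one (Nat.dvd_one.1 (k2 a 4 1 1 e b g))).elim
  by_cases c : ∃ z ∈ F, orderOf z = 7
  · obtain ⟨z, hz, z1⟩ := c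
    have z2 : (orderOf z).Prime := by rw [z1]; norm_num
    obtain ⟨a, b, c⟩ := SR hω hs hC (fun f hf a => by
      rcases k1 f hf a with b | b
      · have := comF hf hz a z2 (by omega) ((k1 z hz z2).resolve_left (by omega)).2
        obtain ⟨-, i, c, d, -⟩ := fxP hω hC hf a (n := 3) h
        rw [d, z1] at this
        interval_cases i
        exacts [AddSubgroup.card_eq_one.1 d, absurd this (by decide), absurd this (by decide)]
      · exact b.2) (by omega)
    rw [show {g : H | Q4 ω g} = ∅ from Set.eq_empty_of_forall_notMem (a (.inl (by omega))), Set.ncard_empty]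
    suffices Nat.card H ≤ 2268 from .inr (by omega)
    refine c.trans ?_
    have d := Nat.mem_divisors.2 ⟨show Nat.card F ∣ 63 by rwa [h] at b, by norm_num⟩
    generalize Nat.card F = n at d ⊢
    revert n; decide +kernel
  obtain ⟨n, hn⟩ := pgF fun f hf a => (k1 f hf a).resolve_right fun d => c ⟨f, hf, d.1⟩
  have j := jb3 hω hC
  by_cases d : ∃ c ∈ F, Nat.card (fx W c) * 4 = Nat.card W
  · obtain ⟨c, hc, e⟩ := d
    by_cases u : ∀ d ∈ F, Nat.card (fx W d) * 4 = Nat.card W → pp ω (fx W d) = pp ω (fx W c)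
    · have := W5d hω hs hC hn h hc e u
      exact .inr (by omega)
    · push Not at u
      obtain ⟨d, a, b, u⟩ := u
      exact .inl (W5c hω hs hC hn h a hc b e u)
  · have := W5e hω hs hC hn h fun c hc e => d ⟨c, hc, by omega⟩
    exact .inr (by omega)

end Cfsg.Agent.H26.DB
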