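import Mathlib
import Cfsg.Agent.H26.DB10

/-! Coprime bases of size two, XI: permuted planes; passing to the symplectic module. -/

set_option autoImplicit false
set_option linter.unusedSectionVars false

namespace Cfsg.Agent.H26.DB

open Subgroup MulAction BT Module
open scoped Pointwise commutatorElement

universe u

theorem T1 {H W : Type u} [Group H] [Finite H] [AddCommGroup W] [Finite W] [Nontrivial W] [DistribMulAction H W]
    [FaithfulSMul H W] (hs : Group.IsSolvable H) (hC : CR H W) : 5 * Nat.card H ≤ Nat.card W ^ 3 := by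
  obtain ⟨x, hx⟩ := H1.Bs.solFam.final (A := H) (V := W) (fun G _ f hf => solvable_of_surjective hf) hC
  let φ : H →* MulAut (Multiplicative W) :=
    { toFun := fun a => AddEquiv.toMultiplicative (DistribMulAction.toAddEquiv W a)
      map_one' := by ext v; exact one_smul H v.toAdd
      map_mul' := fun a b => by ext v; exact mul_smul a b v.toAdd }
  obtain ⟨d, h1, h2⟩ := H1.Bs.solMultL φ hs x fun g hg v => by rw [hx g hg, map_one]; rfl
  calc _ = Nat.card (Fin 5 × H) := by simp
    _ ≤ Nat.card (Fin 3 → Multiplicative W) := Nat.card_le_card_of_injective (fun y j => φ y.2 (d y.1 j)) fun y z e => by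
      have k : ∀ j, φ (z.2⁻¹ * y.2) (d y.1 j) = d z.1 j := fun j => by
        rw [H1.Bs.ap_mul, show φ y.2 (d y.1 j) = φ z.2 (d z.1 j) from congrFun e j, ← H1.Bs.ap_mul, inv_mul_cancel, map_one]; rfl
      have a := h2 _ _ _ k
      exact Prod.ext a (inv_mul_eq_one.1 (eq_of_smul_eq_smul fun v : W =>
        (h1 _ _ (fun j => (k j).trans (a ▸ rfl)) v).trans (one_smul H v).symm)).symm
    _ = _ := by simp [Nat.card_fun]; rfl

instance {G W : Type*} [Group G] [AddCommGroup W] [DistribMulAction G W] : (kr G W).Normal := MonoidHom.normal_ker _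

theorem pack (G W : Type*) [Group G] [AddCommGroup W] [DistribMulAction G W] :
    ∃ (_ : DistribMulAction (G ⧸ kr G W) W) (_ : FaithfulSMul (G ⧸ kr G W) W),
      ∀ (g : G) (w : W), (g : G ⧸ kr G W) • w = g • w :=
  letI : DistribMulAction (G ⧸ kr G W) W := DistribMulAction.compHom W (QuotientGroup.kerLift (DistribMulAction.toModuleAut ℤ W : G →* _))
  ⟨this, ⟨fun e => QuotientGroup.kerLift_injective _ (LinearEquiv.ext e)⟩, fun _ _ => rfl⟩

variable {G V K : Type u} [Group G] [Finite G] [AddCommGroup V] [Finite V] [Nontrivial V]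
  [DistribMulAction G V] [FaithfulSMul G V] [Field K] [Module K V] {A L : Subgroup G} [A.Normal] {ι : G → K}

local notation "C" X => Subgroup.centralizer (X : Set G)

variable (h : PD V A ι)
include h

theorem nP (h4 : ∀ a ∈ A, a ^ 4 = 1) (hA : ∀ g, g ∈ C A) : {g : G | (orderOf g).Prime}.ncard ≤ 2 * A.index := by
  classical
  have := Fintype.ofFinite G
  rw [Set.ncard_eq_toFinset_card']
  refine (Finset.card_le_mul_card_image (f := ((↑) : G → G ⧸ A)) _ 2 fun a ha => ?_).trans (Nat.mul_le_mul_left _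
    ((Finset.card_le_univ _).trans_eq Nat.card_eq_fintype_card.symm))
  obtain ⟨g, hg, rfl⟩ := Finset.mem_image.1 ha
  have k : ∀ s ∈ Finset.filter (fun x : G => (x : G ⧸ A) = g) {g : G | (orderOf g).Prime}.toFinset,
      g⁻¹ * s ∈ A ∧ (orderOf s).Prime := fun s hs => by
    simp only [Finset.mem_filter, Set.mem_toFinset] at hs
    exact ⟨QuotientGroup.eq.1 hs.2.symm, hs.1⟩
  rw [Set.mem_toFinset] at hg
  have k1 : ∀ x ∈ A, ∀ s : ℕ, s.Prime → x ^ s = 1 → x ^ 2 = 1 := fun x hx s a b => by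
    rcases eq_or_ne s 2 with rfl | c
    · exact b
    · rw [mem_bot.1 (mem_cop (((Nat.coprime_primes a Nat.prime_two).2 c).pow_right 2) b (h4 x hx)), one_pow]
  refine (Finset.card_le_card_of_injOn (t := {1, -1}) (fun s => ι (g⁻¹ * s)) (fun s hs => ?_) fun s hs t ht e =>
    mul_left_cancel (h.inj (k s hs).1 (k t ht).1 e)).trans Finset.card_le_two
  obtain ⟨a, b⟩ := k s hs
  have c : (g⁻¹ * s) ^ 2 = 1 := by
    have d : g ^ orderOf s * (g⁻¹ * s) ^ orderOf s = 1 := by
      rw [← (show Commute g (g⁻¹ * s) from (hA g _ a).symm).mul_pow, mul_inv_cancel_left, pow_orderOf_eq_one]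
    by_cases e : orderOf g = orderOf s
    · exact k1 _ a _ b (by rwa [← e, pow_orderOf_eq_one, one_mul, e] at d)
    have f : g ∈ A := mem_cop ((Nat.coprime_primes hg b).2 e) (by rw [pow_orderOf_eq_one]; exact one_mem _)
      ((mul_mem_cancel_right (pow_mem a _)).1 (d ▸ one_mem _))
    have f' : s ∈ A := (mul_mem_cancel_left (inv_mem f)).1 a
    exact (e (((Nat.prime_dvd_prime_iff_eq hg Nat.prime_two).1 (orderOf_dvd_of_pow_eq_one (k1 g f _ hg
      (pow_orderOf_eq_one g)))).trans ((Nat.prime_dvd_prime_iff_eq b Nat.prime_two).1 (orderOf_dvd_of_pow_eq_one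
        (k1 s f' _ b (pow_orderOf_eq_one s)))).symm)).elim
  simpa using mul_self_eq_one_iff.1 (show ι (g⁻¹ * s) * ι (g⁻¹ * s) = 1 by rw [← sq, ← ipow h a, c, h.one])

variable [L.Normal] (hL : LD A L) {W : Type u} [AddCommGroup W] [Finite W] [DistribMulAction G W]
  {p : G → W} (hp : Sec A L W p) (h2 : ∀ l ∈ L, l ^ 2 ∈ A)
include hL hp h2

theorem exω : ∃ ω : W →+ W →+ ZMod 2, SP G ω ∧ ∀ x ∈ L, ∀ y ∈ L, (ω (p x) (p y) = 0 ↔ Commute x y) := by
  classical
  choose s s1 s2 using hp.surj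
  have k0 : ∀ x ∈ L, ∀ y ∈ L, ∀ y' ∈ L, p y = p y' → Commute x y → Commute x y' := fun x a y b y' c d e => by
    simpa using e.mul_right (cmA hL ((hp.ker _ (mul_mem (inv_mem b) c)).1 (by
      rw [hp.add _ (inv_mem b) _ c, hp.inv b, d, neg_add_cancel])) a).symm
  have k1 : ∀ x ∈ L, ∀ y ∈ L, (Commute (s (p x)) (s (p y)) ↔ Commute x y) := fun x a y b =>
    ⟨fun e => (k0 _ b _ (s1 _) _ a (s2 _) (k0 _ (s1 _) _ (s1 _) _ b (s2 _) e).symm).symm,
      fun e => (k0 _ (s1 _) _ a _ (s1 _) (s2 _).symm (k0 _ a _ b _ (s1 _) (s2 _).symm e).symm).symm⟩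
  let o : W → W → ZMod 2 := fun a b => if Commute (s a) (s b) then 0 else 1
  have o1 : ∀ a b, o a b = o b a := fun a b => if_congr (Commute.symm_iff) rfl rfl
  have o2 : ∀ a b c, o a (b + c) = o a b + o a c := fun a b c => by
    have e := k1 _ (s1 a) _ (mul_mem (s1 b) (s1 c))
    rw [hp.add _ (s1 b) _ (s1 c), s2, s2, s2] at e
    simp only [o, e]
    by_cases d : Commute (s a) (s b) <;> by_cases d' : Commute (s a) (s c)
    · simp [d, d', d.mul_right d']
    · rw [if_pos d, if_neg d', if_neg fun f => d' (by simpa using d.inv_right.mul_right f), zero_add]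
    · rw [if_neg d, if_pos d', if_neg fun f => d (by simpa using f.mul_right d'.inv_right), add_zero]
    · have k : ∀ y ∈ L, ¬ Commute (s a) y → ∀ v : V, s a • y • v = -(y • s a • v) := fun y hy f v => by
        rw [← neg2 h (hL.com _ (s1 a) y hy) (fun e => f (commutatorElement_eq_one_iff_commute.1 e))
          (cpw hL (s1 a) hy (h2 _ (s1 a)))]
        simp [commutatorElement_def, smul_smul]
      rw [if_neg d, if_neg d', if_pos (show Commute _ _ from eq_of_smul_eq_smul fun v : V => by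
        simp [mul_smul, k _ (s1 b) d, k _ (s1 c) d'])]
      rfl
  have o3 : ∀ x ∈ L, ∀ y ∈ L, (o (p x) (p y) = 0 ↔ Commute x y) := fun x a y b => by simp [o, k1 x a y b]
  refine ⟨AddMonoidHom.mk' (fun a => AddMonoidHom.mk' (o a) (o2 a)) fun a b => AddMonoidHom.ext fun c => by
    simp [o1 _ c, o2], ⟨fun w => if_pos (Commute.refl _), fun g a b => ?_, fun a H => ?_⟩, o3⟩
  · refine if_congr ?_ rfl rfl
    rw [← s2 a, ← s2 b, ← hp.conj g _ (s1 a), ← hp.conj g _ (s1 b), k1 _ (‹L.Normal›.conj_mem _ (s1 a) g) _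
      (‹L.Normal›.conj_mem _ (s1 b) g), s2, s2]
    exact Commute.conj_iff g
  · rw [← s2 a, hp.ker _ (s1 a)]
    exact (h.nd hL.le hL.cen).le ⟨fun l hl => ((o3 _ (s1 a) l hl).1 (by rw [s2]; exact H _)).eq.symm, s1 a⟩

variable {ω : W →+ W →+ ZMod 2} (hω : SP G ω) (ho : ∀ x ∈ L, ∀ y ∈ L, (ω (p x) (p y) = 0 ↔ Commute x y))
include hω ho

theorem toQ4 {g : G} (hg : P4 V A L g) : Q4 ω g := by
  refine ⟨fun w => by rw [smul_smul, ti4 h hL hg.1 hg.2.1, one_smul], fun w => ?_, ?_⟩
  · obtain ⟨l, hl, rfl⟩ := hp.surj w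
    rw [← hp.conj g l hl, ho l hl _ (‹L.Normal›.conj_mem l hl g)]
    simpa [commutatorElement_def] using (ti5 h hL hg.1 hg.2.1 hl).2.mul_right (Commute.refl l)
  · let φ : L →* Multiplicative W := ⟨⟨fun x => .ofAdd (p x), hp.one⟩, fun x y => hp.add _ x.2 _ y.2⟩
    rw [← AddSubgroup.index_toSubgroup, ← index_comap_of_surjective _ (f := φ) fun w =>
      let ⟨x, a, b⟩ := hp.surj w; ⟨⟨x, a⟩, b⟩, ← hg.2.2]
    congr 1; ext l
    refine (hp.fix g l.2).trans ⟨fun e => ?_, fun e => ?_⟩
    · rintro _ rfl; exact commutatorElement_eq_one_iff_mul_comm.1 (lg1 h hg.1 e)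
    · rw [show ⁅g, l.1⁆ = 1 from commutatorElement_eq_one_iff_mul_comm.2 (e g rfl)]; exact one_mem _

theorem planes {r : ℕ} (hr : r.Prime) (r2 : r ≠ 2) (hV : ∀ v : V, r • v = 0) (hA : ∀ g, g ∈ C A) {I : K}
    (hI : I * I = -1) {k : ℕ} (hk : k = 2 ∨ k = 3) (hP : Pl G ω k) : Bs G V := by
  classical
  obtain ⟨P, p1, p2, p3, p4⟩ := hP
  have t2 : ∀ v : V, -v = v → v = 0 := fun v e => canc hr (n := 2)
    (fun d => r2 ((Nat.prime_dvd_prime_iff_eq hr Nat.prime_two).1 d)) hV (by
      rw [two_smul, smul_zero, ← eq_neg_iff_add_eq_zero, e])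
  have an : ∀ x ∈ L, ∀ y ∈ L, ¬ Commute x y → ∀ v : V, x • y • v = -(y • x • v) := fun x hx y hy f v => by
    rw [← neg2 h (hL.com _ hx y hy) (fun e => f (commutatorElement_eq_one_iff_commute.1 e)) (cpw hL hx hy (h2 _ hx))]
    simp [commutatorElement_def, smul_smul]
  have lin : ∀ (g : G) (c : K) (v : V), g • c • v = c • g • v := fun g => h.lin g (hA g)
  have k0 : ∀ i, ∃ z ∈ L, ∃ f ∈ L, ∃ c : K, p z ∈ P i ∧ p f ∈ P i ∧ ¬ Commute z f ∧ ∀ v : V, c • z • c • z • v = v :=
    fun i => by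
    have : Nontrivial (P i) := Finite.one_lt_card_iff_nontrivial.1 (by rw [(p1 i).1]; norm_num)
    obtain ⟨⟨a, ha⟩, a0⟩ := exists_ne (0 : P i)
    obtain ⟨b, hb, e⟩ : ∃ b ∈ P i, ω b a ≠ 0 := by
      by_contra! d; exact a0 (Subtype.ext ((p1 i).2.le ⟨ha, d⟩))
    obtain ⟨l, hl, rfl⟩ := hp.surj a
    obtain ⟨f, hf, rfl⟩ := hp.surj b
    obtain ⟨a, c, d⟩ := lemN' h hL hp hl (h2 l hl)
    have e1 := mul_mem hl (inv_mem (hL.le c))
    have e2 : p (l * a⁻¹) = p l := by rw [hp.add _ hl _ (inv_mem (hL.le c)), (hp.ker _ (inv_mem (hL.le c))).2 (inv_mem c), add_zero]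
    rw [← e2] at ha e
    rw [pow_mul] at d
    generalize l * a⁻¹ = z at *
    have e3 : ¬ Commute z f := fun d => e ((ho f hf z e1).2 d.symm)
    by_cases d' : z ^ 2 = 1
    · exact ⟨z, e1, f, hf, 1, ha, hb, e3, fun v => by rw [one_smul, one_smul, smul_smul, ← sq, d', one_smul]⟩
    · exact ⟨z, e1, f, hf, I, ha, hb, e3, fun v => by
        rw [lin, smul_smul z, ← sq, neg2 h (h2 z e1) d' d, smul_smul, hI, neg_one_smul, neg_neg]⟩
  choose z zL f fL c zP fP zf zz using k0
  have cm : ∀ i j, i ≠ j → ∀ x ∈ L, ∀ y ∈ L, p x ∈ P i → p y ∈ P j → ∀ v : V, x • y • v = y • x • v :=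
    fun i j e x a y b c d v => by rw [smul_smul, smul_smul, ((ho y b x a).1 (p2 i j e c _ d)).eq]
  obtain ⟨x, x0, hx⟩ : ∃ x : V, x ≠ 0 ∧ ∀ i ∈ Finset.univ, c i • z i • x = x := by
    induction (Finset.univ : Finset (Fin k)) using Finset.induction_on with
    | empty => simpa using exists_ne (0 : V)
    | insert a s ha ih =>
      obtain ⟨x, x0, hx⟩ := ih
      simp only [Finset.forall_mem_insert]
      by_cases e : x + c a • z a • x = 0
      · refine ⟨f a • x, (smul_ne_zero_iff_ne _).2 x0, ?_, fun i hi => ?_⟩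
        · rw [an _ (zL a) _ (fL a) (zf a), smul_neg, ← lin, ← smul_neg, eq_neg_of_add_eq_zero_left e]
          simp [← eq_neg_of_add_eq_zero_left e]
        · rw [cm i a (by rintro rfl; exact ha hi) _ (zL i) _ (fL a) (zP i) (fP a), ← lin, hx i hi]
      · refine ⟨_, e, by rw [smul_add, smul_add, zz, add_comm], fun i hi => ?_⟩
        rw [smul_add, smul_add, hx i hi, lin, smul_comm (c i), cm i a (by rintro rfl; exact ha hi) _ (zL i) _ (zL a)
          (zP i) (zP a), ← lin (z a), hx i hi]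
  replace hx := fun i => hx i (Finset.mem_univ i)
  have c0 : ∀ i, c i ≠ 0 := fun i e => x0 (by simpa [e] using (hx i).symm)
  have p5 : ∀ i, ∀ w ∈ P i, w = 0 ∨ w = p (z i) ∨ w = p (f i) ∨ w = p (z i) + p (f i) := fun i w =>
    have := mt (ho _ (zL i) _ (fL i)).1 (zf i)
    four (p1 i).1 hω.two (zP i) (fP i) (fun e => by simp [e] at this) (fun e => by simp [e] at this)
      fun e => by simp [e, hω.alt] at this
  have E : ∀ j, ∀ l ∈ L, p l ∈ P j → ∀ μ : K, μ • l • x = x → l ∈ A ∨ ∀ v : V, μ • l • v = c j • z j • v :=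
    fun j l hl a μ b => by
    have d : ω (p (z j)) (p l) = 0 := (ho _ (zL j) l hl).2 (by_contra fun d => x0 (t2 _ (by
      have := congrArg (fun y => μ • c j • y) (an _ (zL j) l hl d x)
      simp only [smul_neg] at this
      rw [← lin l, hx, b, smul_comm, ← lin (z j), b, hx] at this
      exact this.symm)))
    have d' := mt (ho _ (zL j) _ (fL j)).1 (zf j)
    rcases p5 j _ a with e | e | e | e
    · exact .inl ((hp.ker l hl).1 e)
    · have e1 : l * (z j)⁻¹ ∈ A := (hp.ker _ (mul_mem hl (inv_mem (zL j)))).1 (by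
        rw [hp.add _ hl _ (inv_mem (zL j)), hp.inv (zL j), e, add_neg_cancel])
      have e2 : ∀ v : V, μ • l • v = (μ * ι (l * (z j)⁻¹)) • z j • v := fun v => by
        rw [mul_smul, ← h.act _ e1, mul_smul, inv_smul_smul]
      refine .inr fun v => ?_
      rw [e2, smul_left_injective K ((smul_ne_zero_iff_ne (z j)).2 x0) ((e2 x).symm.trans (b.trans (hx j).symm))]
    · exact (d' (e ▸ d)).elim
    · exact (d' (by simpa [e, hω.alt] using d)).elim
  let T : ℕ → G := fun n => Nat.rec 1 (fun n t => t * if h : n < k then f ⟨n, h⟩ else 1) n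
  have T1 : ∀ i : Fin k, T (i + 1) = T i * f i := fun i => by simp [T]
  have sg : ∀ (i : Fin k) n, n ≤ k → ∀ v : V, z i • T n • v = (if (i : ℕ) < n then -1 else 1 : ℤ) • T n • z i • v :=
    fun i n => by
    induction n with
    | zero => simp [T]
    | succ n ih =>
      intro a v
      rw [T1 ⟨n, a⟩, mul_smul, mul_smul, ih (by omega)]
      rcases eq_or_ne i ⟨n, a⟩ with rfl | e
      · simp [an _ (zL _) _ (fL _) (zf _)]
      · rw [cm i _ e _ (zL i) _ (fL _) (zP i) (fP _), if_congr (show (i : ℕ) < n ↔ (i : ℕ) < n + 1 by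
          have := Fin.val_ne_of_ne e; dsimp only at this; omega) rfl rfl]
  have sg' : ∀ (i : Fin k) n, n ≤ k → c i • z i • T n • x = (if (i : ℕ) < n then -1 else 1 : ℤ) • T n • x :=
    fun i n a => by rw [sg i n a, smul_comm, ← lin, hx]
  refine ⟨x, T 1 • x + T 2 • x + if k = 3 then T 3 • x else 0, fun g gx gy v => ?_⟩
  choose σ hσ using p4 g
  have s1 : ∀ i (v : V), g • c i • z i • v = c (σ i) • z (σ i) • g • v := fun i v => by
    rw [← (E (σ i) _ (‹L.Normal›.conj_mem _ (zL i) g) (hp.conj g _ (zL i) ▸ hσ i _ (zP i)) (c i) (by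
      rw [mul_smul, mul_smul, inv_smul_eq_iff.2 gx.symm, ← lin, hx, gx])).resolve_left fun e => zf i (by
        simpa [mul_assoc] using cmA hL (‹A.Normal›.conj_mem' _ e g) (fL i)), lin, mul_smul, mul_smul, inv_smul_smul]
  have s2 : Function.Bijective σ := Finite.injective_iff_bijective.1 fun i j e => by_contra fun d => x0 (by
    have := (smul_left_cancel_iff g).1 ((s1 i (f i • x)).trans (e ▸ (s1 j _).symm))
    rw [an _ (zL i) _ (fL i) (zf i), cm j i (Ne.symm d) _ (zL j) _ (fL i) (zP j) (fP i), smul_neg, ← lin (f i), ← lin (f i), hx, hx] at this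
    exact (smul_eq_zero_iff_eq _).1 (t2 _ this))
  have s3 : ∀ v : V, g • ∑ i, c i • z i • v = ∑ i, c i • z i • g • v := fun v => by
    rw [Finset.smul_sum]; exact s2.sum_comp (fun i => c i • z i • g • v) ▸ Finset.sum_congr rfl fun i _ => s1 i v
  have s4 : ∀ n ≤ k, g • T n • x = T n • x := by
    have a := s3 (T 1 • x + T 2 • x + if k = 3 then T 3 • x else 0)
    have b := s3 (∑ i, c i • z i • (T 1 • x + T 2 • x + if k = 3 then T 3 • x else 0))
    rw [a] at b
    rw [gy] at a b
    have sm : ∀ (g : G) (n : ℤ) (x : V), g • n • x = n • g • x := fun g n x => smul_comm _ _ _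
    have sm' : ∀ (g : K) (n : ℤ) (x : V), g • n • x = n • g • x := fun g n x => smul_comm _ _ _
    have cn : ∀ n : ℕ, ∀ v w : V, 2 ^ n • v = 2 ^ n • w → v = w := fun n v w => canc hr
      (fun d => r2 ((Nat.prime_dvd_prime_iff_eq hr Nat.prime_two).1 (hr.dvd_of_dvd_pow d))) hV
    rcases hk with rfl | rfl
    · simp only [smul_add, sg', Fin.sum_univ_succ, Fin.sum_univ_zero, le_refl, Nat.one_le_ofNat, sm, sm'] at a gy
      norm_num at a gy
      have d : g • T 2 • x = T 2 • x := cn 1 _ _ (by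
        generalize g • T 1 • x = a1, g • T 2 • x = a2 at *
        generalize T 1 • x = b1, T 2 • x = b2 at *
        linear_combination (norm := module) -a)
      intro n hn
      interval_cases n
      exacts [by simpa [T], by simpa [d] using gy, d]
    · simp only [smul_add, sg', Fin.sum_univ_succ, Fin.sum_univ_zero, le_refl, Nat.one_le_ofNat, sm, sm', if_true,
        show 2 ≤ 3 by omega] at a b gy
      norm_num at a b gy
      have d : g • T 3 • x = T 3 • x ∧ g • T 2 • x = T 2 • x ∧ g • T 1 • x = T 1 • x := by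
        generalize g • T 1 • x = a1, g • T 2 • x = a2, g • T 3 • x = a3 at *
        generalize T 1 • x = b1, T 2 • x = b2, T 3 • x = b3 at *
        exact ⟨cn 3 _ _ (by linear_combination (norm := module) b - gy),
          cn 2 _ _ (by linear_combination (norm := module) 3 • gy - 2 • a - b),
          cn 3 _ _ (by linear_combination (norm := module) 3 • gy + 4 • a + b)⟩
      intro n hn
      interval_cases n
      exacts [by simpa [T], d.2.2, d.2.1, d.1]
  have s5 : ∀ i, σ i = i := fun i => by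
    have k : ∀ n ≤ k, ((σ i : ℕ) < n ↔ (i : ℕ) < n) := fun n a => by
      have := s1 i (T n • x)
      rw [s4 n a, sg' _ n a, sg' _ n a, smul_comm, s4 n a] at this
      by_contra d
      refine x0 ((smul_eq_zero_iff_eq (T n)).1 (t2 _ ?_))
      split_ifs at this with b c c
      exacts [(d (iff_of_true c b)).elim, by simpa using this, by simpa using this.symm, (d (iff_of_false c b)).elim]
    have := k (i + 1) i.2; have := k (σ i + 1) (σ i).2
    exact Fin.ext (by omega)
  have s6 : ∀ i, Commute g (z i) := fun i => eq_of_smul_eq_smul fun v : V => smul_right_injective V (c0 i) (by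
    simpa only [s5, lin, mul_smul] using s1 i v)
  have s7 : ∀ i : Fin k, Commute g (T i) → Commute g (f i) := fun i a => by
    have b := s4 (i + 1) i.2
    rw [T1, mul_smul, smul_smul g, a.eq, mul_smul, smul_left_cancel_iff] at b
    have d := mul_mem (inv_mem (fL i)) (‹L.Normal›.conj_mem _ (fL i) g)
    have e : ((f i)⁻¹ * (g * f i * g⁻¹)) • x = x := by
      rw [mul_smul, mul_smul, mul_smul, inv_smul_eq_iff.2 gx.symm, b, inv_smul_smul]
    rcases E i _ d (by
      rw [hp.add _ (inv_mem (fL i)) _ (‹L.Normal›.conj_mem _ (fL i) g), hp.inv (fL i), hp.conj g _ (fL i)]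
      exact add_mem (neg_mem (fP i)) (by simpa only [s5] using hσ i _ (fP i))) 1 (by rwa [one_smul]) with e' | e'
    · exact mul_inv_eq_iff_eq_mul.1 (inv_mul_eq_one.1 (fa h e' x0 e)).symm
    · have e1 : ∀ v : V, g • f i • g⁻¹ • v = f i • c i • z i • v := fun v => by rw [← e']; simp [mul_smul]
      have e2 := e1 (g • f i • g⁻¹ • x)
      rw [inv_smul_smul, smul_smul (f i), smul_smul g, ← sq, ← hA g _ (h2 _ (fL i)), mul_smul, smul_inv_smul, e1, hx,
        an _ (zL i) _ (fL i) (zf i), smul_neg, ← lin, hx, smul_neg, smul_smul, ← sq] at e2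
      exact (x0 ((smul_eq_zero_iff_eq _).1 (t2 _ e2.symm))).elim
  have s8 : ∀ n ≤ k, Commute g (T n) := fun n => by
    induction n with
    | zero => exact fun _ => Commute.one_right g
    | succ n ih => exact fun a => T1 ⟨n, a⟩ ▸ (ih (by omega)).mul_right (s7 ⟨n, a⟩ (ih (by omega)))
  have s9 := fun i : Fin k => s7 i (s8 i i.2.le)
  have t1 : ∀ l ∈ L, Commute g l → g • p l = p l := fun l a b => by rw [← hp.conj g l a, b.eq, mul_inv_cancel_right]
  have t3 : g ∈ L := hL.ker g (hA g) fun l hl => (hp.fix g hl).1 (add_right_cancel ((p3 _ fun i u hu => hω.dl g _ u (by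
    rcases p5 i u hu with rfl | rfl | rfl | rfl
    exacts [zero_mem _, t1 _ (zL i) (s6 i), t1 _ (fL i) (s9 i),
      add_mem (t1 _ (zL i) (s6 i)) (t1 _ (fL i) (s9 i))])).trans (hω.two _).symm))
  rw [fa h ((hp.ker g t3).1 (p3 _ fun i u hu => ?_)) x0 gx, one_smul]
  have a := (ho _ (zL i) g t3).2 (s6 i).symm
  have b := (ho _ (fL i) g t3).2 (s9 i).symm
  rcases p5 i u hu with rfl | rfl | rfl | rfl <;> simp [a, b]

end Cfsg.Agent.H26.DB
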