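import Mathlib
import Cfsg.Agent.H26.DB11

/-! Coprime bases of size two, XII: the primitive case and the module theorem. -/

set_option autoImplicit false
set_option linter.unusedSectionVars false

namespace Cfsg.Agent.H26.DB

open Subgroup MulAction BT Module
open scoped Pointwise commutatorElement

universe u

theorem num8 {e : ℕ} (h : 64 ≤ e) : e ^ 8 < 3 ^ (e / 2) := by
  have k : ∀ k, 32 ≤ k → (2 * k + 1) ^ 8 < 3 ^ k := fun k hk => by
    induction k, hk using Nat.le_induction with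
    | base => norm_num
    | succ k h ih =>
      have := Nat.pow_le_pow_left (show 65 * (2 * (k + 1) + 1) ≤ 67 * (2 * k + 1) by omega) 8
      rw [mul_pow, mul_pow] at this
      rw [pow_succ 3]; omega
  exact (Nat.pow_le_pow_left (by omega) 8).trans_lt (k _ (by omega))

theorem fifth {x y : ℕ} (h : 5 * x < y) : (x : ℚ) / y < 1 / 5 := by
  rw [div_lt_div_iff₀ (by exact_mod_cast (by omega : 0 < y)) (by norm_num)]
  exact_mod_cast (by omega : x * 5 < 1 * y)

set_option maxHeartbeats 1600000 in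
theorem St.prim {G V K : Type u} [Group G] [Finite G] [AddCommGroup V] [Finite V] [DistribMulAction G V]
    [Nontrivial V] [FaithfulSMul G V] [Field K] [Finite K] [Module K V] {A : Subgroup G} [A.Normal] {ι : G → K}
    {r : ℕ} (hr : r.Prime) (r2 : r ≠ 2) (hS : St.{u} r (Nat.card V)) (hs : Group.IsSolvable G)
    (ho : ¬ r ∣ Nat.card G) (hV : ∀ v : V, r • v = 0) (h : PD V A ι)
    (hm : 2 ^ (centralizer (A : Set G)).index ≤ Nat.card K) : Bs G V := by
  classical
  obtain ⟨L, _, hL⟩ := h.exL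
  obtain ⟨W, _, _, _, p, hp⟩ := exists_sec (commutator_le.2 hL.com)
  have hC := hp.cr hL.le fun U => h.cr hL
  obtain ⟨e, he⟩ := h.sq hL
  have h1 := h.dim hL.cen hL.com
  rw [h.ri hL.le hL.cen le_rfl, he, ← sq, Nat.pow_le_pow_iff_left two_ne_zero] at h1
  have hQ : 2 ≤ Nat.card K := Finite.one_lt_card
  have h2 : Nat.card K ^ e ≤ Nat.card V :=
    natCard_eq_pow_finrank (K := K) (V := V) ▸ Nat.pow_le_pow_right (by omega) h1
  have h4 : Nat.card A ∣ Nat.card K - 1 := Nat.card_units K ▸ card_dvd_of_injective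
    (MonoidHom.toHomUnits (ih h)) fun a b e => Subtype.ext (h.inj a.2 b.2 (congrArg Units.val e))
  have hW : Nat.card W = e * e := hp.card.trans he
  have h5 : ∀ s, s.Prime → s ∣ e → s ∣ Nat.card K - 1 := fun s hs a => by
    have := Fact.mk hs
    obtain ⟨x, hx⟩ := exists_prime_addOrderOf_dvd_card' (G := W) s (by rw [hW]; exact a.mul_right _)
    obtain ⟨x, b, rfl⟩ := hp.surj x
    refine (hx ▸ addOrderOf_dvd_of_nsmul_eq_zero ?_).trans h4
    rw [← hp.pow b, (hp.ker _ (pow_mem b _)).2 (h.exp hL b)]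
  have r0 : (r : K) = 0 := by
    obtain ⟨v, hv⟩ := exists_ne (0 : V)
    exact (smul_eq_zero.1 (by rw [Nat.cast_smul_eq_nsmul, hV])).resolve_right hv
  have h6 : ∀ s, s.Prime → s ∣ Nat.card K → s = r := fun s a b => by
    have := Fintype.ofFinite K
    obtain ⟨t, _, n, ht, c⟩ := FiniteField.card' K
    rw [← Nat.card_eq_fintype_card] at c
    exact ((Nat.prime_dvd_prime_iff_eq a ht).1 (a.dvd_of_dvd_pow (c ▸ b))).trans
      ((Nat.prime_dvd_prime_iff_eq ht hr).1 ((CharP.cast_eq_zero_iff K t r).1 r0))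
  have h7 : ¬ 2 ∣ Nat.card K := fun d => r2 (h6 2 Nat.prime_two d).symm
  have e0 : 0 < e := Nat.pos_of_ne_zero (by rintro rfl; exact index_ne_zero_of_finite he)
  obtain ⟨_, _, hΓ⟩ := pack G W
  have hΓ1 : ∀ U : AddSubgroup W, Inv (G ⧸ kr G W) U ↔ Inv G U := fun U =>
    ⟨fun a g x hx => hΓ g x ▸ a g x hx, fun a g => QuotientGroup.induction_on g fun g x hx => (hΓ g x).symm ▸ a g x hx⟩
  have hΓ2 : CR (G ⧸ kr G W) W := by simpa only [CR, hΓ1] using hC
  have hΓ3 : Group.IsSolvable (G ⧸ kr G W) := inferInstance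
  have hΓ4 : Nat.card (G ⧸ kr G W) = (kr G W).index := rfl
  have hΓ5 : ¬ r ∣ Nat.card (G ⧸ kr G W) := fun d => ho (d.trans (kr G W).index_dvd_card)
  have t1 : 1 < e → (kr G W).index ≤ e ^ 6 / 5 := fun a => by
    have : Nontrivial W := Finite.one_lt_card_iff_nontrivial.1 (by rw [hW]; nlinarith)
    have := T1 hΓ3 hΓ2
    rw [hW, hΓ4, ← sq, ← pow_mul, show 2 * 3 = 6 from rfl] at this
    omega
  have g1 := (centralizer (A : Set G)).index_mul_card
  have g2 := (relIndex_mul_relIndex ⊥ _ _ bot_le hL.cen).symm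
  rw [← relIndex_mul_relIndex ⊥ _ _ bot_le hL.le, he, relIndex_bot_left, relIndex_bot_left] at g2
  have g3 : Nat.card A ≤ Nat.card K - 1 := Nat.le_of_dvd (by omega) h4
  have g4 := idxL h hL hp
  have cA : ∀ {q H D n2 n3 n4 : ℕ}, 0 < q → q ≤ Nat.card K → (kr G W).index ≤ H → 0 < D →
      {g : G | (orderOf g).Prime}.ncard * D ≤ e * e * H * Nat.card V →
      ((∀ l ∈ L, l ^ 2 ∈ A) ∨ e * e * H ≤ n2) →
      (¬ 4 ∣ e ∨ 4 * (((↑) : G → G ⧸ kr G W) '' {g | P4 V A L g}).ncard ≤ n3) → (¬ 16 ∣ e ∨ e * H ≤ n4) →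
      ((e * e * H : ℕ) : ℚ) / D + n2 / (q ^ (2 * e / 3) : ℕ) + n3 / (q ^ (e / 2) : ℕ) + n4 / (q ^ (3 * e / 4) : ℕ) < 1 →
      Bs G V := fun {q H D n2 n3 n4} q0 a b D0 c d f g i => by
    have k : ∀ i j n, i * j ≤ e * n → (q ^ i) ^ j ≤ Nat.card V ^ n := fun i j n c => by
      rw [← pow_mul]
      exact (Nat.pow_le_pow_right q0 c).trans (by
        rw [pow_mul]; exact Nat.pow_le_pow_left ((Nat.pow_le_pow_left a e).trans h2) n)
    refine countA h hL hp hr r2 hV he b ?_ d f g (pow_pos q0 _) (pow_pos q0 _) (pow_pos q0 _) (k _ _ _ (by omega))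
      (by simpa using k (e / 2) 2 1 (by omega)) (k _ _ _ (by omega)) i
    rw [div_mul_eq_mul_div, le_div_iff₀ (by exact_mod_cast D0)]
    exact_mod_cast c
  have c1 : ∀ {H D : ℕ}, (kr G W).index ≤ H → (centralizer (A : Set G)).index * Nat.card A * D ≤ Nat.card V →
      {g : G | (orderOf g).Prime}.ncard * D ≤ e * e * H * Nat.card V := fun {H D} a b => by
    refine (Nat.mul_le_mul_right _ (Set.ncard_le_card _)).trans ?_
    rw [← g1, g2]
    calc _ = e * e * L.relIndex (centralizer (A : Set G)) * ((centralizer (A : Set G)).index * Nat.card A * D) := by ring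
      _ ≤ _ := Nat.mul_le_mul (Nat.mul_le_mul_left _ (g4.trans a)) b
  have c2 : ∀ q ≤ Nat.card K, 2 ≤ e → (centralizer (A : Set G)).index * Nat.card A * (2 * q ^ (e - 2)) ≤ Nat.card V :=
    fun q a b => by
    have : 2 * (centralizer (A : Set G)).index ≤ Nat.card K := (Nat.mul_le_pow (by norm_num) _).trans hm
    calc _ = 2 * (centralizer (A : Set G)).index * Nat.card A * q ^ (e - 2) := by ring
      _ ≤ Nat.card K * Nat.card K * Nat.card K ^ (e - 2) := by gcongr; omega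
      _ = Nat.card K ^ e := by rw [← sq, ← pow_add]; congr 1; omega
      _ ≤ _ := h2
  have c3 : ∀ {H : ℕ}, (kr G W).index ≤ H → (((↑) : G → G ⧸ kr G W) '' {g | P4 V A L g}).ncard ≤ H := fun a =>
    (Set.ncard_le_card _).trans a
  have q3 : 3 ≤ Nat.card K := by omega
  rcases le_or_gt 64 e with e1 | e1
  · have a := t1 (by omega)
    have b := num8 e1
    have c : 5 * (e * e * (e ^ 6 / 5)) ≤ e ^ 8 := by
      rw [mul_left_comm, show e ^ 8 = e * e * e ^ 6 by ring]; exact Nat.mul_le_mul_left _ (by omega)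
    have d : ∀ x i, x ≤ e * e → e / 2 ≤ i → ((x * (e ^ 6 / 5) : ℕ) : ℚ) / (3 ^ i : ℕ) < 1 / 5 := fun x i f g =>
      fifth (((Nat.mul_le_mul_left 5 (Nat.mul_le_mul_right _ f)).trans c).trans_lt
        (b.trans_le (Nat.pow_le_pow_right three_pos g)))
    refine cA three_pos q3 a (by positivity) (c1 a (c2 3 q3 (by omega))) (.inr le_rfl)
      (.inr (Nat.mul_le_mul_left 4 (c3 a))) (.inr le_rfl) ?_
    have := d 4 (e / 2) (by nlinarith) le_rfl
    have := d _ (2 * e / 3) le_rfl (by omega)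
    have := d e (3 * e / 4) (by nlinarith) (by omega)
    have := fifth (y := 2 * 3 ^ (e - 2)) (c.trans_lt (b.trans_le ((Nat.pow_le_pow_right three_pos
      (show e / 2 ≤ e - 2 by omega)).trans (by omega))))
    linarith
  have hB := thmB h hL hp hr r2 hS hs ho hV he
  have u8 : (∀ u : K, u ≠ 0 → u ^ 8 = 1) → Nat.card K - 1 ∣ 8 := fun H => by
    rw [← Nat.card_units, ← IsCyclic.exponent_eq_card]
    exact Monoid.exponent_dvd_of_forall_pow_eq_one fun u => Units.ext (by simpa using H u u.ne_zero)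
  by_cases c : ∃ s, s.Prime ∧ s ∣ e ∧ s ≠ 2
  · obtain ⟨s, a, b, c⟩ := c
    have d := h5 s a b
    have k : ∀ n, ¬ s ∣ 2 ^ n := fun n f => c ((Nat.prime_dvd_prime_iff_eq a Nat.prime_two).1 (a.dvd_of_dvd_pow f))
    rcases le_or_gt e 17 with e2 | e2
    · exact (hB e2 fun f => k 4 (by rwa [f] at b)).resolve_right fun f => k 3 (d.trans (u8 f.1))
    have q7 : 7 ≤ Nat.card K := by
      have := Nat.le_of_dvd (by omega) (((Nat.coprime_primes a Nat.prime_two).2 c).mul_dvd_of_dvd_of_dvd d (by omega))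
      have := a.two_le
      omega
    have f := t1 (by omega)
    refine cA (n3 := if 4 ∣ e then 4 * (e ^ 6 / 5) else 0) (by norm_num) q7 f (by positivity)
      (c1 f (c2 7 q7 (by omega))) (.inr le_rfl) (or_iff_not_imp_left.2 fun g => by
        rw [if_pos (not_not.1 g)]; exact Nat.mul_le_mul_left 4 (c3 f)) (.inr le_rfl) ?_
    clear * - e1 e2
    interval_cases e <;> norm_num
  obtain ⟨k, rfl⟩ : ∃ k, e = 2 ^ k := ⟨_, Nat.eq_prime_pow_of_unique_prime_dvd e0.ne' fun {s} a b =>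
    by_contra fun d => c ⟨s, a, b, d⟩⟩
  have l2 : ∀ l ∈ L, l ^ 2 ∈ A := fun l hl => by
    rw [← hp.ker _ (pow_mem hl _), hp.pow hl]
    exact sqf hC 2 (k + k) (by rw [pow_add, ← hW]; exact card_nsmul_eq_zero')
  obtain ⟨ω, hω, hω'⟩ := exω h hL hp l2
  have hω1 : SP (G ⧸ kr G W) ω := ⟨hω.alt, fun g => QuotientGroup.induction_on g fun g a b => by
    rw [hΓ, hΓ, hω.inv], hω.nd⟩
  have j1 : (((↑) : G → G ⧸ kr G W) '' {g | P4 V A L g}).ncard ≤ {g : G ⧸ kr G W | Q4 ω g}.ncard :=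
    Set.ncard_le_ncard (by
      rintro _ ⟨g, hg, rfl⟩
      have := toQ4 h hL hp l2 hω hω' hg
      exact ⟨by simpa only [hΓ] using this.1, by simpa only [hΓ] using this.2.1, by
        rw [← this.2.2]; congr 1; ext w; rw [mem_fx, mem_fx, hΓ]⟩)
  have j2 : (∀ g : G ⧸ kr G W, ¬ Q4 ω g) → 4 * (((↑) : G → G ⧸ kr G W) '' {g | P4 V A L g}).ncard ≤ 0 := fun a => by
    rw [show {g : G ⧸ kr G W | Q4 ω g} = ∅ from Set.eq_empty_of_forall_notMem a, Set.ncard_empty] at j1; omega
  have j3 := Nat.mul_le_mul_left 4 (j1.trans (hW ▸ hω1.jb1))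
  have hN : ∀ t : W, (∀ g : G ⧸ kr G W, g • t = t) → t = 0 := fun t a => by
    obtain ⟨x, hx, rfl⟩ := hp.surj t
    refine (hp.ker x hx).2 (h.max _ (hp.up_normal (U := AddSubgroup.zmultiples (p x)) ?_) (hp.le_up hL.le _) ?_
      ⟨hx, AddSubgroup.mem_zmultiples _⟩)
    · rintro g _ ⟨n, rfl⟩; exact ⟨n, by dsimp only; rw [smul_comm, ← hΓ, a]⟩
    · rintro y ⟨hy, n, e⟩ z ⟨hz, m, e'⟩
      exact (hω' z hz y hy).1 (by simp [← e, ← e', hω.alt])
  have hP : ∀ k, Pl (G ⧸ kr G W) ω k → Pl G ω k := fun k ⟨P, a, b, c, d⟩ => ⟨P, a, b, c, fun g i => by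
    simpa only [hΓ] using d g i⟩
  have q3' : Nat.card K = 3 → (centralizer (A : Set G)).index = 1 ∧ ∀ {H : ℕ}, (kr G W).index ≤ H →
      {g : G | (orderOf g).Prime}.ncard * (3 ^ 2 ^ k / 2) ≤ 2 ^ k * 2 ^ k * H * Nat.card V := fun a => by
    have b : (centralizer (A : Set G)).index = 1 := by
      have := (Nat.pow_lt_pow_iff_right (a := 2) (by norm_num)).1 (hm.trans_lt (show _ < 2 ^ 2 by omega))
      have := (centralizer (A : Set G)).index_ne_zero_of_finite
      omega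
    refine ⟨b, fun c => c1 c (le_trans ?_ h2)⟩
    rw [b, a, one_mul]
    exact (Nat.mul_le_mul_right _ (show _ ≤ 2 by omega)).trans (Nat.mul_div_le _ _)
  have k6 : k < 6 := (Nat.pow_lt_pow_iff_right (a := 2) (by norm_num)).1 e1
  rcases eq_or_ne k 5 with rfl | k5
  · have f := t1 (by norm_num)
    exact cA (n2 := 0) three_pos q3 f (by positivity) (c1 f (c2 3 q3 (by norm_num))) (.inl l2) (.inr j3) (.inr le_rfl)
      (by norm_num)
  rcases eq_or_ne k 4 with rfl | k4
  · rcases eq_or_ne (Nat.card K) 3 with a | a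
    · rcases W3c hω1 hΓ3 hΓ2 (h6 3 Nat.prime_three a.symm.dvd ▸ hΓ5) hN hW with ⟨f, g⟩ | f
      · exact cA (n2 := 0) three_pos q3 f (by norm_num) ((q3' a).2 f) (.inl l2) (.inr (j2 g)) (.inr le_rfl) (by norm_num)
      · exact cA (n2 := 0) three_pos q3 f (by norm_num) ((q3' a).2 f) (.inl l2) (.inr (Nat.mul_le_mul_left 4 (c3 f)))
          (.inr le_rfl) (by norm_num)
    · have f := t1 (by norm_num)
      have q5 : 5 ≤ Nat.card K := by omega
      exact cA (n2 := 0) (by norm_num) q5 f (by positivity) (c1 f (c2 5 q5 (by norm_num))) (.inl l2) (.inr j3)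
        (.inr le_rfl) (by norm_num)
  have k3 : k ≤ 3 := by omega
  refine (hB (by interval_cases k <;> norm_num) (by interval_cases k <;> norm_num)).elim id fun a => ?_
  obtain ⟨a, B, BL, b, c', d⟩ := a
  have k2 : k = 2 ∨ k = 3 := by
    have := (Nat.mul_dvd_mul d d).trans (he ▸ isot h hL BL b)
    clear * - this k3
    interval_cases k <;> simp_all
  have n16 : ¬ 16 ∣ 2 ^ k := by rcases k2 with rfl | rfl <;> norm_num
  obtain a | a | a : Nat.card K = 3 ∨ Nat.card K = 5 ∨ Nat.card K = 9 := by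
    have := Nat.le_of_dvd (by norm_num) (u8 a)
    have := u8 a
    generalize Nat.card K = q at *
    have : q ≤ 9 := by omega
    interval_cases q <;> omega
  · have r3 := h6 3 Nat.prime_three a.symm.dvd
    rcases k2 with rfl | rfl
    · obtain ⟨-, f, g | ⟨g, g1, -⟩⟩ := W3a hω1 hΓ3 hΓ2 (r3 ▸ hΓ5) hN hW
      · exact cA (n2 := 0) (n4 := 0) three_pos q3 g (by norm_num) ((q3' a).2 g) (.inl l2) (.inr (j2 f)) (.inl n16)
          (by norm_num)
      obtain ⟨x, hx⟩ := exists_prime_orderOf_dvd_card' (G := G) 5 (hp := ⟨Nat.prime_five⟩)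
        ((g1 ▸ orderOf_dvd_natCard g).trans (kr G W).index_dvd_card)
      have a2 : ∀ y ∈ A, y ^ 2 = 1 := fun y hy => orderOf_dvd_iff_pow_eq_one.1
        ((orderOf_dvd_natCard _ hy).trans (by rwa [a] at h4))
      have xA : x ∈ centralizer (A : Set G) := (index_eq_one.1 (q3' a).1).ge trivial
      refine (plus h hL BL b c' d a2 l2 he (two_ne hr r2 hV) (hx ▸ pow_orderOf_eq_one x) (fun l hl i => ?_) xA).elim
      obtain ⟨j, hj⟩ := hω.sq (hω.nd_fx (c := x) (by rw [hx]; decide))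
      have m1 := modfix Nat.prime_five (hx ▸ pow_orderOf_eq_one x) (U := (⊤ : AddSubgroup W)) fun _ _ => trivial
      have m2 : Nat.card (fx W x) ≠ Nat.card W := fun m => by
        have := l2 x (krL h hL hp xA (mem_kr.2 fun w => (AddSubgroup.eq_top_of_card_eq _ m).ge (AddSubgroup.mem_top w)))
        have := orderOf_dvd_of_pow_eq_one ((pow_mul x 2 2).trans (a2 _ this))
        rw [hx] at this; omega
      have m3 := (fx W x).card_le_card_addGroup
      rw [top_inf_eq, AddSubgroup.card_top] at m1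
      rw [hj, hW] at m1 m2 m3
      have : j ≤ 2 := (Nat.pow_le_pow_iff_right (a := 4) (by norm_num)).1 m3
      interval_cases j
      · exact (hp.ker l hl).1 ((AddSubgroup.card_eq_one.1 hj).le ((hp.fix x hl).2 (i ▸ one_mem _)))
      · exact absurd m1 (by decide)
      · exact (m2 rfl).elim
    · obtain ⟨g, f⟩ := W3b hω1 hΓ3 hΓ2 (r3 ▸ hΓ5) hN hW
      exact cA (n2 := 0) (n4 := 0) three_pos q3 g (by norm_num) ((q3' a).2 g) (.inl l2) (.inr (j2 f)) (.inl n16)
        (by norm_num)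
  · have r5 := h6 5 Nat.prime_five a.symm.dvd
    subst r5
    have a4 : ∀ y ∈ A, y ^ 4 = 1 := fun y hy => orderOf_dvd_iff_pow_eq_one.1
      ((orderOf_dvd_natCard _ hy).trans (by rwa [a] at h4))
    have hA : ∀ g, g ∈ centralizer (A : Set G) := fun g y hy => eq_of_smul_eq_smul fun v : V => by
      have i := ipow h hy 4
      rw [a4 y hy, h.one] at i
      obtain ⟨n, hn⟩ : ∃ n : ℕ, ι y = n := by
        have : (ι y - (1 : ℕ)) * ((ι y - (2 : ℕ)) * ((ι y - (3 : ℕ)) * (ι y - (4 : ℕ)))) = 0 := by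
          push_cast at r0 ⊢
          linear_combination -i + (-2 * ι y ^ 3 + 7 * ι y ^ 2 - 10 * ι y + 5) * r0
        simp only [mul_eq_zero, sub_eq_zero] at this
        rcases this with b | b | b | b <;> exact ⟨_, b⟩
      rw [mul_smul, mul_smul, h.act y hy, h.act y hy, hn, Nat.cast_smul_eq_nsmul, Nat.cast_smul_eq_nsmul, smul_comm]
    have pl : ∀ k, k = 2 ∨ k = 3 → Pl (G ⧸ kr G W) ω k → Bs G V := fun k a b =>
      planes h hL hp l2 hω hω' hr r2 hV hA (I := 2) (by push_cast at r0; linear_combination r0) a (hP k b)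
    have np : ∀ {H : ℕ}, (kr G W).index ≤ H →
        {g : G | (orderOf g).Prime}.ncard * (5 ^ 2 ^ k / 2) ≤ 2 ^ k * 2 ^ k * H * Nat.card V := fun {H} f => by
      refine (Nat.mul_le_mul_right _ (nP h a4 hA)).trans ?_
      rw [← relIndex_top_right, ← (eq_top_iff' _).2 hA, ← relIndex_mul_relIndex A L _ hL.le hL.cen, he, mul_comm 2,
        mul_assoc]
      exact Nat.mul_le_mul (Nat.mul_le_mul_left _ (g4.trans f)) ((Nat.mul_div_le _ _).trans (a ▸ h2))
    rcases k2 with rfl | rfl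
    · refine (W5a hω1 hΓ3 hΓ2 hΓ5 hW).elim (pl 2 (.inl rfl)) fun ⟨f, g⟩ => ?_
      exact cA (n2 := 0) (n4 := 0) (by norm_num) a.ge f (by norm_num) (np f) (.inl l2)
        (.inr (Nat.mul_le_mul_left 4 (j1.trans g))) (.inl n16) (by norm_num)
    · refine (W5b hω1 hΓ3 hΓ2 hW hΓ5).elim (pl 3 (.inr rfl)) fun f => ?_
      refine cA (n2 := 0) (n4 := 0) (by norm_num) a.ge le_rfl (by norm_num) (np le_rfl) (.inl l2)
        (.inr (Nat.mul_le_mul_left 4 j1)) (.inl n16) ?_
      rw [hΓ4] at f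
      generalize (kr G W).index = x, {g : G ⧸ kr G W | Q4 ω g}.ncard = y at f ⊢
      have : (128 * x + 2500 * y : ℚ) < 390000 := by exact_mod_cast f
      have : (0 : ℚ) ≤ y := by positivity
      norm_num
      linarith
  · have r3 := h6 3 Nat.prime_three (by simp [a])
    have b : (centralizer (A : Set G)).index ≤ 2 := by
      have := (Nat.pow_lt_pow_iff_right (a := 2) (by norm_num)).1 (hm.trans_lt (show _ < 2 ^ 4 by omega))
      have : (centralizer (A : Set G)).index ≠ 3 := fun d => ho (r3 ▸ d ▸ index_dvd_card _)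
      omega
    have np : ∀ {H : ℕ}, (kr G W).index ≤ H →
        {g : G | (orderOf g).Prime}.ncard * (9 ^ 2 ^ k / 16) ≤ 2 ^ k * 2 ^ k * H * Nat.card V := fun f =>
      c1 f (le_trans ((Nat.mul_le_mul_right _ (Nat.mul_le_mul b (show _ ≤ 8 by omega))).trans
        (Nat.mul_div_le _ 16)) (a ▸ h2))
    rcases k2 with rfl | rfl
    · obtain ⟨g, f, -⟩ := W3a hω1 hΓ3 hΓ2 (r3 ▸ hΓ5) hN hW
      exact cA (n2 := 0) (n4 := 0) three_pos q3 g (by norm_num) (np g) (.inl l2) (.inr (j2 f)) (.inl n16) (by norm_num)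
    · obtain ⟨g, f⟩ := W3b hω1 hΓ3 hΓ2 (r3 ▸ hΓ5) hN hW
      exact cA (n2 := 0) (n4 := 0) three_pos q3 g (by norm_num) (np g) (.inl l2) (.inr (j2 f)) (.inl n16) (by norm_num)

theorem st {r : ℕ} (hr : r.Prime) (r2 : r ≠ 2) (n : ℕ) : St.{u} r n := by
  induction n using Nat.strong_induction_on with
  | _ n ih =>
  intro G V _ _ _ _ _ hs ho hV hn hI
  rcases subsingleton_or_nontrivial V with _ | _
  · exact ⟨0, 0, fun _ _ _ _ => Subsingleton.elim _ _⟩
  let Γ := (DistribMulAction.toModuleAut ℤ V : G →* _).range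
  have : Finite Γ := Set.finite_range _
  have h1 : ¬ r ∣ Nat.card Γ := fun d => ho (d.trans (card_range_dvd _))
  have h0 : Group.IsSolvable Γ := solvable_of_surjective (MonoidHom.rangeRestrict_surjective _)
  suffices Bs Γ V from let ⟨v, w, h⟩ := this; ⟨v, w, fun g => h ⟨_, g, rfl⟩⟩
  obtain ⟨A, -, ⟨_, h2⟩, h3⟩ := Finite.exists_le_maximal
    (p := fun A : Subgroup Γ => A.Normal ∧ A ≤ centralizer A) (a := ⊥) ⟨inferInstance, bot_le⟩
  refine ((ih _ hn).field hr r2 h0 h1 hV (by simpa only [Ir, Γ, inv_range] using hI) A fun a ha b hb => h2 hb a ha).elim id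
    fun ⟨K, _, _, _, ι, a, b, c⟩ => (ih _ hn).prim hr r2 h0 h1 hV ⟨a, b, h2, fun B d e f => h3 ⟨d, f⟩ e⟩ c

theorem base_cop {G V : Type*} [Group G] [Finite G] [AddCommGroup V] [Finite V] [DistribMulAction G V] {r : ℕ}
    (hr : r.Prime) (hs : Group.IsSolvable G) (ho : ¬ r ∣ Nat.card G) (hV : ∀ v : V, r • v = 0) : Bs G V := by
  rcases eq_or_ne r 2 with rfl | r2
  · exact base_two (by rwa [Nat.two_dvd_ne_zero, ← Nat.odd_iff] at ho) (maschke hr ho hV)
  have : Finite (DistribMulAction.toModuleAut ℤ V : G →* _).range := Set.finite_range _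
  obtain ⟨v, w, h⟩ := (st hr r2 _).cr (G := (DistribMulAction.toModuleAut ℤ V : G →* _).range) (V := V)
    (solvable_of_surjective (MonoidHom.rangeRestrict_surjective _)) (fun d => ho (d.trans (card_range_dvd _))) hV
    (Nat.lt_succ_self _) (by simpa only [CR, inv_range] using maschke hr ho hV)
  exact ⟨v, w, fun g => h ⟨_, g, rfl⟩⟩

end Cfsg.Agent.H26.DB
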