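import Mathlib

/-! Orbits of an abelian group of "translations" and annihilators of their stabilisers. -/

set_option autoImplicit false

namespace Cfsg.Agent.H26.MD

open scoped Pointwise

section Orb
variable {G X U : Type*} [Group G] [MulAction G X] [AddCommGroup U]

/-- `r` is additive on `D` -/
def RR (D : AddSubgroup U) (r : U → G) : Prop := ∀ a ∈ D, ∀ b ∈ D, r (a + b) = r a * r b

def orb (D : AddSubgroup U) (r : U → G) (ω : X) : Set X := {y | ∃ w ∈ D, r w • ω = y}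

variable {D : AddSubgroup U} {r : U → G}

theorem RR.zero (h : RR D r) : r 0 = 1 := by
  have := h 0 D.zero_mem 0 D.zero_mem
  rw [add_zero] at this
  exact left_eq_mul.1 this

theorem RR.neg (h : RR D r) {a : U} (ha : a ∈ D) : r (-a) = (r a)⁻¹ :=
  eq_inv_of_mul_eq_one_left (by rw [← h _ (D.neg_mem ha) _ ha, neg_add_cancel, h.zero])

theorem RR.smul_smul (h : RR D r) {a b : U} (ha : a ∈ D) (hb : b ∈ D) (ω : X) :
    r a • r b • ω = r (a + b) • ω := by rw [h a ha b hb, mul_smul]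

def RR.St (h : RR D r) (O : Set X) : AddSubgroup U where
  carrier := {w | w ∈ D ∧ ∀ ω ∈ O, r w • ω = ω}
  zero_mem' := ⟨D.zero_mem, fun ω _ => by rw [h.zero, one_smul]⟩
  add_mem' := fun {a b} ha hb => ⟨D.add_mem ha.1 hb.1, fun ω hω => by
    rw [← h.smul_smul ha.1 hb.1, hb.2 ω hω, ha.2 ω hω]⟩
  neg_mem' := fun {a} ha => ⟨D.neg_mem ha.1, fun ω hω => by
    rw [h.neg ha.1, inv_smul_eq_iff, ha.2 ω hω]⟩

theorem RR.mem_St (h : RR D r) {O : Set X} {w : U} :
    w ∈ h.St O ↔ w ∈ D ∧ ∀ ω ∈ O, r w • ω = ω := Iff.rfl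

theorem RR.mem_St_one (h : RR D r) {ω : X} {w : U} :
    w ∈ h.St ({ω} : Set X) ↔ w ∈ D ∧ r w • ω = ω := by simp [h.mem_St]

theorem RR.self_mem (h : RR D r) (ω : X) : ω ∈ orb D r ω := ⟨0, D.zero_mem, by rw [h.zero, one_smul]⟩

theorem RR.St_orb (h : RR D r) (ω : X) : h.St (orb D r ω) = h.St {ω} := by
  ext w
  rw [h.mem_St_one, h.mem_St]
  refine and_congr_right fun hw => ⟨fun H => H ω (h.self_mem ω), ?_⟩
  rintro H _ ⟨a, ha, rfl⟩
  rw [h.smul_smul hw ha, add_comm, ← h.smul_smul ha hw, H]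

theorem RR.orb_eq (h : RR D r) {ω y : X} (hy : y ∈ orb D r ω) : orb D r y = orb D r ω := by
  obtain ⟨a, ha, rfl⟩ := hy
  ext z
  constructor
  · rintro ⟨b, hb, rfl⟩
    exact ⟨b + a, D.add_mem hb ha, (h.smul_smul hb ha ω).symm⟩
  · rintro ⟨b, hb, rfl⟩
    exact ⟨b - a, D.sub_mem hb ha, by rw [h.smul_smul (D.sub_mem hb ha) ha, sub_add_cancel]⟩

theorem RR.sub_mem (h : RR D r) {a b : U} (ha : a ∈ D) (hb : b ∈ D) {ω : X}
    (e : r a • ω = r b • ω) : a - b ∈ h.St ({ω} : Set X) :=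
  h.mem_St_one.2 ⟨D.sub_mem ha hb, by
    rw [sub_eq_neg_add, ← h.smul_smul (D.neg_mem hb) ha, e, h.neg hb, inv_smul_smul]⟩

theorem RR.ncard_orb (h : RR D r) (ω : X) :
    (orb D r ω).ncard * Nat.card (h.St ({ω} : Set X)) = Nat.card D := by
  let φ : Multiplicative D →* G := MonoidHom.mk' (fun a => r a.toAdd.1) fun a b => h _ a.toAdd.2 _ b.toAdd.2
  let := MulAction.compHom X φ
  have h1 : MulAction.orbit (Multiplicative D) ω = orb D r ω := by
    ext y
    exact ⟨fun ⟨a, e⟩ => ⟨_, a.toAdd.2, e⟩, fun ⟨a, ha, e⟩ => ⟨Multiplicative.ofAdd ⟨a, ha⟩, e⟩⟩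
  have h2 : Nat.card (MulAction.stabilizer (Multiplicative D) ω) = Nat.card (h.St ({ω} : Set X)) :=
    Nat.card_congr ⟨fun a => ⟨a.1.toAdd.1, h.mem_St_one.2 ⟨a.1.toAdd.2, a.2⟩⟩,
      fun a => ⟨Multiplicative.ofAdd ⟨a.1, a.2.1⟩, (h.mem_St_one.1 a.2).2⟩, fun _ => rfl, fun _ => rfl⟩
  rw [← h1, ← h2, ← MulAction.index_stabilizer, Subgroup.index_mul_card]
  rfl

variable [Finite X]

/-- the orbits whose size satisfies `P` -/
noncomputable def Orbs (D : AddSubgroup U) (r : U → G) (X : Type*) [MulAction G X] [Finite X]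
    (P : ℕ → Prop) : Finset (Set X) :=
  (Set.toFinite {O | (∃ ω, orb D r ω = O) ∧ P O.ncard}).toFinset

theorem mem_Orbs {P : ℕ → Prop} {O : Set X} :
    O ∈ Orbs D r X P ↔ (∃ ω, orb D r ω = O) ∧ P O.ncard := by simp [Orbs]

theorem RR.sum_Orbs (h : RR D r) (P : ℕ → Prop) :
    ∑ O ∈ Orbs D r X P, O.ncard = {ω : X | P (orb D r ω).ncard}.ncard := by
  classical
  rw [Set.ncard_eq_toFinset_card _ (Set.toFinite _), Finset.card_eq_sum_card_fiberwise
    (f := orb D r) (t := Orbs D r X P) fun ω hω => mem_Orbs.2 ⟨⟨ω, rfl⟩, by simpa using hω⟩]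
  refine Finset.sum_congr rfl fun O hO => ?_
  obtain ⟨⟨ω, rfl⟩, hP⟩ := mem_Orbs.1 hO
  rw [← Set.ncard_coe_finset]
  congr 1
  ext y
  simp only [Finset.coe_filter, Set.Finite.mem_toFinset, Set.mem_setOf_eq]
  exact ⟨fun hy => by rw [h.orb_eq hy]; exact ⟨hP, rfl⟩, fun hy => hy.2 ▸ h.self_mem y⟩

theorem RR.sum_Orbs_le (h : RR D r) (P : ℕ → Prop) :
    ∑ O ∈ Orbs D r X P, O.ncard ≤ Nat.card X := h.sum_Orbs (X := X) P ▸ Set.ncard_le_card _

end Orb

section Ann
variable {F U U' : Type*} [Field F] [AddCommGroup U] [Module F U] [AddCommGroup U'] [Module F U']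

theorem exists_psi [Finite F] : ∃ ψ : AddChar F ℂ, ψ 1 ≠ 1 :=
  AddChar.exists_apply_ne_zero.2 one_ne_zero

/-- a fixed non-trivial additive character -/
noncomputable def psi (F : Type*) [Field F] [Finite F] : AddChar F ℂ := exists_psi.choose

variable [Finite F]

theorem eq_zero_of_psi {a : F} (h : ∀ c, psi F (c * a) = 1) : a = 0 := by
  by_contra h0
  exact exists_psi.choose_spec (show psi F 1 = 1 by simpa [h0] using h a⁻¹)

def Ann (β : U' →ₗ[F] U →ₗ[F] F) (S : AddSubgroup U) : AddSubgroup U' where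
  carrier := {x | ∀ w ∈ S, psi F (β x w) = 1}
  zero_mem' := fun w _ => by simp
  add_mem' := fun {a b} ha hb w hw => by simp [AddChar.map_add_eq_mul, ha w hw, hb w hw]
  neg_mem' := fun {a} ha w hw => by simp [AddChar.map_neg_eq_inv, ha w hw]

variable {β : U' →ₗ[F] U →ₗ[F] F}

theorem mem_Ann {S : AddSubgroup U} {x : U'} : x ∈ Ann β S ↔ ∀ w ∈ S, psi F (β x w) = 1 := Iff.rfl

theorem mem_Ann_of {S : AddSubgroup U} {x : U'} (h : ∀ w ∈ S, β x w = 0) : x ∈ Ann β S :=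
  fun w hw => by simp [h w hw]

theorem eq_zero_of_mem_Ann {S : AddSubgroup U} {x : U'} (h : x ∈ Ann β S) {w : U}
    (hw : ∀ c : F, c • w ∈ S) : β x w = 0 := eq_zero_of_psi fun c => by simpa using h _ (hw c)

variable [Finite U] [Finite U'] (hβ : ∀ w, (∀ x, β x w = 0) → w = 0)
include hβ

theorem card_Ann (S : AddSubgroup U) : Nat.card (Ann β S) * Nat.card S = Nat.card U' := by
  classical
  have := Fintype.ofFinite U'
  have := Fintype.ofFinite S
  have h1 : ∀ w : S, ∑ x : U', psi F (β x w) = if w = 0 then (Fintype.card U' : ℂ) else 0 := by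
    intro w
    have := AddChar.sum_eq_ite ((psi F).compAddMonoidHom (β.flip w).toAddMonoidHom)
    refine this.trans (if_congr ⟨fun h => Subtype.ext (hβ _ fun x => eq_zero_of_psi fun c => ?_),
      fun h => by ext x; simp [h]⟩ rfl rfl)
    simpa using DFunLike.congr_fun h (c • x)
  have h2 : ∀ x : U', ∑ w : S, psi F (β x w) = if x ∈ Ann β S then (Fintype.card S : ℂ) else 0 := by
    intro x
    have := AddChar.sum_eq_ite ((psi F).compAddMonoidHom ((β x).toAddMonoidHom.comp S.subtype))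
    exact this.trans (if_congr ⟨fun h w hw => DFunLike.congr_fun h ⟨w, hw⟩,
      fun h => by ext w; exact h w w.2⟩ rfl rfl)
  have h3 := Finset.sum_comm (s := Finset.univ) (t := Finset.univ)
    (f := fun (x : U') (w : S) => psi F (β x w))
  simp only [h1, h2, Finset.sum_ite_eq', Finset.mem_univ, if_true, ← Finset.sum_filter,
    Finset.sum_const, nsmul_eq_mul] at h3
  rw [Nat.card_eq_fintype_card, Nat.card_eq_fintype_card, Nat.card_eq_fintype_card,
    Fintype.card_subtype]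
  exact_mod_cast h3

theorem mem_of_Ann {S : AddSubgroup U} {w : U} (h : ∀ x ∈ Ann β S, psi F (β x w) = 1) : w ∈ S := by
  have h1 : Ann β (S ⊔ AddSubgroup.zmultiples w) = Ann β S := by
    refine le_antisymm (fun x hx a ha => hx a (AddSubgroup.mem_sup_left ha)) fun x hx a ha => ?_
    obtain ⟨b, hb, _, ⟨k, rfl⟩, rfl⟩ := AddSubgroup.mem_sup.1 ha
    show psi F (β x (b + k • w)) = 1
    rw [map_add, map_zsmul, AddChar.map_add_eq_mul, AddChar.map_zsmul_eq_zpow, hx b hb, h x hx]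
    simp
  have h2 := card_Ann hβ (S ⊔ AddSubgroup.zmultiples w)
  rw [h1, ← card_Ann hβ S] at h2
  rw [AddSubgroup.eq_of_le_of_card_ge (le_sup_left : S ≤ S ⊔ AddSubgroup.zmultiples w)
    (Nat.eq_of_mul_eq_mul_left Nat.card_pos h2).le]
  exact AddSubgroup.mem_sup_right (AddSubgroup.mem_zmultiples w)

variable {G X : Type*} [Group G] [MulAction G X] [Finite X] {D : AddSubgroup U} {r : U → G}

open Classical in
/-- the orbits (of size in `P`) whose annihilator contains `x` -/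
noncomputable def RR.M (h : RR D r) (β : U' →ₗ[F] U →ₗ[F] F) (X : Type*) [MulAction G X] [Finite X]
    (P : ℕ → Prop) (x : U') : Finset (Set X) := (Orbs D r X P).filter fun O => x ∈ Ann β (h.St O)

omit hβ [Finite U] [Finite U'] in
theorem RR.mem_M (h : RR D r) {P : ℕ → Prop} {x : U'} {O : Set X} : O ∈ h.M β X P x ↔
    ∃ ω, orb D r ω = O ∧ P O.ncard ∧ x ∈ Ann β (h.St {ω}) := by
  simp only [RR.M, Finset.mem_filter, mem_Orbs]
  exact ⟨fun ⟨⟨⟨ω, e⟩, h1⟩, h2⟩ => ⟨ω, e, h1, by rwa [← h.St_orb, e]⟩,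
    fun ⟨ω, e, h1, h2⟩ => ⟨⟨⟨ω, e⟩, h1⟩, by rwa [← e, h.St_orb]⟩⟩

theorem RR.card_Ann_eq (h : RR D r) {k : ℕ} (hk : Nat.card U' = k * Nat.card D) (ω : X) :
    Nat.card (Ann β (h.St ({ω} : Set X))) = k * (orb D r ω).ncard := by
  have h1 := card_Ann hβ (h.St ({ω} : Set X))
  rw [hk, ← h.ncard_orb ω, ← mul_assoc] at h1
  exact Nat.eq_of_mul_eq_mul_right Nat.card_pos h1

theorem RR.sum_M [Fintype U'] (h : RR D r) {k : ℕ} (hk : Nat.card U' = k * Nat.card D)
    (P : ℕ → Prop) : ∑ x, (h.M β X P x).card = k * ∑ O ∈ Orbs D r X P, O.ncard := by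
  classical
  simp only [RR.M, Finset.card_filter]
  rw [Finset.sum_comm, Finset.mul_sum]
  refine Finset.sum_congr rfl fun O hO => ?_
  obtain ⟨⟨ω, rfl⟩, -⟩ := mem_Orbs.1 hO
  rw [← h.card_Ann_eq hβ hk, h.St_orb, ← Finset.card_filter, Nat.card_eq_fintype_card,
    Fintype.card_subtype]

end Ann

end Cfsg.Agent.H26.MD
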