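import Mathlib
import Cfsg.Agent.H13.Levi
import Cfsg.Agent.H26.MD1

/-! Orbits of the unipotent radical of a point stabiliser in an orthogonal group. -/

set_option autoImplicit false
set_option linter.unusedSectionVars false

namespace Cfsg.Agent.H26.MD

open Module QuadraticMap H13
open scoped Pointwise

class OC {F V : Type*} [Field F] [AddCommGroup V] [Module F V] (Q : QuadraticForm F V) : Prop where
  nd : ND Q
  five : 5 ≤ finrank F V

variable {F V : Type*} [Field F] [Finite F] [AddCommGroup V] [Module F V] [FiniteDimensional F V]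
  [Finite V] {Q : QuadraticForm F V} [hC : OC Q]

local notation "B" => polar Q

variable (Q) in
noncomputable def rho (u a : V) : Om Q := hC.nd.sg (good_of_five hC.five) u a

theorem g_def (g : Om Q) (x : V) : g • x = g.1.1 x := rfl
@[simp] theorem Qg (g : Om Q) (x : V) : Q (g • x) = Q x := OG_map _ _
@[simp] theorem Bg (g : Om Q) (x y : V) : B (g • x) (g • y) = B x y := OG_polar _ _ _
theorem g_smul (g : Om Q) (c : F) (x : V) : g • c • x = c • g • x := map_smul g.1.1 c x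
theorem Bg_left (g : Om Q) (x y : V) : B (g • x) y = B x (g⁻¹ • y) := by
  rw [← Bg g x, smul_inv_smul]
theorem g_ne (g : Om Q) {x : V} (hx : x ≠ 0) : g • x ≠ 0 := fun h => hx ((smul_eq_zero_iff_eq g).1 h)
theorem g_notMem (g : Om Q) {p x : V} (hx : x ∉ F ∙ p) : g • x ∉ F ∙ (g • p) := fun h => by
  obtain ⟨c, hc⟩ := Submodule.mem_span_singleton.1 h
  exact hx (Submodule.mem_span_singleton.2 ⟨c, by rwa [← g_smul, smul_left_cancel_iff] at hc⟩)

theorem rho_apply {u a : V} (hu : Q u = 0) (ha : B u a = 0) (x : V) :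
    rho Q u a • x = x + B a x • u - B u x • (a + Q a • u) := sieg_apply hu ha x
theorem rho_perp {u a x : V} (hu : Q u = 0) (ha : B u a = 0) (hx : B u x = 0) :
    rho Q u a • x = x + B a x • u := sieg_apply_of_perp hu ha hx
theorem rho_fix {u a x : V} (hx : B u x = 0) (hx' : B a x = 0) : rho Q u a • x = x :=
  sieg_apply_of_perp_perp hx hx'
theorem rho_self (u a : V) : rho Q u a • u = u := sieg_apply_self u a
theorem conj_rho (g : Om Q) (u a : V) : g * rho Q u a * g⁻¹ = rho Q (g • u) (g • a) :=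
  Subtype.ext (conj_sieg g.1 u a)
theorem rho_smul_left {u a : V} (hu : Q u = 0) (ha : B u a = 0) (c : F) :
    rho Q (c • u) a = rho Q u (c • a) := Subtype.ext (sieg_smul_left hu ha c)
theorem rho_swap {u a : V} (hu : Q u = 0) (ha0 : Q a = 0) (ha : B u a = 0) :
    rho Q a u = rho Q u (-a) := Subtype.ext (sieg_swap hu ha0 ha)
theorem rho_smul_self {u : V} (hu : Q u = 0) (c : F) : rho Q u (c • u) = 1 :=
  Subtype.ext (sieg_smul_self hu c)
theorem rho_add {u a b : V} (ha : B u a = 0) (hb : B u b = 0) :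
    rho Q u (a + b) = rho Q u a * rho Q u b := Subtype.ext (by
  by_cases hu : Q u = 0
  · exact sieg_add hu ha hb
  · simp [rho, sieg_of_not, hu])

theorem Bss {u : V} (hu : Q u = 0) : B u u = 0 := by rw [polar_self', hu, mul_zero]

variable (Q) in
def DD (p : V) : AddSubgroup V := (perp Q (F ∙ p)).toAddSubgroup
theorem mem_DD {p w : V} : w ∈ DD Q p ↔ B p w = 0 := mem_perp_singleton

variable (Q) in
def DD2 (p u : V) : AddSubgroup V := (pp Q p u).toAddSubgroup
theorem mem_DD2 {p u w : V} : w ∈ DD2 Q p u ↔ B p w = 0 ∧ B u w = 0 := mem_perp_pair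

variable (Q) in
theorem rr (p : V) : RR (DD Q p) (rho Q p) := fun _ ha _ hb => rho_add (mem_DD.1 ha) (mem_DD.1 hb)

theorem rr_le (p : V) {D : AddSubgroup V} (h : ∀ w ∈ D, B p w = 0) : RR D (rho Q p) :=
  fun _ ha _ hb => rho_add (h _ ha) (h _ hb)

theorem card_sub (W : Submodule F V) : Nat.card W = Nat.card F ^ finrank F W := card_eq_pow

theorem card_perp (W : Submodule F V) :
    Nat.card (perp Q W) = Nat.card F ^ (finrank F V - finrank F W) := by
  rw [card_sub, ← hC.nd.finrank_perp W, Nat.add_sub_cancel]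

theorem card_DD {p : V} (hp : p ≠ 0) : Nat.card (DD Q p) = Nat.card F ^ (finrank F V - 1) := by
  rw [← finrank_span_singleton (K := F) hp, ← card_perp (Q := Q)]; rfl

theorem two_le_q : 2 ≤ Nat.card F := Finite.one_lt_card

variable {X : Type*} [MulAction (Om Q) X] [Finite X]

variable (Q) in
noncomputable def SS (p : V) (ω : X) : AddSubgroup V := (rr Q p).St ({ω} : Set X)

theorem mem_SS {p w : V} {ω : X} : w ∈ SS Q p ω ↔ B p w = 0 ∧ rho Q p w • ω = ω := by
  rw [SS, RR.mem_St_one, mem_DD]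

variable (Q) in
noncomputable def AA (p : V) (ω : X) : AddSubgroup V := Ann (polarBilin Q) (SS Q p ω)

theorem mem_AA {p x : V} {ω : X} : x ∈ AA Q p ω ↔ ∀ w ∈ SS Q p ω, psi F (B x w) = 1 := Iff.rfl

theorem g_mem_SS (g : Om Q) {p w : V} {ω : X} : g • w ∈ SS Q (g • p) (g • ω) ↔ w ∈ SS Q p ω := by
  simp [mem_SS, ← conj_rho, mul_smul]

theorem g_mem_AA (g : Om Q) {p x : V} {ω : X} : g • x ∈ AA Q (g • p) (g • ω) ↔ x ∈ AA Q p ω :=
  ⟨fun h w hw => by simpa using mem_AA.1 h _ ((g_mem_SS g).2 hw), fun h => mem_AA.2 fun w hw => by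
    rw [Bg_left]; exact h _ ((g_mem_SS g).1 (by simpa using hw))⟩

theorem smul_mem_SS {p w : V} {ω : X} (hp : Q p = 0) {c : F} (hc : c ≠ 0) :
    w ∈ SS Q (c • p) ω ↔ c • w ∈ SS Q p ω := by
  simp only [mem_SS, polar_smul_left, polar_smul_right, smul_eq_mul, mul_eq_zero, hc, false_or]
  exact and_congr_right fun h => by rw [rho_smul_left hp h]

theorem smul_mem_AA {p x : V} {ω : X} (hp : Q p = 0) {c : F} (hc : c ≠ 0) :
    c • x ∈ AA Q (c • p) ω ↔ x ∈ AA Q p ω :=
  ⟨fun h w hw => by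
    simpa [hc] using mem_AA.1 h (c⁻¹ • w) ((smul_mem_SS hp hc).2 (by simpa [hc] using hw)),
   fun h => mem_AA.2 fun w hw => by simpa using mem_AA.1 h _ ((smul_mem_SS hp hc).1 hw)⟩

theorem self_mem_SS {p : V} (hp : Q p = 0) (ω : X) (c : F) : c • p ∈ SS Q p ω :=
  mem_SS.2 ⟨by simp [Bss hp], by rw [rho_smul_self hp, one_smul]⟩

theorem self_mem_AA (p : V) (ω : X) (c : F) : c • p ∈ AA Q p ω :=
  mem_AA.2 fun w hw => by simp [(mem_SS.1 hw).1]

theorem perp_of_AA {p x : V} (hp : Q p = 0) {ω : X} (h : x ∈ AA Q p ω) : B p x = 0 := by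
  rw [polar_comm]; exact eq_zero_of_mem_Ann h (self_mem_SS hp ω)

theorem hβ (w : V) (h : ∀ x, polarBilin Q x w = 0) : w = 0 := by
  by_contra h0
  obtain ⟨y, hy⟩ := hC.nd.exists_ne h0
  exact hy (by rw [polar_comm]; exact h y)

theorem mem_SS_of {p w : V} {ω : X} (h : ∀ x ∈ AA Q p ω, psi F (B x w) = 1) : w ∈ SS Q p ω :=
  mem_of_Ann hβ h

theorem card_AA_SS (p : V) (ω : X) :
    Nat.card (AA Q p ω) * Nat.card (SS Q p ω) = Nat.card F ^ finrank F V := by
  rw [← card_eq_pow]; exact card_Ann hβ _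

variable (Q) in
abbrev ob (p : V) (ω : X) : Set X := orb (DD Q p) (rho Q p) ω

theorem card_V {p : V} (hp : p ≠ 0) : Nat.card V = Nat.card F * Nat.card (DD Q p) := by
  rw [card_DD hp, card_eq_pow (F := F), ← pow_succ', Nat.sub_add_cancel (by have := hC.five; omega)]

theorem card_AA {p : V} (hp : p ≠ 0) (ω : X) :
    Nat.card (AA Q p ω) = Nat.card F * (ob Q p ω).ncard := (rr Q p).card_Ann_eq hβ (card_V hp) ω

theorem ob_g (g : Om Q) (p : V) (ω : X) : ob Q (g • p) (g • ω) = g • ob Q p ω := by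
  ext y
  rw [Set.mem_smul_set_iff_inv_smul_mem]
  constructor
  · rintro ⟨w, hw, rfl⟩
    refine ⟨g⁻¹ • w, mem_DD.2 (by rw [← Bg_left]; exact mem_DD.1 hw), ?_⟩
    rw [← smul_inv_smul g w, ← conj_rho]; simp [mul_smul]
  · rintro ⟨w, hw, e⟩
    refine ⟨g • w, mem_DD.2 (by simpa using mem_DD.1 hw), ?_⟩
    rw [← conj_rho]; simp [mul_smul, e]

theorem ob_smul {p : V} (hp : Q p = 0) {c : F} (hc : c ≠ 0) (ω : X) : ob Q (c • p) ω = ob Q p ω := by
  ext y
  constructor
  · rintro ⟨w, hw, rfl⟩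
    have := mem_DD.1 hw
    simp only [polar_smul_left, smul_eq_mul, mul_eq_zero, hc, false_or] at this
    exact ⟨c • w, mem_DD.2 (by simp [this]), by rw [rho_smul_left hp this]⟩
  · rintro ⟨w, hw, rfl⟩
    have := mem_DD.1 hw
    exact ⟨c⁻¹ • w, mem_DD.2 (by simp [this]), by rw [rho_smul_left hp (by simp [this])]; simp [hc]⟩

theorem SS_of_ob {p : V} {ω y : X} (h : ob Q p y = ob Q p ω) : SS Q p y = SS Q p ω := by
  rw [SS, SS, ← RR.St_orb, ← RR.St_orb]; exact congrArg _ h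

theorem AA_of_ob {p : V} {ω y : X} (h : ob Q p y = ob Q p ω) : AA Q p y = AA Q p ω := by
  rw [AA, AA, SS_of_ob h]

variable (Q X) in
noncomputable def OO (p : V) : Finset (Set X) := Orbs (DD Q p) (rho Q p) X fun _ => True

theorem mem_OO {p : V} {O : Set X} : O ∈ OO Q X p ↔ ∃ ω, ob Q p ω = O := by simp [OO, mem_Orbs]

theorem sum_OO (p : V) : ∑ O ∈ OO Q X p, O.ncard = Nat.card X := by
  rw [OO, (rr Q p).sum_Orbs]; simp

variable (Q X) in
noncomputable def MM (p x : V) : Finset (Set X) := (rr Q p).M (polarBilin Q) X (fun _ => True) x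

theorem mem_MM {p x : V} {O : Set X} : O ∈ MM Q X p x ↔ ∃ ω, ob Q p ω = O ∧ x ∈ AA Q p ω := by
  simp [MM, RR.mem_M, AA, SS]

theorem ob_mem_MM {p x : V} {ω : X} : ob Q p ω ∈ MM Q X p x ↔ x ∈ AA Q p ω :=
  mem_MM.trans ⟨fun ⟨_, e, h⟩ => AA_of_ob e ▸ h, fun h => ⟨ω, rfl, h⟩⟩

theorem card_MM_g (g : Om Q) (p x : V) : (MM Q X (g • p) (g • x)).card = (MM Q X p x).card := by
  symm
  refine Finset.card_bij (fun O _ => g • O) ?_ (fun _ _ _ _ h => by simpa using h) ?_
  · intro O hO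
    obtain ⟨ω, rfl, h⟩ := mem_MM.1 hO
    exact mem_MM.2 ⟨g • ω, ob_g _ _ _, (g_mem_AA g).2 h⟩
  · intro O hO
    obtain ⟨ω, rfl, h⟩ := mem_MM.1 hO
    exact ⟨_, ob_mem_MM.2 ((g_mem_AA g).1 (by simpa using h : g • x ∈ AA Q (g • p) (g • g⁻¹ • ω))),
      by rw [← ob_g, smul_inv_smul]⟩

theorem MM_smul {p : V} (hp : Q p = 0) {c : F} (hc : c ≠ 0) (x : V) :
    MM Q X (c • p) (c • x) = MM Q X p x := by
  ext O; simp only [mem_MM, ob_smul hp hc, smul_mem_AA hp hc]

end Cfsg.Agent.H26.MD
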