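import Mathlib
import Cfsg.Agent.H26.MO1

/-! Transitivity lemmas and the basic count. -/

set_option autoImplicit false
set_option linter.unusedSectionVars false

namespace Cfsg.Agent.H26.MD

open Module QuadraticMap H13
open scoped Pointwise

variable {F V : Type*} [Field F] [Finite F] [AddCommGroup V] [Module F V] [FiniteDimensional F V]
  [Finite V] {Q : QuadraticForm F V} [hC : OC Q]

local notation "B" => polar Q
local notation "q" => Nat.card F
local notation "n" => finrank F V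

theorem hp_of {u y : V} (hu : Q u = 0) (h : B u y ≠ 0) :
    HP Q u ((B u y)⁻¹ • y - Q ((B u y)⁻¹ • y) • u) :=
  ⟨hu, by simp [Q_sub, Q_smul, hu, polar_comm Q y u, h], by simp [Bss hu, h]⟩

theorem exists_hp_perp (hn : 7 ≤ n) (a b : V) :
    ∃ u v, HP Q u v ∧ B a u = 0 ∧ B b u = 0 ∧ B a v = 0 ∧ B b v = 0 := by
  obtain ⟨C, hC'⟩ := (Submodule.span F {a, b}).exists_isCompl
  have h1 := hC.nd.finrank_perp (Submodule.span F {a, b})
  have h2 := Submodule.finrank_add_eq_of_isCompl hC'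
  have h3 := Submodule.finrank_sup_add_finrank_inf_eq (pp Q a b) C
  have h4 := Submodule.finrank_le (pp Q a b ⊔ C)
  have h5 := finrank_span_pair_le (F := F) a b
  obtain ⟨u, hu, hu0, hQ⟩ := exists_singular_mem Q (H := pp Q a b ⊓ C) (by unfold pp at *; omega)
  obtain ⟨y, hy, hB⟩ := hC.nd.exists_perp_polar_ne (H := Submodule.span F {a, b}) (x := u)
    fun h => hu0 (Submodule.disjoint_def.1 hC'.disjoint u h hu.2)
  have hu1 := mem_perp_pair.1 hu.1
  have hy1 := mem_perp_pair.1 hy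
  exact ⟨u, _, hp_of hQ hB, hu1.1, hu1.2, by simp [hu1.1, hy1.1], by simp [hu1.2, hy1.2]⟩

theorem exists_sing (hn : 7 ≤ n) {a b v : V} (hv : v ∉ Submodule.span F {a, b}) :
    ∃ u, Q u = 0 ∧ B a u = 0 ∧ B b u = 0 ∧ B u v ≠ 0 := by
  by_contra! h
  obtain ⟨u, w, huw, h1, h2, h3, h4⟩ := exists_hp_perp (Q := Q) hn a b
  obtain ⟨y, hy, hB⟩ := hC.nd.exists_perp_polar_ne hv
  refine hB (polar_comm Q v y ▸ singular_induction (H := pp Q a b) (p := fun x => B x v = 0) huw.Qu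
    (mem_perp_pair.2 ⟨h1, h2⟩) (mem_perp_pair.2 ⟨h3, h4⟩) (by simp [huw.uv])
    (fun x hx hQ => h x hQ (mem_perp_pair.1 hx).1 (mem_perp_pair.1 hx).2)
    (fun x _ y _ hx hy => by simp [hx, hy]) y hy)

theorem fixOm {u v : V} (h : HP Q u v) (g : OG Q) :
    ∃ g' : Om Q, ∀ x, B u x = 0 → B v x = 0 → g' • x = g.1 x := by
  obtain ⟨y, hy, hg⟩ := hC.nd.exists_mul_mem_Om (good_of_five hC.five)
    (p := fun y => ∀ x, B u x = 0 → B v x = 0 → y.1 x = x) (fun _ _ _ => rfl)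
    (fun a b ha hb x h1 h2 => by rw [OG_mul_apply, hb x h1 h2, ha x h1 h2])
    ⟨u + v, by simp [Q_add, h.Qu, h.Qv, h.uv], fun x h1 h2 => refl_apply_of_perp (by simp [h1, h2])⟩
    (fun h2 => by
      obtain ⟨c, hc, hs⟩ := exists_sgn_eq_neg_one h2
      exact ⟨h.torus (Units.mk0 c hc), fun x h1 h2 => h.torus_pp _ ⟨x, mem_perp_pair.2 ⟨h1, h2⟩⟩,
        h.dickson_torus _ _ _, (h.spinor_torus _ _ _).trans hs⟩) g
  exact ⟨⟨_, hg⟩, fun x h1 h2 => by rw [g_def, OG_mul_apply, hy x h1 h2]⟩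

theorem trans1 (hn : 7 ≤ n) {x y : V} (hx : x ≠ 0) (hy : y ≠ 0) (h : Q y = Q x) :
    ∃ g : Om Q, g • x = y := by
  obtain ⟨g, hg⟩ := hC.nd.witt_one hx hy h
  obtain ⟨u, v, huv, h1, -, h3, -⟩ := exists_hp_perp (Q := Q) hn x x
  obtain ⟨g', hg'⟩ := fixOm huv g
  exact ⟨g', by rw [hg' x (by rwa [polar_comm]) (by rwa [polar_comm]), hg]⟩

theorem trans2 (hn : 7 ≤ n) {p y y' : V} (hp : p ≠ 0) (hy : y ∉ F ∙ p) (hy' : y' ∉ F ∙ p)
    (h : Q y' = Q y) (hB : B p y' = B p y) : ∃ g : Om Q, g • p = p ∧ g • y = y' := by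
  obtain ⟨g, hg, hg2⟩ := hC.nd.witt_two (linearIndependent_pair_of_notMem hp hy)
    (linearIndependent_pair_of_notMem hp hy') rfl h hB
  obtain ⟨u, v, huv, h1, h2, h3, h4⟩ := exists_hp_perp (Q := Q) hn p y
  obtain ⟨g', hg'⟩ := fixOm huv g
  exact ⟨g', by rw [hg' p (by rwa [polar_comm]) (by rwa [polar_comm]), hg],
    by rw [hg' y (by rwa [polar_comm]) (by rwa [polar_comm]), hg2]⟩

theorem sum_shift [Fintype F] (T : Finset V) {x : V} (hx : Q x = 0)
    (hT : ∀ y ∈ T, ∀ t : F, y + t • x ∈ T) (hB : ∀ y ∈ T, B x y ≠ 0) (f : F → ℕ) :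
    q * ∑ y ∈ T, f (Q y) = T.card * ∑ c, f c := by
  have h1 : ∀ y ∈ T, ∑ t : F, f (Q (y + t • x)) = ∑ c, f c := fun y hy =>
    Fintype.sum_equiv ((Equiv.mulRight₀ _ (hB y hy)).trans (Equiv.addLeft (Q y))) _ _ fun t => by
      simp [Q_add, Q_smul, hx, polar_comm Q y x]
  have h2 : ∀ t : F, ∑ y ∈ T, f (Q (y + t • x)) = ∑ y ∈ T, f (Q y) := fun t =>
    Finset.sum_bij' (fun y _ => y + t • x) (fun y _ => y + (-t) • x) (fun y hy => hT y hy t)
      (fun y hy => hT y hy _) (fun y _ => by simp) (fun y _ => by simp) fun _ _ => rfl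
  rw [← smul_eq_mul T.card, ← Finset.sum_const, ← Finset.sum_congr rfl h1, Finset.sum_comm]
  simp [h2]

theorem card_DD2 {p x : V} (hp : p ≠ 0) (hx : x ∉ F ∙ p) : Nat.card (DD2 Q p x) = q ^ (n - 2) := by
  rw [← finrank_span_pair_eq (linearIndependent_pair_of_notMem hp hx), ← card_perp (Q := Q)]; rfl

theorem card_le_ker (A : AddSubgroup V) (x : V) :
    Nat.card A ≤ q * {y | y ∈ A ∧ B x y = 0}.ncard := by
  let φ : A →+ F := (polarBilin Q x).toAddMonoidHom.comp A.subtype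
  rw [← φ.ker.card_mul_index, AddSubgroup.index_ker, mul_comm]
  refine Nat.mul_le_mul (Nat.card_le_card_of_injective _ Subtype.val_injective) ?_
  exact Nat.card_le_card_of_injective (fun y => ⟨y.1.1, y.1.2, y.2⟩)
    fun _ _ h => Subtype.ext (Subtype.ext (by simpa using h))

theorem ncard_split (A : AddSubgroup V) (x : V) :
    {y | y ∈ A ∧ B x y = 0}.ncard + {y | y ∈ A ∧ B x y ≠ 0}.ncard = Nat.card A := by
  rw [← Set.ncard_union_eq (Set.disjoint_left.2 fun y h h' => h'.2 h.2)]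
  exact congrArg Set.ncard (by ext y; by_cases h : B x y = 0 <;> simp [h])

variable {X : Type*} [MulAction (Om Q) X] [Finite X]

theorem exists_mu [Fintype F] (hn : 7 ≤ n) {p x : V} (hp : Q p = 0) (hp0 : p ≠ 0) (hx : Q x = 0)
    (hpx : B p x = 0) (hxp : x ∉ F ∙ p) : ∃ μ : F → ℕ,
    (∀ y, B p y = 0 → y ∉ F ∙ p → (MM Q X p y).card = μ (Q y)) ∧ (∀ c t, t ≠ 0 → μ (t ^ 2 * c) = μ c) ∧
    ∀ S ⊆ OO Q X p, (∀ ω, ob Q p ω ∈ S → ∀ a ∈ AA Q p ω, B x a = 0) →
      (∑ c, μ c) * q ^ (n - 3) + ∑ O ∈ S, O.ncard ≤ Nat.card X := by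
  classical
  have := Fintype.ofFinite V
  obtain ⟨v, hv, hxv, hvp⟩ := hC.nd.exists_partner (F ∙ p) hx hxp fun h hh => by
    obtain ⟨c, rfl⟩ := Submodule.mem_span_singleton.1 hh
    simp [polar_comm Q x p, hpx]
  have hpv : B p v = 0 := by rw [polar_comm]; exact hvp p (Submodule.mem_span_singleton_self p)
  have hnot : ∀ y, B x y ≠ 0 → y ∉ F ∙ p := fun y hy h => by
    obtain ⟨c, rfl⟩ := Submodule.mem_span_singleton.1 h
    simp [polar_comm Q x p, hpx] at hy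
  have hQ : ∀ c : F, Q (v + c • x) = c := fun c => by simp [Q_add, Q_smul, hv, hx, polar_comm Q v x, hxv]
  have h0 : ∀ c : F, v + c • x ∉ F ∙ p := fun c => hnot _ (by simp [hxv, Bss hx])
  have h1 : ∀ y, B p y = 0 → y ∉ F ∙ p → (MM Q X p y).card = (MM Q X p (v + Q y • x)).card := by
    intro y hy hyp
    obtain ⟨g, hg, hg2⟩ := trans2 (Q := Q) hn hp0 hyp (h0 (Q y)) (hQ _) (by simp [hy, hpv, hpx])
    rw [← card_MM_g g, hg, hg2]
  refine ⟨fun c => (MM Q X p (v + c • x)).card, h1, fun c t ht => ?_, fun S hS hS' => ?_⟩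
  · obtain ⟨g, hg⟩ := trans1 (Q := Q) hn (smul_ne_zero (inv_ne_zero ht) hp0) hp0 (by simp [Q_smul, hp])
    have e1 := h1 (t • (v + c • x)) (by simp [hpv, hpx]) (hnot _ (by simp [hxv, Bss hx, ht]))
    have e2 := MM_smul (Q := Q) (X := X) (p := t⁻¹ • p) (by simp [Q_smul, hp]) ht (v + c • x)
    have e3 := card_MM_g (X := X) g (t⁻¹ • p) (v + c • x)
    have e4 := h1 (g • (v + c • x)) (by rw [← hg, Bg]; simp [hpv, hpx]) (by
      rw [← hg]; refine g_notMem g fun h => h0 c ?_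
      rwa [Submodule.span_singleton_smul_eq (inv_ne_zero ht).isUnit] at h)
    rw [smul_inv_smul₀ ht] at e2
    rw [Q_smul, hQ] at e1
    rw [Qg, hQ] at e4
    rw [hg] at e3
    simp only [← e1, e2, ← e3, e4]
  set T := Finset.univ.filter fun y => B p y = 0 ∧ B x y ≠ 0 with hT
  have c1 := sum_shift T hx (fun y hy t => by simpa [hT, hpx, Bss hx] using hy)
    (fun y hy => (Finset.mem_filter.1 hy).2.2) fun c => (MM Q X p (v + c • x)).card
  rw [← Finset.sum_congr rfl fun y hy => h1 y (Finset.mem_filter.1 hy).2.1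
    (hnot y (Finset.mem_filter.1 hy).2.2)] at c1
  have c2 : q ^ (n - 2) + T.card = q ^ (n - 1) := by
    rw [← card_DD (Q := Q) hp0, ← ncard_split (Q := Q) _ x, ← card_DD2 (Q := Q) hp0 hxp, ← Set.ncard_coe_finset]
    congr 1
    · exact congrArg Set.ncard (by ext y; simp [mem_DD, mem_DD2])
    · exact congrArg Set.ncard (by ext y; simp [mem_DD, hT])
  have c3 : ∑ y ∈ T, (MM Q X p y).card = ∑ O ∈ OO Q X p, (T.filter fun y => O ∈ MM Q X p y).card := by
    simp only [Finset.card_filter]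
    rw [Finset.sum_comm]
    refine Finset.sum_congr rfl fun y _ => ?_
    rw [← Finset.card_filter]
    congr 1; ext O
    simp only [Finset.mem_filter, iff_and_self]
    exact fun h => (mem_MM.1 h).elim fun ω h => mem_OO.2 ⟨ω, h.1⟩
  have c4 : ∀ O ∈ OO Q X p, (T.filter fun y => O ∈ MM Q X p y).card +
      (q - 1) * (if O ∈ S then O.ncard else 0) ≤ (q - 1) * O.ncard := by
    intro O hO
    obtain ⟨ω, rfl⟩ := mem_OO.1 hO
    have e : (T.filter fun y => ob Q p ω ∈ MM Q X p y).card =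
        {y | y ∈ AA Q p ω ∧ B x y ≠ 0}.ncard := by
      rw [← Set.ncard_coe_finset]; congr 1; ext y
      simp only [hT, ob_mem_MM, Finset.coe_filter, Finset.mem_filter, Finset.mem_univ, true_and,
        Set.mem_setOf_eq]
      exact ⟨fun h => ⟨h.2, h.1.2⟩, fun h => ⟨⟨perp_of_AA hp h.1, h.2⟩, h.1⟩⟩
    rw [e]
    split_ifs with h
    · rw [Set.eq_empty_of_forall_notMem (s := {y | y ∈ AA Q p ω ∧ B x y ≠ 0})
        fun y hy => hy.2 (hS' ω h y hy.1)]; simp
    · have e1 := card_le_ker (Q := Q) (AA Q p ω) x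
      have e2 := ncard_split (Q := Q) (AA Q p ω) x
      rw [card_AA hp0] at e1 e2
      have := Nat.le_of_mul_le_mul_left e1 Nat.card_pos
      rw [Nat.sub_mul q 1 (ob Q p ω).ncard]; omega
  have c5 := Finset.sum_le_sum c4
  rw [Finset.sum_add_distrib, ← Finset.mul_sum, ← Finset.mul_sum, sum_OO, ← c3, ← Finset.sum_filter,
    Finset.filter_mem_eq_inter, Finset.inter_eq_right.2 hS] at c5
  have hq := two_le_q (F := F)
  obtain ⟨k, hk⟩ : ∃ k, n = k + 3 := ⟨n - 3, by omega⟩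
  obtain ⟨r, hr⟩ : ∃ r, q = r + 1 := ⟨q - 1, by omega⟩
  simp only [hk, hr, Nat.add_sub_cancel, show k + 3 - 2 = k + 1 by omega,
    show k + 3 - 1 = k + 2 by omega] at c1 c2 c5 ⊢
  have c6 : T.card = (r + 1) * (r * (r + 1) ^ k) := by
    have : (r + 1) ^ (k + 2) = (r + 1) ^ (k + 1) + (r + 1) * (r * (r + 1) ^ k) := by ring
    omega
  rw [c6, mul_assoc] at c1
  rw [Nat.eq_of_mul_eq_mul_left (Nat.succ_pos r) c1] at c5
  refine Nat.le_of_mul_le_mul_left (?_ : r * _ ≤ r * _) (by omega)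
  rw [mul_add, mul_comm (∑ c, _), ← mul_assoc]; exact c5

end Cfsg.Agent.H26.MD
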