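import Mathlib
import Cfsg.Agent.H26.MO2

/-! Stabilisers of orbits; singular vectors of an annihilator. -/

set_option autoImplicit false
set_option linter.unusedSectionVars false

namespace Cfsg.Agent.H26.MD

open Module QuadraticMap H13
open scoped Pointwise

variable {F V : Type*} [Field F] [Finite F] [AddCommGroup V] [Module F V] [FiniteDimensional F V]
  [Finite V] {Q : QuadraticForm F V} [hC : OC Q]

local notation "B" => polar Q
local notation "q" => Nat.card F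
local notation "n" => finrank F V

variable (Q) in
def dl (u v w : V) : V := B w v • u - B u v • (w + Q w • u)

theorem rho_eq_dl {u w : V} (hu : Q u = 0) (hw : B u w = 0) (v : V) :
    rho Q u w • v = v + dl Q u v w := by rw [rho_apply hu hw, dl, add_sub_assoc]

theorem B_dl {u w : V} (hu : Q u = 0) (hw : B u w = 0) (v : V) : B u (dl Q u v w) = 0 := by
  simp [dl, Bss hu, hw]

theorem Q_dl {u w : V} (hu : Q u = 0) (hw : B u w = 0) (v : V) :
    Q (dl Q u v w) = B u v ^ 2 * Q w := by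
  simp [dl, Q_sub, Q_add, Q_smul, hu, hw, polar_comm Q w u, Bss hu]

theorem mem_of_dl {u v w : V} (hv : B u v ≠ 0) {W : Submodule F V} (hu : u ∈ W)
    (h : dl Q u v w ∈ W) : w ∈ W := by
  have : w = (B u v)⁻¹ • (B w v • u - dl Q u v w) - Q w • u := by simp [dl, hv]
  rw [this]
  exact W.sub_mem (W.smul_mem _ (W.sub_mem (W.smul_mem _ hu) h)) (W.smul_mem _ hu)

section
variable {u v : V} {A T : AddSubgroup V} (hu : Q u = 0) (hT : ∀ w ∈ T, polar Q u w = 0)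
  (hA : ∀ w ∈ T, ∀ a ∈ A, rho Q u w • a ∈ A) (hv : v ∈ A)
include hu hT hA hv

theorem dl_mem {w : V} (hw : w ∈ T) : dl Q u v w ∈ A := by
  simpa [rho_eq_dl hu (hT w hw)] using A.sub_mem (hA w hw v hv) hv

theorem BB_mem {w w' : V} (hw : w ∈ T) (hw' : w' ∈ T) : (B u v * B w' w) • u ∈ A := by
  have h1 := dl_mem hu hT hA hv hw
  have h2 := A.sub_mem h1 (hA w' hw' _ h1)
  rw [rho_perp hu (hT w' hw') (B_dl hu (hT w hw) v)] at h2
  simpa [dl, polar_comm Q w' u, hT w' hw'] using h2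

theorem card_T_le (hb : B u v ≠ 0) : Nat.card T ≤ q * {a | a ∈ A ∧ B u a = 0}.ncard := by
  rw [← Nat.card_coe_set_eq, ← Nat.card_prod]
  refine Nat.card_le_card_of_injective (fun w => (B w v - B u v * Q w,
    ⟨dl Q u v w, dl_mem hu hT hA hv w.2, B_dl hu (hT _ w.2) v⟩)) fun w w' h => ?_
  simp only [Prod.mk.injEq, Subtype.mk.injEq] at h
  have e : ∀ w, dl Q u v w = (B w v - B u v * Q w) • u - B u v • w := fun w => by
    simp only [dl]; module
  obtain ⟨h1, h2⟩ := h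
  rw [e, e, h1, sub_right_inj] at h2
  exact Subtype.ext (smul_right_injective V hb h2)

end

theorem iso_card {T : AddSubgroup V} {c : F} (hc : c ≠ 0)
    (h : ∀ a ∈ T, ∀ b ∈ T, psi F (c * B a b) = 1) : Nat.card T * Nat.card T ≤ q ^ n := by
  rw [← card_eq_pow, ← card_Ann (hβ (Q := Q)) T]
  refine Nat.mul_le_mul_right _ (Nat.card_le_card_of_injective
    (fun a => ⟨c • a.1, fun b hb => by simpa using h a a.2 b hb⟩) fun a b e => ?_)
  exact Subtype.ext (smul_right_injective V hc (congrArg Subtype.val e))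

theorem full_line {A T : AddSubgroup V} {u : V} {b : F} (hb : b ≠ 0)
    (h : ∀ w ∈ T, ∀ w' ∈ T, (b * B w w') • u ∈ A) (hT : q ^ n < Nat.card T * Nat.card T) (c : F) :
    c • u ∈ A := by
  let A0 : AddSubgroup F := A.comap (LinearMap.toSpanSingleton F V u).toAddMonoidHom
  refine mem_of_Ann (β := LinearMap.mul F F) (S := A0) (fun w h => by simpa using h 1) fun a ha => ?_
  by_cases h0 : a = 0
  · simp [h0]
  · exact absurd (iso_card (Q := Q) (mul_ne_zero h0 hb) fun w hw w' hw' => by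
      simpa [mul_assoc] using ha (b * B w w') (h w hw w' hw')) hT.not_ge

theorem le_q {i k : ℕ} (hi : i ∣ q ^ k) (h : i ≤ q + 1) : i ≤ q := by
  by_contra h'
  obtain rfl : i = q + 1 := by omega
  have := Nat.Coprime.eq_one_of_dvd (Nat.Coprime.pow_right k (by simp)) hi
  have := two_le_q (F := F); omega

theorem card_ge {i t k : ℕ} (h : i * t = q ^ (k + 1)) (hi : i ≤ q + 1) : q ^ k ≤ t := by
  have := le_q (F := F) (Dvd.intro _ h) hi
  refine Nat.le_of_mul_le_mul_left (?_ : q * _ ≤ q * _) Nat.card_pos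
  rw [← pow_succ', ← h]; exact Nat.mul_le_mul_right _ this

variable {X : Type*} [MulAction (Om Q) X] [Finite X]

theorem AA_inv {p : V} {ω : X} {g : Om Q} (hg : g • p = p) (h : g • ob Q p ω = ob Q p ω) {a : V}
    (ha : a ∈ AA Q p ω) : g • a ∈ AA Q p ω := by
  rw [← ob_g, hg] at h
  rw [← AA_of_ob h]; simpa [hg] using (g_mem_AA g).2 ha

theorem SS_inv {p : V} {ω : X} {g : Om Q} (hg : g • p = p) (h : g • ob Q p ω = ob Q p ω) {a : V}
    (ha : a ∈ SS Q p ω) : g • a ∈ SS Q p ω := by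
  rw [← ob_g, hg] at h
  rw [← SS_of_ob h]; simpa [hg] using (g_mem_SS g).2 ha

section
variable {p u : V} {D : AddSubgroup V} (hpu : polar Q p u = 0) (hD : ∀ w ∈ D, polar Q u w = 0)
  (hD' : ∀ w ∈ D, polar Q p w = 0) (ω : X)

/-- the stabiliser of an orbit -/
noncomputable abbrev TT (p : V) (ω : X) : AddSubgroup V := (rr_le u hD).St ({ob Q p ω} : Set (Set X))

variable (Q) in
abbrev JJ (D : AddSubgroup V) (u p : V) (ω : X) : Set (Set X) := orb D (rho Q u) (ob Q p ω)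

theorem card_JJ (p : V) : (JJ Q D u p ω).ncard * Nat.card (TT hD p ω) = Nat.card D :=
  (rr_le u hD).ncard_orb _

theorem mem_TT {w : V} : w ∈ TT hD p ω ↔ w ∈ D ∧ rho Q u w • ob Q p ω = ob Q p ω :=
  RR.mem_St_one _

include hpu hD'

theorem rho_p {w : V} (hw : w ∈ D) : rho Q u w • p = p :=
  rho_fix (by rwa [polar_comm]) (by rw [polar_comm]; exact hD' w hw)

theorem TT_AA (w : V) (hw : w ∈ TT hD p ω) (a : V) (ha : a ∈ AA Q p ω) : rho Q u w • a ∈ AA Q p ω :=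
  AA_inv (rho_p hpu hD' hw.1) ((mem_TT hD ω).1 hw).2 ha

theorem TT_SS (w : V) (hw : w ∈ TT hD p ω) (a : V) (ha : a ∈ SS Q p ω) : rho Q u w • a ∈ SS Q p ω :=
  SS_inv (rho_p hpu hD' hw.1) ((mem_TT hD ω).1 hw).2 ha

theorem JJ_mul_le : (JJ Q D u p ω).ncard * (ob Q p ω).ncard ≤ Nat.card X := by
  rw [← sum_OO (Q := Q) p, Set.ncard_eq_toFinset_card _ (Set.toFinite _), ← smul_eq_mul,
    ← Finset.sum_const]
  refine (Finset.sum_congr rfl fun O hO => ?_).le.trans (Finset.sum_le_sum_of_subset fun O hO => ?_)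
  · obtain ⟨w, -, rfl⟩ := (Set.Finite.mem_toFinset _).1 hO
    exact (Set.ncard_smul_set _ _).symm
  · obtain ⟨w, hw, rfl⟩ := (Set.Finite.mem_toFinset _).1 hO
    exact mem_OO.2 ⟨rho Q u w • ω, by rw [← ob_g, rho_p hpu hD' hw]⟩

theorem JJ_sub {x : V} (hx : x ∈ AA Q p ω) (hux : B u x = 0) (hDx : ∀ w ∈ D, B x w = 0) :
    JJ Q D u p ω ⊆ MM Q X p x := by
  rintro _ ⟨w, hw, rfl⟩
  have := (g_mem_AA (rho Q u w)).2 hx
  rw [rho_p hpu hD' hw, rho_fix hux (by rw [polar_comm]; exact hDx w hw)] at this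
  rw [← ob_g, rho_p hpu hD' hw]
  exact ob_mem_MM.2 this

theorem JJ_le {x : V} (hx : x ∈ AA Q p ω) (hux : B u x = 0) (hDx : ∀ w ∈ D, B x w = 0) :
    (JJ Q D u p ω).ncard ≤ (MM Q X p x).card :=
  Set.ncard_coe_finset (MM Q X p x) ▸ Set.ncard_le_ncard (JJ_sub hpu hD' ω hx hux hDx)

end

theorem notMem_of_B {p x y : V} (hp : B p x = 0) (h : B x y ≠ 0) : y ∉ F ∙ p := fun hy => by
  obtain ⟨c, rfl⟩ := Submodule.mem_span_singleton.1 hy
  simp [polar_comm Q x p, hp] at h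

theorem exists_x {p : V} (hp : Q p = 0) : ∃ x, Q x = 0 ∧ B p x = 0 ∧ x ∉ F ∙ p :=
  hC.nd.exists_singular_perp_notMem hC.five p

variable (hn : 7 ≤ finrank F V) (hX : Nat.card X < (Nat.card F + 2) * Nat.card F ^ (finrank F V - 3))
include hn hX

theorem exists_mu' [Fintype F] {p : V} (hp : Q p = 0) (hp0 : p ≠ 0) : ∃ μ : F → ℕ,
    (∀ y, B p y = 0 → y ∉ F ∙ p → (MM Q X p y).card = μ (Q y)) ∧ (∀ c t, t ≠ 0 → μ (t ^ 2 * c) = μ c) ∧
    ∑ c, μ c ≤ q + 1 := by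
  obtain ⟨x, hx, h1, h2⟩ := exists_x hp
  obtain ⟨μ, h3, h4, h5⟩ := exists_mu (X := X) hn hp hp0 hx h1 h2
  have := h5 ∅ (by simp) (by simp)
  exact ⟨μ, h3, h4, Nat.le_of_lt_succ (Nat.lt_of_mul_lt_mul_right
    (lt_of_le_of_lt (by simpa using this) hX))⟩

theorem MM_le {p y : V} (hp : Q p = 0) (hp0 : p ≠ 0) (h : B p y = 0) (hy : y ∉ F ∙ p) :
    (MM Q X p y).card ≤ q + 1 := by
  have := Fintype.ofFinite F
  obtain ⟨μ, h1, -, h2⟩ := exists_mu' hn hX hp hp0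
  rw [h1 y h hy]
  exact (Finset.single_le_sum (fun _ _ => Nat.zero_le _) (Finset.mem_univ _)).trans h2

theorem lemB1 {p x y : V} {ω : X} (hp : Q p = 0) (hp0 : p ≠ 0) (hx : x ∈ AA Q p ω) (hQ : Q x = 0)
    (hy : y ∈ AA Q p ω) (hB : B x y ≠ 0) : (∀ c : F, c • x ∈ AA Q p ω) ∧
    ∃ T : AddSubgroup V, q ^ (n - 3) ≤ Nat.card T ∧ ∀ w ∈ T, B x w = 0 ∧ B x y • w ∈ AA Q p ω := by
  have hpx := perp_of_AA hp hx
  have hxp : x ∉ F ∙ p := notMem_of_B (perp_of_AA hp hy) (by rwa [polar_comm])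
  have hD : ∀ w ∈ DD2 Q p x, B x w = 0 := fun w hw => (mem_DD2.1 hw).2
  have hD' : ∀ w ∈ DD2 Q p x, B p w = 0 := fun w hw => (mem_DD2.1 hw).1
  have h1 := card_JJ hD ω p
  rw [card_DD2 hp0 hxp, show n - 2 = n - 3 + 1 by omega] at h1
  have h2 := card_ge h1 ((JJ_le hpx hD' ω hx (Bss hQ) hD).trans (MM_le hn hX hp hp0 hpx hxp))
  have hT : ∀ w ∈ TT hD p ω, B x w = 0 := fun w hw => hD w hw.1
  have h3 := full_line (Q := Q) hB (fun w hw w' hw' => BB_mem hQ hT (TT_AA hpx hD hD' ω) hy hw' hw)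
    (lt_of_lt_of_le (by rw [← pow_add]; exact Nat.pow_lt_pow_right two_le_q (by omega))
      (Nat.mul_le_mul h2 h2))
  refine ⟨h3, _, h2, fun w hw => ⟨hT w hw, ?_⟩⟩
  have := (AA Q p ω).sub_mem (h3 (B w y - B x y * Q w)) (dl_mem hQ hT (TT_AA hpx hD hD' ω) hy hw)
  convert this using 1
  simp only [dl]; module

theorem lemB {p x y : V} {ω : X} (hp : Q p = 0) (hp0 : p ≠ 0) (hx : x ∈ AA Q p ω) (hQ : Q x = 0)
    (hy : y ∈ AA Q p ω) (hB : B x y ≠ 0) : ∀ s ∈ SS Q p ω, s ∈ F ∙ p := by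
  obtain ⟨h1, T, h2, h3⟩ := lemB1 hn hX hp hp0 hx hQ hy hB
  set z := y - (Q y / B x y) • x with hz
  have hxz : B x z = B x y := by simp [hz, Bss hQ]
  obtain ⟨h4, -⟩ := lemB1 hn hX hp hp0 ((AA Q p ω).sub_mem hy (h1 (Q y / B x y)))
    (by simp [Q_sub, Q_smul, hQ, polar_comm Q y x, hB]) hx (by rw [polar_comm]; exact hxz.trans_ne hB)
  have h5 : Nat.card T * q ≤ Nat.card (AA Q p ω) := by
    rw [← Nat.card_prod]
    refine Nat.card_le_card_of_injective (fun a => ⟨B x y • a.1.1 + a.2 • z,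
      (AA Q p ω).add_mem (h3 _ a.1.2).2 (h4 _)⟩) fun a b e => ?_
    simp only [Subtype.mk.injEq] at e
    have e1 := congrArg (B x) e
    simp only [polar_add_right, polar_smul_right, (h3 _ a.1.2).1, (h3 _ b.1.2).1, hxz, smul_eq_mul,
      mul_zero, zero_add, mul_left_inj' hB] at e1
    rw [e1, add_left_inj] at e
    exact Prod.ext (Subtype.ext (smul_right_injective V hB e)) e1
  have hq := two_le_q (F := F)
  have h6 : q ^ (n - 3) ≤ (ob Q p ω).ncard := by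
    rw [card_AA hp0, mul_comm] at h5
    exact h2.trans (Nat.le_of_mul_le_mul_left h5 Nat.card_pos)
  have h7 : Nat.card (SS Q p ω) ≤ q ^ 2 := by
    refine Nat.le_of_mul_le_mul_left (?_ : q ^ (n - 2) * _ ≤ _) (by positivity)
    rw [← pow_add, show n - 2 + 2 = n by omega, ← card_AA_SS (Q := Q) p ω, card_AA hp0,
      show n - 2 = n - 3 + 1 by omega, pow_succ']
    gcongr
  intro s hs
  by_contra hsp
  obtain ⟨u, hu, hpu, -, hus⟩ := exists_sing (Q := Q) hn (a := p) (b := p) (v := s) (by simpa using hsp)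
  have hup : u ∉ F ∙ p := notMem_of_B (mem_SS.1 hs).1 (by rwa [polar_comm])
  have hD : ∀ w ∈ DD2 Q p u, B u w = 0 := fun w hw => (mem_DD2.1 hw).2
  have hD' : ∀ w ∈ DD2 Q p u, B p w = 0 := fun w hw => (mem_DD2.1 hw).1
  have e1 := card_JJ hD ω p
  rw [card_DD2 hp0 hup, show n - 2 = n - 3 + 1 by omega] at e1
  have e2 := card_ge e1 (Nat.le_of_lt_succ (Nat.lt_of_mul_lt_mul_right
    (((Nat.mul_le_mul_left _ h6).trans (JJ_mul_le hpu hD' ω)).trans_lt hX)))
  have e3 := card_T_le (T := TT hD p ω) hu (fun w hw => hD w hw.1) (TT_SS hpu hD hD' ω) hs hus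
  have e4 : {a | a ∈ SS Q p ω ∧ B u a = 0}.ncard ≤ Nat.card (SS Q p ω) :=
    Set.ncard_le_ncard (t := (SS Q p ω : Set V)) fun a h => h.1
  have e5 : q ^ (n - 3) ≤ q ^ 3 := by
    rw [pow_succ' q 2]; exact e2.trans (e3.trans (Nat.mul_le_mul_left _ (e4.trans h7)))
  have := (Nat.pow_le_pow_iff_right hq).1 e5
  omega

end Cfsg.Agent.H26.MD
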