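import Mathlib
import Cfsg.Agent.H13.Count
import Cfsg.Agent.H13.MaxSing
import Cfsg.Agent.H26.MO3

/-! The possible annihilators. -/

set_option autoImplicit false
set_option linter.unusedSectionVars false

namespace Cfsg.Agent.H26.MD

open Module QuadraticMap H13
open scoped Pointwise

variable {F V : Type*} [Field F] [Finite F] [AddCommGroup V] [Module F V] [FiniteDimensional F V]
  [Finite V] {Q : QuadraticForm F V} [hC : OC Q]

local notation "B" => polar Q
local notation "q" => Nat.card F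
local notation "n" => finrank F V

variable (Q) in
def DD3 (p x u : V) : AddSubgroup V := (perp Q (Submodule.span F {p, x} ⊔ F ∙ u)).toAddSubgroup
theorem mem_DD3 {p x u w : V} : w ∈ DD3 Q p x u ↔ (B p w = 0 ∧ B x w = 0) ∧ B u w = 0 := by
  rw [DD3, perp_sup, ← mem_perp_pair, ← mem_perp_singleton]; rfl
theorem D3u {p x u : V} : ∀ w ∈ DD3 Q p x u, B u w = 0 := fun _ hw => (mem_DD3.1 hw).2
theorem D3p {p x u : V} : ∀ w ∈ DD3 Q p x u, B p w = 0 := fun _ hw => (mem_DD3.1 hw).1.1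
theorem D3x {p x u : V} : ∀ w ∈ DD3 Q p x u, B x w = 0 := fun _ hw => (mem_DD3.1 hw).1.2

theorem card_DD3 {p x u : V} (hp : p ≠ 0) (hx : x ∉ F ∙ p) (hu : u ∉ Submodule.span F {p, x}) :
    Nat.card (DD3 Q p x u) = q ^ (n - 3) := by
  have := finrank_sup_span_singleton_of_notMem hu
  rw [finrank_span_pair_eq (linearIndependent_pair_of_notMem hp hx)] at this
  rw [show 3 = 2 + 1 from rfl, ← this, ← card_perp (Q := Q)]; rfl

theorem exists_sq [Fintype F] {c : F} (hc : c ≠ 0) : ∃ S : Finset F, (∀ a ∈ S, ∃ t, t ≠ 0 ∧ t ^ 2 * c = a) ∧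
    q - 1 ≤ 2 * S.card ∧ ((2 : F) = 0 → q - 1 ≤ S.card) := by
  classical
  have hc' : (Finset.univ.erase (0 : F)).card = q - 1 := by simp
  refine ⟨(Finset.univ.erase 0).image fun t => t ^ 2 * c, fun a ha => by simpa using ha, ?_, fun h2 => ?_⟩
  · rw [← hc']
    refine Finset.card_le_mul_card_image _ _ fun a ha => ?_
    obtain ⟨t, -, rfl⟩ := Finset.mem_image.1 ha
    refine (Finset.card_le_card fun s hs => ?_).trans (Finset.card_le_two (a := t) (b := -t))
    simpa [hc, sq_eq_sq_iff_eq_or_eq_neg] using (Finset.mem_filter.1 hs).2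
  · rw [← hc', Finset.card_image_of_injective]
    intro s t h
    rcases sq_eq_sq_iff_eq_or_eq_neg.1 (mul_right_cancel₀ hc h) with h | h
    · exact h
    · rw [h]; linear_combination (-t) * h2

theorem odd_q (h : (2 : F) ≠ 0) : q % 2 = 1 := by
  have := Fintype.ofFinite F
  rw [Nat.card_eq_fintype_card]
  exact FiniteField.odd_card_of_char_ne_two fun h' => h (by
    have := ringChar.Nat.cast_ringChar (R := F); rwa [h'] at this)

theorem card_pair_le (a b : V) : Nat.card (Submodule.span F {a, b}) ≤ q ^ 2 := by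
  rw [card_sub]; exact Nat.pow_le_pow_right Nat.card_pos (finrank_span_pair_le a b)

variable {X : Type*} [MulAction (Om Q) X] [Finite X]

variable (Q) in
noncomputable abbrev T3 (p x u : V) (ω : X) : AddSubgroup V :=
  TT (D3u (Q := Q) (p := p) (x := x) (u := u)) p ω

variable (Q) in
def Reg (p : V) (ω : X) : Prop := ∀ s ∈ SS Q p ω, s ∈ F ∙ p

variable (Q) in
structure Sp (p : V) (ω : X) (U : Submodule F V) : Prop where
  mem : ∀ a, a ∈ AA Q p ω ↔ a ∈ U
  rk : finrank F U = n - 4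
  le : n ≤ 8
  sing : ∀ a ∈ U, Q a = 0

variable (hn : 7 ≤ finrank F V) (hX : Nat.card X < (Nat.card F + 2) * Nat.card F ^ (finrank F V - 3))
include hn hX

section
variable {p x u v : V} {ω : X} (hp : Q p = 0) (hp0 : p ≠ 0) (hR : ¬ Reg Q p ω) (hx : x ∈ AA Q p ω)
  (hxp : x ∉ F ∙ p) (hv : v ∈ AA Q p ω) (hu : Q u = 0) (hpu : polar Q p u = 0)
  (hxu : polar Q x u = 0) (huv : polar Q u v ≠ 0)
include hp hp0 hR hx hxp hv hu hpu hxu huv

theorem lemA1 : (JJ Q (DD3 Q p x u) u p ω).ncard * Nat.card (T3 Q p x u ω)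
    = q ^ (n - 4 + 1) := by
  rw [card_JJ, card_DD3 hp0 hxp, show n - 4 + 1 = n - 3 by omega]
  intro h
  obtain ⟨a, b, rfl⟩ := Submodule.mem_span_pair.1 h
  simp only [polar_add_left, polar_smul_left, perp_of_AA hp hv, smul_eq_mul, mul_zero, zero_add,
    ne_eq, mul_eq_zero, not_or] at huv
  simp only [Q_add, Q_smul, hp, polar_smul_left, polar_smul_right, perp_of_AA hp hx, smul_eq_mul,
    mul_zero, zero_add, add_zero, mul_eq_zero, pow_eq_zero_iff two_ne_zero, huv.1, false_or] at hu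
  exact hR (lemB hn hX hp hp0 hx hu hv huv.2)

theorem lemA2 {w w' : V} (hw : w ∈ T3 Q p x u ω)
    (hw' : w' ∈ T3 Q p x u ω) : B w w' = 0 := by
  by_contra h
  exact hR (lemB hn hX hp hp0 (BB_mem (T := T3 Q p x u ω) hu (fun w hw => D3u w hw.1) (TT_AA hpu D3u D3p ω) hv hw' hw)
    (by simp [Q_smul, hu]) hv (by simp [h, huv]))

theorem lemA3 : (JJ Q (DD3 Q p x u) u p ω).ncard ≤ (MM Q X p x).card :=
  JJ_le hpu D3p ω hx (by rwa [polar_comm]) D3x

theorem lemA4 : q ^ (n - 4) ≤ Nat.card (T3 Q p x u ω) :=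
  card_ge (lemA1 hn hX hp hp0 hR hx hxp hv hu hpu hxu huv)
    ((lemA3 hn hX hp hp0 hR hx hxp hv hu hpu hxu huv).trans (MM_le hn hX hp hp0 (perp_of_AA hp hx) hxp))

theorem lemA5 : 2 ≤ (JJ Q (DD3 Q p x u) u p ω).ncard := by
  have h1 := lemA1 hn hX hp hp0 hR hx hxp hv hu hpu hxu huv
  have h2 := iso_card (Q := Q) (T := T3 Q p x u ω) one_ne_zero fun a ha b hb => by
    simp [lemA2 hn hX hp hp0 hR hx hxp hv hu hpu hxu huv ha hb]
  by_contra h
  obtain h | h : (JJ Q (DD3 Q p x u) u p ω).ncard = 0 ∨ (JJ Q (DD3 Q p x u) u p ω).ncard = 1 := by omega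
  · rw [h, zero_mul] at h1; exact (pow_pos Nat.card_pos _).ne h1
  · rw [h, one_mul] at h1
    rw [h1, ← pow_add, Nat.pow_le_pow_iff_right two_le_q] at h2; omega

end

theorem lemN {p y v : V} {ω : X} (hp : Q p = 0) (hp0 : p ≠ 0) (hR : ¬ Reg Q p ω) (hy : y ∈ AA Q p ω)
    (hQ : Q y ≠ 0) (hv : v ∈ AA Q p ω) : v ∈ Submodule.span F {p, y} := by
  classical
  have := Fintype.ofFinite F
  by_contra hvy
  have hyp : y ∉ F ∙ p := fun h => by
    obtain ⟨c, rfl⟩ := Submodule.mem_span_singleton.1 h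
    simp [Q_smul, hp] at hQ
  obtain ⟨u, hu, hpu, hyu, huv⟩ := exists_sing (Q := Q) hn hvy
  obtain ⟨μ, m1, m2, m3⟩ := exists_mu' hn hX hp hp0
  have h1 := lemA1 hn hX hp hp0 hR hy hyp hv hu hpu hyu huv
  have h3 := lemA3 hn hX hp hp0 hR hy hyp hv hu hpu hyu huv
  have h4 := lemA4 hn hX hp hp0 hR hy hyp hv hu hpu hyu huv
  have h5 := lemA5 hn hX hp hp0 hR hy hyp hv hu hpu hyu huv
  have h2 := @lemA2 _ _ _ _ _ _ _ _ _ _ _ _ _ hn hX _ _ _ _ _ hp hp0 hR hy hyp hv hu hpu hyu huv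
  rw [m1 y (perp_of_AA hp hy) hyp] at h3
  set i := (JJ Q (DD3 Q p y u) u p ω).ncard
  set T := T3 Q p y u ω
  have hi : i ∣ q ^ (n - 4 + 1) := Dvd.intro _ h1
  have hq := two_le_q (F := F)
  have hodd : q % 2 = 1 → i % 2 = 1 := fun h =>
    Nat.odd_iff.1 (Odd.of_dvd_nat (Nat.odd_iff.2 h).pow hi)
  by_cases h4q : 4 ≤ q
  · obtain ⟨S, s1, s2, s3⟩ := exists_sq hQ
    have : S.card * i ≤ q + 1 := by
      rw [← smul_eq_mul, ← Finset.sum_const]
      refine (Finset.sum_le_sum fun a ha => ?_).trans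
        ((Finset.sum_le_sum_of_subset (Finset.subset_univ _)).trans m3)
      obtain ⟨t, ht, rfl⟩ := s1 a ha
      rwa [m2 _ _ ht]
    by_cases h2 : (2 : F) = 0
    · have := s3 h2
      have : S.card * 2 ≤ q + 1 := (Nat.mul_le_mul_left _ h5).trans ‹_›
      omega
    · have h6 := odd_q h2
      have h7 := hodd h6
      have h8 : S.card * 3 ≤ q + 1 := (Nat.mul_le_mul_left _ (by omega)).trans this
      have h9 : q = 5 := by omega
      have h10 : 2 * i ≤ q + 1 := (Nat.mul_le_mul_right _ (by omega)).trans this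
      obtain h11 : i = 3 := by omega
      rw [h11, h9] at hi
      exact absurd (Nat.prime_three.dvd_of_dvd_pow hi) (by norm_num)
  have h6 : μ 0 ≤ 1 := by
    have := (Finset.sum_le_sum_of_subset (Finset.subset_univ {0, Q y})).trans m3
    rw [Finset.sum_pair hQ.symm] at this
    omega
  have h7 : q ^ 3 ≤ {w | w ∈ T ∧ Q w = 0}.ncard := by
    by_cases h8 : (2 : F) = 0
    · have h9 : 8 ≤ n := by
        by_contra h
        exact hC.nd.two_ne_zero_of_odd (by rw [show n = 7 by omega]; decide) h8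
      let φ : T →+ F := AddMonoidHom.mk' (fun w => Q w) fun a b => by simp [Q_add, h2 a.2 b.2]
      refine Nat.le_of_mul_le_mul_left (?_ : q * _ ≤ q * _) Nat.card_pos
      rw [← pow_succ']
      refine (Nat.pow_le_pow_right Nat.card_pos (by omega)).trans (h4.trans ?_)
      rw [← φ.ker.card_mul_index, AddSubgroup.index_ker, mul_comm]
      refine Nat.mul_le_mul (Nat.card_le_card_of_injective _ Subtype.val_injective) ?_
      exact Nat.card_le_card_of_injective (fun y => ⟨y.1.1, y.1.2, y.2⟩)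
        fun _ _ h => Subtype.ext (Subtype.ext (by simpa using h))
    · refine (Nat.pow_le_pow_right Nat.card_pos (by omega)).trans (h4.trans ?_)
      refine Set.ncard_le_ncard (s := (T : Set V)) fun w hw => ⟨hw, ?_⟩
      simpa [polar_self', h8] using h2 hw hw
  obtain ⟨w, ⟨hw, hw0⟩, hwu⟩ : ∃ w ∈ {w | w ∈ T ∧ Q w = 0}, w ∉ Submodule.span F {p, u} := by
    by_contra! h
    have := h7.trans ((Set.ncard_le_ncard (t := (Submodule.span F {p, u} : Set V)) h).trans
      (card_pair_le p u))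
    rw [Nat.pow_le_pow_iff_right hq] at this; omega
  have d1 := dl_mem (T := T) hu (fun w hw => D3u w hw.1) (TT_AA hpu D3u D3p ω) hv hw
  have d2 : Q (dl Q u v w) = 0 := by rw [Q_dl hu (D3u w hw.1), hw0, mul_zero]
  have d3 : dl Q u v w ∉ F ∙ p := fun h => hwu (mem_of_dl huv (Submodule.subset_span (by simp))
    (Submodule.span_mono (by simp) h))
  obtain ⟨u', hu', hpu', hyu', huv'⟩ := exists_sing (Q := Q) hn (a := p) (b := dl Q u v w) (v := y)
    fun h => by
      obtain ⟨a, b, rfl⟩ := Submodule.mem_span_pair.1 h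
      simp [Q_add, Q_smul, hp, d2, perp_of_AA hp d1] at hQ
  have := (lemA5 hn hX hp hp0 hR d1 d3 hy hu' hpu' hyu' huv').trans
    (lemA3 hn hX hp hp0 hR d1 d3 hy hu' hpu' hyu' huv')
  rw [m1 _ (perp_of_AA hp d1) d3, d2] at this
  omega

theorem tri {p : V} (ω : X) (hp : Q p = 0) (hp0 : p ≠ 0) : Reg Q p ω ∨
    (∃ y, B p y = 0 ∧ ∀ a ∈ AA Q p ω, a ∈ Submodule.span F {p, y}) ∨ ∃ U, Sp Q p ω U := by
  by_contra! h
  obtain ⟨hR, h1, h2⟩ := h
  have h3 : ∀ a ∈ AA Q p ω, Q a = 0 := fun a ha => by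
    by_contra hQ
    obtain ⟨v, hv, hv'⟩ := h1 a (perp_of_AA hp ha)
    exact hv' (lemN hn hX hp hp0 hR ha hQ hv)
  set U := Submodule.span F (AA Q p ω : Set V)
  have h4 : ∀ a ∈ U, Q a = 0 := fun a ha => Q_eq_zero_of_mem_span h3 (fun x hx y hy => by
    simpa [Q_add, h3 x hx, h3 y hy] using h3 _ ((AA Q p ω).add_mem hx hy)) ha
  have h5 := hC.nd.two_mul_finrank_le h4
  have key : ∀ x ∈ AA Q p ω, x ∉ F ∙ p → finrank F U = n - 4 ∧ n ≤ 8 ∧ ∀ c : F, c • x ∈ AA Q p ω := by
    intro x hx hxp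
    obtain ⟨v, hv, hv'⟩ := h1 x (perp_of_AA hp hx)
    obtain ⟨u, hu, hpu, hxu, huv⟩ := exists_sing (Q := Q) hn hv'
    have e1 := (lemA4 hn hX hp hp0 hR hx hxp hv hu hpu hxu huv).trans
      (card_T_le (T := T3 Q p x u ω) hu (fun w hw => D3u w hw.1) (TT_AA hpu D3u D3p ω) hv huv)
    have e2 := finrank_inf_ker_add_one (K := U) (polarBilin Q u) (Submodule.subset_span hv) huv
    have e3 : {a | a ∈ AA Q p ω ∧ B u a = 0} ⊆ (U ⊓ LinearMap.ker (polarBilin Q u) :) :=
      fun a ha => ⟨Submodule.subset_span ha.1, ha.2⟩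
    have e4 : ((U ⊓ LinearMap.ker (polarBilin Q u) :) : Set V).ncard = q ^ (finrank F U - 1) := by
      rw [← e2]; exact card_sub _
    have e5 := e1.trans (Nat.mul_le_mul_left _ ((Set.ncard_le_ncard e3).trans e4.le))
    rw [← pow_succ', Nat.pow_le_pow_iff_right two_le_q] at e5
    have e6 : finrank F U = n - 4 := by omega
    refine ⟨e6, by omega, fun c => ?_⟩
    rw [show n - 4 = finrank F U - 1 + 1 by omega, pow_succ', ← e4] at e1
    have := Set.eq_of_subset_of_ncard_le e3 (Nat.le_of_mul_le_mul_left e1 Nat.card_pos)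
    exact (this.ge ⟨U.smul_mem c (Submodule.subset_span hx), by simp [polar_comm Q u x, hxu]⟩).1
  obtain ⟨x, hx, hxp⟩ := h1 0 (by simp)
  obtain ⟨k1, k2, -⟩ := key x hx fun h => hxp (Submodule.span_mono (by simp) h)
  refine h2 U ⟨fun a => ⟨fun h => Submodule.subset_span h, fun h => ?_⟩, k1, k2, h4⟩
  induction h using Submodule.span_induction with
  | mem a h => exact h
  | zero => exact zero_mem _
  | add a b _ _ ha hb => exact add_mem ha hb
  | smul c a _ ha =>
    by_cases h : a ∈ F ∙ p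
    · obtain ⟨d, rfl⟩ := Submodule.mem_span_singleton.1 h
      rw [smul_smul]; exact self_mem_AA _ _ _
    · exact (key a ha h).2.2 c

end Cfsg.Agent.H26.MD
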