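import Mathlib
import Cfsg.Agent.H26.MO4

/-! The special case of maximal totally singular annihilators. -/

set_option autoImplicit false
set_option linter.unusedSectionVars false

namespace Cfsg.Agent.H26.MD

open Module QuadraticMap H13
open scoped Pointwise

variable {F V : Type*} [Field F] [Finite F] [AddCommGroup V] [Module F V] [FiniteDimensional F V]
  [Finite V] {Q : QuadraticForm F V} [hC : OC Q]

local notation "B" => polar Q
local notation "q" => Nat.card F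
local notation "n" => finrank F V

/-- image of a subspace -/
abbrev mp (g : Om Q) (U : Submodule F V) : Submodule F V := U.map (g.1.1 : V →ₗ[F] V)

theorem mem_mp {g : Om Q} {U : Submodule F V} {a : V} : a ∈ mp g U ↔ g⁻¹ • a ∈ U :=
  Submodule.mem_map_equiv _
theorem g_mem_mp {g : Om Q} {U : Submodule F V} {a : V} : g • a ∈ mp g U ↔ a ∈ U := by
  rw [mem_mp, inv_smul_smul]

theorem mp_eq {g : Om Q} {U : Submodule F V} (h : ∀ a ∈ U, g • a ∈ U) : mp g U = U :=
  map_OG_eq_of_le h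

theorem B_of_sing {U : Submodule F V} (h : ∀ a ∈ U, Q a = 0) {a b : V} (ha : a ∈ U) (hb : b ∈ U) :
    B a b = 0 := mem_perp.1 (le_perp_of_singular h hb) a ha

theorem mem_of_max (hn : 7 ≤ n) {U : Submodule F V} (h : ∀ a ∈ U, Q a = 0) (hU : n - 4 ≤ finrank F U)
    {y : V} (hy : Q y = 0) (hB : ∀ a ∈ U, B a y = 0) : y ∈ U := by
  by_contra hyU
  have h1 := finrank_sup_span_singleton_of_notMem hyU
  have h2 := hC.nd.two_mul_finrank_le (W := U ⊔ F ∙ y) fun w hw => by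
    obtain ⟨a, ha, b, hb, rfl⟩ := Submodule.mem_sup.1 hw
    obtain ⟨c, rfl⟩ := Submodule.mem_span_singleton.1 hb
    simp [Q_add, Q_smul, h a ha, hy, hB a ha]
  omega

variable {X : Type*} [MulAction (Om Q) X] [Finite X]

variable (Q) in
def Fx (p : V) (ω : X) : Prop := ∀ w, B p w = 0 → rho Q p w • ω = ω

theorem fx_iff {p : V} {ω : X} : Fx Q p ω ↔ ∀ a ∈ AA Q p ω, a ∈ F ∙ p := by
  refine ⟨fun h a ha => ?_, fun h w hw => (mem_SS.1 (mem_SS_of fun a ha => ?_)).2⟩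
  · rw [← hC.nd.perp_perp (F ∙ p)]
    refine mem_perp.2 fun w hw => ?_
    have hw' := mem_perp_singleton.1 hw
    rw [polar_comm]
    exact eq_zero_of_mem_Ann ha fun c => mem_SS.2 ⟨by simp [hw'], h _ (by simp [hw'])⟩
  · obtain ⟨c, rfl⟩ := Submodule.mem_span_singleton.1 (h a ha)
    simp [hw]

theorem Fx.g {p : V} {ω : X} (h : Fx Q p ω) (g : Om Q) : Fx Q (g • p) (g • ω) := fun w hw => by
  have h1 : B p (g⁻¹ • w) = 0 := by rwa [← Bg_left]
  simpa using (mem_SS.1 ((g_mem_SS g).2 (mem_SS.2 ⟨h1, h _ h1⟩))).2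

theorem Fx.smul {p : V} {ω : X} (h : Fx Q p ω) (hp : Q p = 0) (c : F) : Fx Q (c • p) ω := by
  intro w hw
  by_cases hc : c = 0
  · rw [hc, zero_smul, show rho Q 0 w = 1 from Subtype.ext (sieg_zero_left w), one_smul]
  · have : B p w = 0 := by simpa [hc] using hw
    rw [rho_smul_left hp this, h _ (by simp [this])]

theorem reg_card {p : V} {ω : X} (hp0 : p ≠ 0) (h : Reg Q p ω) : q ^ (n - 1) ≤ Nat.card (AA Q p ω) := by
  have h1 : Nat.card (SS Q p ω) ≤ q := by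
    have := Set.ncard_le_ncard (s := (SS Q p ω : Set V)) (t := (F ∙ p : Submodule F V)) h
    exact this.trans ((card_sub (F ∙ p)).trans (by rw [finrank_span_singleton hp0, pow_one])).le
  refine Nat.le_of_mul_le_mul_right (?_ : _ * q ≤ _ * q) Nat.card_pos
  rw [← pow_succ, Nat.sub_add_cancel (by have := hC.five; omega), ← card_AA_SS (Q := Q) p ω]
  gcongr

theorem full_two {p p' : V} {ω : X} (hp : Q p = 0) (hp' : Q p' = 0) (h : Fx Q p ω) (h' : Fx Q p' ω)
    (hB : B p p' ≠ 0) (g : Om Q) : g • ω = ω := by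
  have key : ∀ p p' x : V, Q p = 0 → Q p' = 0 → Fx Q p ω → Fx Q p' ω → B p p' ≠ 0 → Q x = 0 →
      B p x ≠ 0 → Fx Q x ω := by
    intro p p' x hp hp' h h' hB hx hx'
    obtain ⟨a, ha, e⟩ := exists_sieg_map (x := (B p x / B p p') • p') (y := x) hp
      (by simp [Q_smul, hp', hx]) (by simp [hB]) (by simp [hB, hx'])
    have := (h'.smul hp' (B p x / B p p')).g (rho Q p a)
    rwa [h a ha, show rho Q p a • _ = x from e] at this
  have all : ∀ x, Q x = 0 → Fx Q x ω := by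
    intro x hx
    by_cases h0 : x = 0
    · simpa [h0] using h.smul hp 0
    by_cases h1 : B p x = 0
    · obtain ⟨v, hv, h2, h3⟩ := hC.nd.exists_common_nonperp hp (by rintro rfl; simp at hB) h0 h1
      exact key v p x hv hp (key p p' v hp hp' h h' hB hv h2) h (by rwa [polar_comm]) hx
        (by rwa [polar_comm])
    · exact key p p' x hp hp' h h' hB hx h1
  have : Subgroup.closure ((↑) ⁻¹' Root Q : Set (Om Q)) ≤ MulAction.stabilizer (Om Q) ω := by
    rw [Subgroup.closure_le]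
    rintro g ⟨u, a, hu, -, hua, e⟩
    rw [show g = rho Q u a from Subtype.ext e]
    exact all u hu a hua
  rw [hC.nd.closure_Root_top hC.five] at this
  exact this (Subgroup.mem_top g)

namespace Sp
variable {p : V} {ω : X} {U : Submodule F V}

theorem g (h : Sp Q p ω U) (g : Om Q) : Sp Q (g • p) (g • ω) (mp g U) :=
  ⟨fun a => by rw [mem_mp, ← h.mem, ← g_mem_AA g (x := g⁻¹ • a), smul_inv_smul],
    (LinearEquiv.finrank_map_eq _ _).trans h.rk, h.le, fun a ha => by simpa using h.sing _ (mem_mp.1 ha)⟩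

theorem smul (h : Sp Q p ω U) (hp : Q p = 0) {c : F} (hc : c ≠ 0) : Sp Q (c • p) ω U :=
  ⟨fun a => by
    rw [← U.smul_mem_iff (inv_ne_zero hc), ← h.mem, ← smul_mem_AA hp hc, smul_inv_smul₀ hc],
    h.rk, h.le, h.sing⟩

theorem uniq (h : Sp Q p ω U) {U' : Submodule F V} (h' : Sp Q p ω U') : U = U' :=
  Submodule.ext fun a => (h.mem a).symm.trans (h'.mem a)

theorem of_ob (h : Sp Q p ω U) {ω' : X} (e : ob Q p ω' = ob Q p ω) : Sp Q p ω' U :=
  ⟨fun a => AA_of_ob e ▸ h.mem a, h.rk, h.le, h.sing⟩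

theorem self (h : Sp Q p ω U) : p ∈ U := (h.mem p).1 (by simpa using self_mem_AA (Q := Q) p ω (1 : F))

theorem card (h : Sp Q p ω U) : Nat.card (AA Q p ω) = q ^ (n - 4) := by
  rw [← h.rk, ← card_sub]; exact Nat.card_congr (Equiv.subtypeEquivRight h.mem)

theorem mem_S (h : Sp Q p ω U) {w : V} : w ∈ SS Q p ω ↔ ∀ a ∈ U, B a w = 0 :=
  ⟨fun hw a ha => eq_zero_of_psi fun c => by simpa using (h.mem _).2 (U.smul_mem c ha) w hw,
    fun hw => mem_SS_of fun a ha => by simp [hw a ((h.mem a).1 ha)]⟩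

theorem ob_card (h : Sp Q p ω U) (hp0 : p ≠ 0) : (ob Q p ω).ncard = q ^ (n - 5) := by
  have := h.card
  have h5 := hC.five
  rw [card_AA hp0, show n - 4 = n - 5 + 1 by omega, pow_succ'] at this
  exact Nat.eq_of_mul_eq_mul_left Nat.card_pos this

theorem not_reg (h : Sp Q p ω U) (hp0 : p ≠ 0) : ¬ Reg Q p ω := fun hR => by
  have := reg_card hp0 hR
  have h5 := hC.five
  rw [h.card, Nat.pow_le_pow_iff_right two_le_q] at this; omega

variable (hn : 7 ≤ finrank F V) (hX : Nat.card X < (Nat.card F + 2) * Nat.card F ^ (finrank F V - 3))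
  (h : Sp Q p ω U) (hp0 : p ≠ 0)
include hn hX h hp0

theorem lemT {x u v : V} (hx : x ∈ U) (hxp : x ∉ F ∙ p) (hv : v ∈ U) (hu : Q u = 0) (hpu : B p u = 0)
    (hxu : B x u = 0) (huv : B u v ≠ 0) : q ≤ (JJ Q (DD3 Q p x u) u p ω).ncard ∧
    ∀ w ∈ DD3 Q p x u, mp (rho Q u w) U = U → rho Q u w • ob Q p ω = ob Q p ω := by
  have hp := h.sing p h.self
  have h1 := lemA1 hn hX hp hp0 (h.not_reg hp0) ((h.mem x).2 hx) hxp ((h.mem v).2 hv) hu hpu hxu huv
  have h4 := lemA4 hn hX hp hp0 (h.not_reg hp0) ((h.mem x).2 hx) hxp ((h.mem v).2 hv) hu hpu hxu huv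
  let T := (rr_le u (D3u (Q := Q) (p := p) (x := x) (u := u))).St ({(U : Set V)} : Set (Set V))
  have hT : ∀ w, w ∈ T ↔ w ∈ DD3 Q p x u ∧ mp (rho Q u w) U = U := fun w =>
    (RR.mem_St_one _).trans (and_congr_right fun _ => SetLike.coe_set_eq (p := mp (rho Q u w) U))
  have h2 := card_T_le (T := T) (A := U.toAddSubgroup) hu (fun w hw => D3u w hw.1)
    (fun w hw a ha => ((hT w).1 hw).2 ▸ g_mem_mp.2 ha) hv huv
  have e2 := finrank_inf_ker_add_one (K := U) (polarBilin Q u) hv huv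
  have h3 : {a | a ∈ U.toAddSubgroup ∧ B u a = 0}.ncard = q ^ (n - 5) := by
    rw [show n - 5 = finrank F (U ⊓ LinearMap.ker (polarBilin Q u) :) by have := h.rk; omega]
    exact card_sub (U ⊓ LinearMap.ker (polarBilin Q u))
  rw [h3, ← pow_succ', show n - 5 + 1 = n - 4 by omega] at h2
  have h5 : T3 Q p x u ω ≤ T := fun w hw => (hT w).2 ⟨hw.1, mp_eq fun a ha =>
    (h.mem _).1 (TT_AA hpu D3u D3p ω w hw a ((h.mem a).2 ha))⟩
  have h6 := AddSubgroup.eq_of_le_of_card_ge h5 (h2.trans h4)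
  refine ⟨Nat.le_of_mul_le_mul_right (?_ : _ * q ^ (n - 4) ≤ _ * q ^ (n - 4))
    (pow_pos Nat.card_pos _), fun w hw e => ((mem_TT _ ω).1 (h6.ge ((hT w).2 ⟨hw, e⟩))).2⟩
  rw [← pow_succ', ← h1, h6]; gcongr

omit hX hp0 in
theorem exists_notMem (a b : V) : ∃ v ∈ U, v ∉ Submodule.span F {a, b} :=
  exists_notMem_of_finrank_lt (by have := finrank_span_pair_le (F := F) a b; have := h.rk; omega)

theorem ob_eq {ω' : X} (h' : Sp Q p ω' U) : ob Q p ω' = ob Q p ω := by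
  have hp := h.sing p h.self
  obtain ⟨x, hx, hxp⟩ := h.exists_notMem hn p p
  simp only [Set.mem_singleton_iff, Set.insert_eq_of_mem] at hxp
  obtain ⟨v, hv, hvp⟩ := h.exists_notMem hn p x
  obtain ⟨u, hu, hpu, hxu, huv⟩ := exists_sing (Q := Q) hn hvp
  obtain ⟨h1, h2⟩ := h.lemT hn hX hp0 hx hxp hv hu hpu hxu huv
  obtain ⟨h3, -⟩ := h'.lemT hn hX hp0 hx hxp hv hu hpu hxu huv
  have hux : B u x = 0 := by rwa [polar_comm]
  have h4 := Set.ncard_le_ncard (Set.union_subset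
    (JJ_sub (D := DD3 Q p x u) hpu D3p ω ((h.mem x).2 hx) hux D3x)
    (JJ_sub (D := DD3 Q p x u) hpu D3p ω' ((h'.mem x).2 hx) hux D3x))
  rw [Set.ncard_coe_finset] at h4
  have h5 := MM_le hn hX hp hp0 (B_of_sing h.sing h.self hx) hxp
  by_cases hd : Disjoint (JJ Q (DD3 Q p x u) u p ω) (JJ Q (DD3 Q p x u) u p ω')
  · rw [Set.ncard_union_eq hd] at h4
    have := two_le_q (F := F); omega
  obtain ⟨O, hO, hO'⟩ := Set.not_disjoint_iff.1 hd
  have r := rr_le u (D3u (Q := Q) (p := p) (x := x) (u := u))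
  obtain ⟨w, hw, e⟩ := ((r.orb_eq hO').symm.trans (r.orb_eq hO)).le (r.self_mem _)
  have e1 := h.g (rho Q u w)
  rw [rho_p hpu D3p hw] at e1
  rw [← e, h2 w hw ((e1.of_ob (by rw [← e, ← ob_g, rho_p hpu D3p hw])).uniq h')]

theorem mu_ge {x : V} (hx : x ∈ U) (hxp : x ∉ F ∙ p) : q + 1 ≤ (MM Q X p x).card ∧
    ∀ O ∈ MM Q X p x, O.ncard = q ^ (n - 5) := by
  have hp := h.sing p h.self
  obtain ⟨v, hv, hvp⟩ := h.exists_notMem hn p x
  obtain ⟨u, hu, hpu, hxu, huv⟩ := exists_sing (Q := Q) hn hvp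
  obtain ⟨h1, -⟩ := h.lemT hn hX hp0 hx hxp hv hu hpu hxu huv
  obtain ⟨_, ⟨w, hw, rfl⟩, hne⟩ := Set.exists_ne_of_one_lt_ncard (two_le_q.trans h1) (ob Q p ω)
  set g := rho Q u w
  have hgp : g • p = p := rho_p hpu D3p hw
  have hgx : g • x = x := rho_fix (by rwa [polar_comm]) (by rw [polar_comm]; exact D3x w hw)
  have h2 := h.g g
  rw [hgp] at h2
  obtain ⟨a, ha, haU⟩ : ∃ a ∈ U, g • a ∉ U := by
    by_contra! h3
    rw [mp_eq h3] at h2
    exact hne (by rw [← ob_g, hgp]; exact h.ob_eq hn hX hp0 h2)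
  have ha' := g_mem_mp (g := g).2 ha
  have hx' : x ∈ mp g U := hgx ▸ g_mem_mp.2 hx
  obtain ⟨v', hv', hB⟩ : ∃ v' ∈ U, B v' (g • a) ≠ 0 := by
    by_contra! h3
    exact haU (mem_of_max hn h.sing h.rk.ge (h2.sing _ ha') h3)
  rw [polar_comm] at hB
  have k1 := B_of_sing h2.sing h2.self ha'
  have k2 := B_of_sing h2.sing hx' ha'
  obtain ⟨h3, -⟩ := h.lemT hn hX hp0 hx hxp hv' (h2.sing _ ha') k1 k2 hB
  have h4 : ob Q p (g • ω) ∉ JJ Q (DD3 Q p x (g • a)) (g • a) p ω := by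
    rintro ⟨w', hw', e⟩
    have e1 := h.g (rho Q (g • a) w')
    rw [rho_p k1 D3p hw'] at e1
    have e2 := (e1.of_ob (by rw [← e, ← ob_g, rho_p k1 D3p hw'])).uniq h2
    have := B_of_sing h2.sing ha' (e2 ▸ g_mem_mp.2 hv')
    exact hB (by rw [← this, ← Bg (rho Q (g • a) w') (g • a), rho_self])
  have h5 : insert (ob Q p (g • ω)) (JJ Q (DD3 Q p x (g • a)) (g • a) p ω) ⊆ MM Q X p x :=
    Set.insert_subset (ob_mem_MM.2 ((h2.mem x).2 hx'))
      (JJ_sub k1 D3p ω ((h.mem x).2 hx) (by rwa [polar_comm]) D3x)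
  have h6 := Set.ncard_le_ncard h5
  have h7 := MM_le hn hX hp hp0 (B_of_sing h.sing h.self hx) hxp
  have h8 := Set.eq_of_subset_of_ncard_le h5 (by
    rw [Set.ncard_insert_of_notMem h4, Set.ncard_coe_finset]; omega)
  rw [Set.ncard_insert_of_notMem h4, Set.ncard_coe_finset] at h6
  refine ⟨by omega, fun O hO => ?_⟩
  rcases h8.ge hO with rfl | ⟨w', -, rfl⟩
  · exact h2.ob_card hp0
  · rw [Set.ncard_smul_set, h.ob_card hp0]

theorem all (ω' : X) : Fx Q p ω' ∨ ∃ U', Sp Q p ω' U' := by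
  classical
  have := Fintype.ofFinite F
  have hp := h.sing p h.self
  obtain ⟨x, hx, hxp⟩ := h.exists_notMem hn p p
  simp only [Set.mem_singleton_iff, Set.insert_eq_of_mem] at hxp
  obtain ⟨h1, h2⟩ := h.mu_ge hn hX hp0 hx hxp
  obtain ⟨μ, m1, -, m3⟩ := exists_mu' hn hX hp hp0
  rw [m1 x (B_of_sing h.sing h.self hx) hxp, h.sing x hx] at h1
  rw [fx_iff, or_iff_not_imp_left]
  push Not
  rintro ⟨a, ha, hap⟩
  have h3 : Q a = 0 := by
    by_contra h3
    have := (Finset.sum_le_sum_of_subset (Finset.subset_univ {0, Q a})).trans m3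
    rw [Finset.sum_pair (Ne.symm h3), ← m1 a (perp_of_AA hp ha) hap] at this
    have := Finset.card_pos.2 ⟨_, ob_mem_MM.2 ha⟩
    omega
  obtain ⟨g, hg, hga⟩ := trans2 (Q := Q) hn hp0 hap hxp (by rw [h3, h.sing x hx])
    (by rw [perp_of_AA hp ha, B_of_sing h.sing h.self hx])
  have h4 := (g_mem_AA g).2 ha
  rw [hga] at h4
  have h5 := h2 _ (ob_mem_MM.2 (hg ▸ h4))
  rw [← hg, ob_g, Set.ncard_smul_set] at h5
  have h6 := card_AA (Q := Q) hp0 ω'
  rw [h5, ← pow_succ'] at h6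
  rcases tri hn hX ω' hp hp0 with hR | ⟨y, -, hy⟩ | hU
  · have := reg_card hp0 hR
    rw [h6, Nat.pow_le_pow_iff_right two_le_q] at this; omega
  · have := (Set.ncard_le_ncard (s := (AA Q p ω' : Set V))
      (t := (Submodule.span F {p, y} : Set V)) hy).trans (card_pair_le p y)
    rw [show (AA Q p ω' : Set V).ncard = _ from h6, Nat.pow_le_pow_iff_right two_le_q] at this; omega
  · exact hU

theorem count : (q + 1) * q ^ (n - 3) + ((q + 1) * q ^ (n - 5) + {ω' : X | Fx Q p ω'}.ncard)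
    ≤ Nat.card X := by
  classical
  have := Fintype.ofFinite F
  have hp := h.sing p h.self
  obtain ⟨x, hx, hxp⟩ := h.exists_notMem hn p p
  simp only [Set.mem_singleton_iff, Set.insert_eq_of_mem] at hxp
  obtain ⟨h1, h2⟩ := h.mu_ge hn hX hp0 hx hxp
  have hpx := B_of_sing h.sing h.self hx
  obtain ⟨μ, m1, -, m3⟩ := exists_mu (X := X) hn hp hp0 (h.sing x hx) hpx hxp
  have ho : ∀ ω' : X, Fx Q p ω' → ob Q p ω' = {ω'} := fun ω' h' =>
    Set.eq_singleton_iff_unique_mem.2 ⟨(rr Q p).self_mem _, by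
      rintro _ ⟨w, hw, rfl⟩; exact h' w (mem_DD.1 hw)⟩
  set S := (Set.toFinite {ω' : X | Fx Q p ω'}).toFinset.image fun ω' => ({ω'} : Set X) with hS
  have hS' : ∀ O, O ∈ S ↔ ∃ ω', Fx Q p ω' ∧ {ω'} = O := by simp [hS]
  have h3 := m3 (MM Q X p x ∪ S) (Finset.union_subset
    (fun O hO => (mem_MM.1 hO).elim fun ω h => mem_OO.2 ⟨ω, h.1⟩) fun O hO => by
      obtain ⟨ω', h1, rfl⟩ := (hS' O).1 hO
      exact mem_OO.2 ⟨ω', ho _ h1⟩) fun ω' hω a ha => by
    rcases h.all hn hX hp0 ω' with h4 | ⟨U', h4⟩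
    · obtain ⟨c, rfl⟩ := Submodule.mem_span_singleton.1 (fx_iff.1 h4 a ha)
      simp [polar_comm Q x p, hpx]
    · rcases Finset.mem_union.1 hω with h5 | h5
      · exact B_of_sing h4.sing ((h4.mem x).1 (ob_mem_MM.1 h5)) ((h4.mem a).1 ha)
      · obtain ⟨ω2, -, e⟩ := (hS' _).1 h5
        have := h4.ob_card hp0
        rw [← e, Set.ncard_singleton] at this
        exact absurd this (Nat.one_lt_pow (by omega) two_le_q).ne
  rw [Finset.sum_union (Finset.disjoint_left.2 fun O hO hO' => by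
    obtain ⟨ω2, -, rfl⟩ := (hS' _).1 hO'
    have := h2 _ hO
    rw [Set.ncard_singleton] at this
    exact absurd this (Nat.one_lt_pow (by omega) two_le_q).ne), Finset.sum_congr rfl h2,
    Finset.sum_image fun _ _ _ _ h => Set.singleton_injective h] at h3
  simp only [Finset.sum_const, smul_eq_mul, Set.ncard_singleton, mul_one,
    ← Set.ncard_eq_toFinset_card] at h3
  refine le_trans ?_ h3
  gcongr
  rw [m1 x hpx hxp] at h1
  exact h1.trans (Finset.single_le_sum (fun _ _ => Nat.zero_le _) (Finset.mem_univ _))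

end Sp

end Cfsg.Agent.H26.MD
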