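import Mathlib
import Cfsg.Agent.H26.MO5

/-! The special case does not occur. -/

set_option autoImplicit false
set_option linter.unusedSectionVars false

namespace Cfsg.Agent.H26.MD

open Module QuadraticMap H13
open scoped Pointwise

variable {F V : Type*} [Field F] [Finite F] [AddCommGroup V] [Module F V] [FiniteDimensional F V]
  [Finite V] {Q : QuadraticForm F V} [hC : OC Q]

local notation "B" => polar Q
local notation "q" => Nat.card F
local notation "n" => finrank F V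

theorem exists_sq_ne (hq : 4 ≤ q) : ∃ t : F, t ≠ 0 ∧ t ^ 2 ≠ 1 := by
  classical
  have := Fintype.ofFinite F
  obtain ⟨t, -, ht⟩ := Finset.exists_mem_notMem_of_card_lt_card (s := {(0 : F), 1, -1}) (t := Finset.univ)
    (Finset.card_le_three.trans_lt (by rw [Finset.card_univ, ← Nat.card_eq_fintype_card]; omega))
  simp only [Finset.mem_insert, Finset.mem_singleton, not_or] at ht
  exact ⟨t, ht.1, by simp [ht.2]⟩

theorem exists_torus (hq : 4 ≤ q) {a b : V} (h : HP Q a b) : ∃ (τ : Om Q) (ν : F), ν ≠ 1 ∧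
    τ • a = ν • a ∧ τ • b = ν⁻¹ • b ∧ ∀ w, B a w = 0 → B b w = 0 → τ • w = w := by
  obtain ⟨t, ht, ht1⟩ := exists_sq_ne hq
  refine ⟨⟨h.torus (Units.mk0 _ (pow_ne_zero 2 ht)),
    (hC.nd.mem_commutator_iff (good_of_five hC.five) _).2 ⟨h.dickson_torus _ _ _,
      (h.spinor_torus _ _ _).trans (sgn_eq_one_iff.2 ⟨t, sq t⟩)⟩⟩, t ^ 2, ht1, h.torus_left _,
    h.torus_right _, fun w h1 h2 => h.torus_pp _ ⟨w, mem_perp_pair.2 ⟨h1, h2⟩⟩⟩

theorem ar1 {a b f e : ℕ} (h : (a + f) * (f + 1 + e) ≤ (a + b) * f) : a ≤ b * f := by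
  nlinarith [Nat.zero_le (a * e), Nat.zero_le (f * (f + 1 + e))]

theorem ar2 {c t f e : ℕ} (h : (c * t + f) * (f + 1 + e) ≤ (c * t + t) * f) (ht : 0 < t) : 4 * c ≤ t := by
  refine Nat.le_of_mul_le_mul_right (?_ : _ * t ≤ _ * t) ht
  zify at *
  nlinarith [sq_nonneg ((t : ℤ) - 2 * f), mul_nonneg (mul_nonneg (Int.natCast_nonneg c) ht.le)
    (Int.natCast_nonneg e), mul_nonneg (Int.natCast_nonneg f) (Int.natCast_nonneg e)]

variable {X : Type*} [MulAction (Om Q) X] [Finite X]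
variable (hn : 7 ≤ finrank F V) (hX : Nat.card X < (Nat.card F + 2) * Nat.card F ^ (finrank F V - 3))
include hn hX

theorem Sp.eq_of_mem (hq : 4 ≤ q) {p x : V} {ω : X} {U U' : Submodule F V} (h : Sp Q p ω U)
    (h' : Sp Q x ω U') (hp0 : p ≠ 0) (hx0 : x ≠ 0) (hx : x ∈ U) : U' = U := by
  have hp := h.sing p h.self
  have hQx := h.sing x hx
  have hpx := B_of_sing h.sing h.self hx
  have hpU : p ∈ U' := mem_of_max hn h'.sing h'.rk.ge hp (h'.mem_S.1 (mem_SS.2
    ⟨by rwa [polar_comm], by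
      rw [rho_swap hp hQx hpx]
      exact (mem_SS.1 (h.mem_S.2 fun a ha => B_of_sing h.sing ha (U.neg_mem hx))).2⟩))
  by_contra hne
  obtain ⟨b, hb, hbU⟩ : ∃ b ∈ U', b ∉ U := by
    by_contra! h3
    exact hne (Submodule.eq_of_le_of_finrank_eq h3 (h'.rk.trans h.rk.symm))
  obtain ⟨a, ha, hab⟩ : ∃ a ∈ U, B a b = 1 := by
    by_contra! h3
    refine hbU (mem_of_max hn h.sing h.rk.ge (h'.sing b hb) fun a ha => by_contra fun h4 => ?_)
    exact h3 _ (U.smul_mem (B a b)⁻¹ ha) (by simp [h4])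
  have hQa := h.sing a ha
  have hap := B_of_sing h.sing ha h.self
  have hax := B_of_sing h.sing ha hx
  have hbp := B_of_sing h'.sing hb hpU
  have hbx := B_of_sing h'.sing hb h'.self
  obtain ⟨τ, ν, hν, t1, -, t3⟩ := exists_torus hq (⟨hQa, h'.sing b hb, hab⟩ : HP Q a b)
  let R : Subgroup (Om Q) := MulAction.stabilizer _ p ⊓ MulAction.stabilizer _ x ⊓
    MulAction.stabilizer _ (U : Set V)
  have hR : ∀ g : Om Q, g • p = p → g • x = x → (∀ a ∈ U, g • a ∈ U) → g ∈ R := fun g h1 h2 h3 =>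
    ⟨⟨h1, h2⟩, SetLike.coe_set_eq.2 (mp_eq h3)⟩
  have hw : ∀ g : R, ∃ w, B p w = 0 ∧ rho Q p w • ω = g.1 • ω := fun g => by
    have e := h.g g.1
    rw [show g.1 • p = p from g.2.1.1, show mp g.1 U = U from SetLike.coe_set_eq.1 g.2.2] at e
    obtain ⟨w, hw, e'⟩ := (h.ob_eq hn hX hp0 e).le ((rr Q p).self_mem _)
    exact ⟨w, mem_DD.1 hw, e'⟩
  choose w w1 w2 using hw
  let c : R →* Multiplicative F := MonoidHom.mk' (fun g => Multiplicative.ofAdd (B x (w g))) fun g k => by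
    have e0 : B p (g.1 • w k) = 0 := by rw [← show g.1 • p = p from g.2.1.1, Bg, w1]
    have e1 : rho Q p (w (g * k)) • ω = rho Q p (g.1 • w k + w g) • ω := by
      rw [rho_add e0 (w1 g), mul_smul, w2, w2, Subgroup.coe_mul, mul_smul, ← w2 k]
      nth_rw 2 [← show g.1 • p = p from g.2.1.1]
      simp [← conj_rho, mul_smul]
    have e2 := h.mem_S.1 ((rr Q p).sub_mem (mem_DD.2 (w1 _)) (mem_DD.2 (by simp [e0, w1])) e1) x hx
    have e3 : B x (g.1 • w k) = B x (w k) := by nth_rw 1 [← show g.1 • x = x from g.2.1.2]; exact Bg _ _ _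
    rw [← ofAdd_add]; congr 1
    simp only [polar_sub_right, polar_add_right, e3] at e2
    linear_combination e2
  obtain ⟨z, hz, hQz⟩ : ∃ z ∈ perp Q (Submodule.span F {a, b} ⊔ Submodule.span F {p, x}), Q z ≠ 0 := by
    by_contra! h3
    have e1 := hC.nd.finrank_perp (Submodule.span F {a, b} ⊔ Submodule.span F {p, x})
    have e2 := Submodule.finrank_add_le_finrank_add_finrank (Submodule.span F {a, b})
      (Submodule.span F {p, x})
    have e3 := finrank_span_pair_le (F := F) a b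
    have e4 := finrank_span_pair_le (F := F) p x
    have := mem_of_max hn h3 (by omega) hQa fun y hy => by
      rw [perp_sup] at hy; rw [polar_comm]; exact (mem_perp_pair.1 hy.1).1
    rw [perp_sup] at this
    simpa [polar_comm Q b a, hab] using (mem_perp_pair.1 this.1).2
  rw [perp_sup] at hz
  obtain ⟨⟨z1, z2⟩, z3, z4⟩ := And.intro (mem_perp_pair.1 hz.1) (mem_perp_pair.1 hz.2)
  have hr : ∀ e : F, rho Q a (e • z) ∈ R := fun e => hR _ (rho_fix hap (by simp [polar_comm Q z p, z3]))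
    (rho_fix hax (by simp [polar_comm Q z x, z4])) fun y hy => by
      rw [rho_perp hQa (by simp [z1]) (B_of_sing h.sing ha hy)]
      exact U.add_mem hy (U.smul_mem _ ha)
  have hτ : τ ∈ R := hR _ (t3 p hap hbp) (t3 x hax hbx) fun y hy => by
    have : τ • y = B b y • ν • a + (y - B b y • a) := by
      rw [← t1, ← g_smul, ← t3 (y - B b y • a) (by simp [B_of_sing h.sing ha hy, Bss hQa])
        (by simp [polar_comm Q b a, hab]), ← smul_add]; simp
    rw [this]
    exact U.add_mem (U.smul_mem _ (U.smul_mem _ ha)) (U.sub_mem hy (U.smul_mem _ ha))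
  have hν' := sub_ne_zero.2 hν
  have e1 : (⟨τ, hτ⟩ * ⟨_, hr (ν - 1)⁻¹⟩ * ⟨τ, hτ⟩⁻¹ : R) = ⟨_, hr (ν - 1)⁻¹⟩ * ⟨_, hr 1⟩ := by
    refine Subtype.ext ?_
    simp only [Subgroup.coe_mul, Subgroup.coe_inv]
    rw [conj_rho, t1, t3 _ (by simp [z1]) (by simp [z2]), rho_smul_left hQa (by simp [z1]),
      ← rho_add (by simp [z1]) (by simp [z1]), smul_smul, ← add_smul]
    congr 2; field_simp; ring
  have e2 := congrArg c e1
  rw [map_mul, map_mul, map_mul, map_inv, mul_inv_cancel_comm, left_eq_mul] at e2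
  have e3 : B x (w ⟨_, hr 1⟩) = 0 := e2
  set y := w ⟨_, hr 1⟩
  have e4 : rho Q p y • ω = rho Q a ((1 : F) • z) • ω := w2 ⟨_, hr 1⟩
  have hy : B p y = 0 := w1 _
  have e5 := (h'.g (rho Q a ((1 : F) • z))).uniq (U' := mp (rho Q p y) U') (by
    have := h'.g (rho Q p y)
    rwa [rho_fix hpx (by rwa [polar_comm]), e4, ← show rho Q a ((1 : F) • z) • x = x from (hr 1).1.2]
      at this)
  rw [mp_eq (g := rho Q p y) fun v hv => by
    rw [rho_perp hp hy (B_of_sing h'.sing hpU hv)]; exact U'.add_mem hv (U'.smul_mem _ hpU)] at e5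
  have e6 := U'.sub_mem (e5 ▸ g_mem_mp.2 hb) hb
  rw [one_smul, rho_eq_dl hQa z1, add_sub_cancel_left] at e6
  have := h'.sing _ e6
  rw [Q_dl hQa z1, hab] at this
  exact hQz (by simpa using this)

theorem sp_contra0 (hq : 4 ≤ q) {ω : X} (h : ∀ p, Q p = 0 → p ≠ 0 → ∃ U, Sp Q p ω U) : False := by
  obtain ⟨p, p', hp, -⟩ := exists_hp_perp (Q := Q) hn 0 0
  obtain ⟨U, hU⟩ := h p hp.Qu hp.ne_left
  obtain ⟨U', hU'⟩ := h p' hp.Qv hp.ne_right
  have hd : ∀ x ∈ U, x ∈ U' → x = 0 := fun x hx hx' => by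
    by_contra h0
    obtain ⟨W, hW⟩ := h x (hU.sing x hx) h0
    have e := (hU.eq_of_mem hn hX hq hW hp.ne_left h0 hx).symm.trans
      (hU'.eq_of_mem hn hX hq hW hp.ne_right h0 hx')
    exact one_ne_zero (hp.uv.symm.trans (B_of_sing hU.sing hU.self (e ▸ hU'.self)))
  obtain ⟨y, hy, hyp⟩ := hU.exists_notMem hn p p
  have hpy := B_of_sing hU.sing hU.self hy
  obtain ⟨z, hz, hz0⟩ : ∃ z ∈ U' ⊓ pp Q p y, z ≠ 0 := Submodule.exists_mem_ne_zero_of_ne_bot fun e => by
    have e1 := hC.nd.finrank_perp (Submodule.span F {p, y})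
    have e2 := Submodule.finrank_sup_add_finrank_inf_eq U' (pp Q p y)
    have e3 := Submodule.finrank_le (U' ⊔ pp Q p y)
    have e4 := finrank_span_pair_le (F := F) p y
    have := hU'.rk
    rw [e, finrank_bot] at e2
    unfold pp at *; omega
  obtain ⟨W, hW⟩ := h z (hU'.sing z hz.1) hz0
  obtain rfl := hU'.eq_of_mem hn hX hq hW hp.ne_right hz0 hz.1
  have e := hW.g (rho Q p y)
  rw [rho_fix (mem_perp_pair.1 hz.2).1 (mem_perp_pair.1 hz.2).2,
    (mem_SS.1 (hU.mem_S.2 fun a ha => B_of_sing hU.sing ha hy)).2] at e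
  have e1 := W.sub_mem (e.uniq hW ▸ g_mem_mp.2 hU'.self) hU'.self
  rw [rho_eq_dl hp.Qu hpy, add_sub_cancel_left] at e1
  have e2 : dl Q p p' y = 0 := hd _ (U.sub_mem (U.smul_mem _ hU.self) (U.smul_mem _ (U.add_mem hy
    (U.smul_mem _ hU.self)))) e1
  exact hyp (mem_of_dl (Q := Q) (u := p) (v := p') (by simp [hp.uv]) (Submodule.subset_span (by simp))
    (by rw [e2]; exact zero_mem _))

omit hX in
theorem double_count [MulAction.IsPretransitive (Om Q) X] {p : V} (hp : Q p = 0) (hp0 : p ≠ 0) (ω : X) :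
    (nz Q - 1) * {ω' : X | Fx Q p ω'}.ncard = Nat.card X * {x | (Q x = 0 ∧ x ≠ 0) ∧ Fx Q x ω}.ncard := by
  classical
  have := Fintype.ofFinite X
  have := Fintype.ofFinite V
  have : (Finset.univ.filter fun x : V => Q x = 0 ∧ x ≠ 0).card * {ω' : X | Fx Q p ω'}.ncard =
      (Finset.univ : Finset X).card * {x | (Q x = 0 ∧ x ≠ 0) ∧ Fx Q x ω}.ncard :=
    Finset.card_mul_eq_card_mul (fun x ω => Fx Q x ω) (fun x hx => by
      obtain ⟨g, rfl⟩ := trans1 (Q := Q) hn hp0 (Finset.mem_filter.1 hx).2.2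
        ((Finset.mem_filter.1 hx).2.1.trans hp.symm)
      rw [← Set.ncard_coe_finset, ← Set.ncard_smul_set g {ω' : X | Fx Q p ω'}]; congr 1; ext y
      simp only [Finset.mem_coe, Finset.mem_bipartiteAbove, Finset.mem_univ, true_and,
        Set.mem_setOf_eq, Set.mem_smul_set_iff_inv_smul_mem]
      exact ⟨fun h => by simpa using h.g g⁻¹, fun h => by simpa using h.g g⟩) fun y _ => by
      obtain ⟨g, rfl⟩ := MulAction.exists_smul_eq (Om Q) ω y
      rw [← Set.ncard_coe_finset, ← Set.ncard_smul_set g {x | (Q x = 0 ∧ x ≠ 0) ∧ Fx Q x ω}]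
      congr 1; ext x
      simp only [Finset.mem_coe, Finset.mem_bipartiteBelow, Finset.mem_filter, Finset.mem_univ, true_and,
        Set.mem_setOf_eq, Set.mem_smul_set_iff_inv_smul_mem, Qg, ne_eq, smul_eq_zero_iff_eq]
      exact and_congr_right fun _ => ⟨fun h => by simpa using h.g g⁻¹, fun h => by simpa using h.g g⟩
  rwa [← Fintype.card_subtype, ← Nat.card_eq_fintype_card, card_nonzero_singular, Finset.card_univ,
    ← Nat.card_eq_fintype_card] at this

omit hn hX in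
theorem card_full {ω : X} (hω : ¬ ∀ g : Om Q, g • ω = ω) : ∃ j, 2 * j ≤ n ∧
    {x | (Q x = 0 ∧ x ≠ 0) ∧ Fx Q x ω}.ncard + 1 = q ^ j := by
  have h0 : Fx Q 0 ω := fun w _ => by
    rw [show rho Q 0 w = 1 from Subtype.ext (sieg_zero_left w), one_smul]
  let P : Submodule F V :=
    { carrier := {x | Q x = 0 ∧ Fx Q x ω}
      zero_mem' := ⟨by simp, h0⟩
      smul_mem' := fun c x h => ⟨by simp [Q_smul, h.1], h.2.smul h.1 c⟩
      add_mem' := fun {a b} ha hb => by
        have hB : B a b = 0 := by_contra fun h => hω (full_two ha.1 hb.1 ha.2 hb.2 h)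
        refine ⟨by simp [Q_add, ha.1, hb.1, hB], ?_⟩
        by_cases h : b ∈ F ∙ a
        · obtain ⟨c, rfl⟩ := Submodule.mem_span_singleton.1 h
          simpa [add_smul] using ha.2.smul ha.1 (1 + c)
        · obtain ⟨w, h1, h2⟩ := hC.nd.exists_perp_one _ h
          have h3 : B a w = 0 := by rw [polar_comm]; exact h1 a (Submodule.mem_span_singleton_self a)
          have := hb.2.g (rho Q a w)
          rwa [ha.2 w h3, rho_perp ha.1 h3 hB, h2, one_smul, add_comm] at this }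
  refine ⟨_, hC.nd.two_mul_finrank_le (W := P) fun w hw => hw.1, ?_⟩
  rw [← card_sub, ← Set.ncard_insert_of_notMem (a := 0) (by simp)]
  refine congrArg Set.ncard (Set.ext fun x => ?_)
  by_cases h : x = 0
  · simp [h]
  · simp only [Set.mem_insert_iff, h, Set.mem_setOf_eq, ne_eq, not_false_eq_true, and_true, false_or]; rfl

theorem no_sp [MulAction.IsPretransitive (Om Q) X] (hω : ∀ ω : X, ¬ ∀ g : Om Q, g • ω = ω)
    (hN : (q - 1) * Nat.card X < nz Q - 1) {p : V} {ω : X} {U : Submodule F V} (h : Sp Q p ω U)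
    (hp0 : p ≠ 0) (hq : 4 ≤ q) : False := by
  have hp := h.sing p h.self
  have h1 := h.count hn hX hp0
  have h2 := double_count hn hp hp0 ω
  set f := {ω' : X | Fx Q p ω'}.ncard with hf
  by_cases h0 : f = 0
  · refine sp_contra0 (Q := Q) hn hX hq (ω := ω) fun x hx hx0 => ?_
    obtain ⟨g, rfl⟩ := trans1 (Q := Q) hn hp0 hx0 (hx.trans hp.symm)
    rcases h.all hn hX hp0 (g⁻¹ • ω) with h3 | ⟨U', h3⟩
    · exact absurd h0 (Set.ncard_ne_zero_of_mem h3)
    · exact ⟨_, by simpa using h3.g g⟩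
  obtain ⟨j, hj, h3⟩ := card_full (hω ω)
  obtain ⟨r, hr⟩ : ∃ r, q = r + 1 := ⟨q - 1, by omega⟩
  obtain ⟨t, ht⟩ : r ∣ {x | (Q x = 0 ∧ x ≠ 0) ∧ Fx Q x ω}.ncard := by
    have := Nat.sub_one_dvd_pow_sub_one q j
    rwa [← h3, hr] at this
  rw [ht] at h2 h3
  have h4 : f < t := by
    by_contra! h4
    rw [hr, Nat.add_sub_cancel] at hN
    have := Nat.mul_lt_mul_of_lt_of_le hN le_rfl (Nat.pos_of_ne_zero h0)
    nlinarith [Nat.mul_le_mul_left (r * Nat.card X) h4]
  obtain ⟨e, rfl⟩ : ∃ e, t = f + 1 + e := ⟨t - f - 1, by omega⟩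
  have hr3 : 3 ≤ r := by omega
  have h5 := Nat.mul_le_mul_right (r * (f + 1 + e)) h1
  rw [← h2] at h5
  have h8 := h.le
  obtain h7 | h7 : n = 7 ∨ n = 8 := by omega
  · have h6 : q ^ j ≤ q ^ 3 := Nat.pow_le_pow_right (by omega) (by omega)
    rw [hC.nd.nz_odd (m := 3) h7] at h5
    simp only [h7, hr] at h5 h6 h3
    have k1 : (r + 1) ^ (2 * 3) - 1 = r * ((r + 2) * ((r + 1) ^ 4 + (r + 1) ^ 2 + 1)) := by
      rw [Nat.sub_eq_iff_eq_add (Nat.one_le_pow _ _ (by omega))]; ring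
    have k2 : f + 1 + e ≤ (r + 1) ^ 2 + r + 2 :=
      Nat.le_of_mul_le_mul_left (by nlinarith : r * _ ≤ r * _) (by omega)
    rw [k1, mul_left_comm, mul_assoc] at h5
    have k3 := Nat.le_of_mul_le_mul_left h5 (by omega)
    have k4 : (r + 2) * ((r + 1) ^ 4 + (r + 1) ^ 2) ≤ (r + 2) * f :=
      ar1 (e := e) (by convert k3 using 2 <;> ring)
    have k5 := Nat.le_of_mul_le_mul_left k4 (by omega)
    nlinarith [Nat.pow_le_pow_right (Nat.succ_pos r) (show 2 ≤ 4 by norm_num)]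
  · have h6 : q ^ j ≤ q ^ 4 := Nat.pow_le_pow_right (by omega) (by omega)
    rw [hC.nd.nz_plus (m := 4) ⟨U, by rw [h.rk, h7], h.sing⟩ (by norm_num) h7] at h5
    simp only [h7, hr] at h5 h6 h3
    have k1 : (r + 1) ^ (2 * 4 - 1) + (r + 1) ^ 4 - (r + 1) ^ (4 - 1) - 1 =
        r * (((r + 1) ^ 3 + (r + 1) ^ 2 + r + 2) * ((r + 1) ^ 3 + 1)) := by
      rw [Nat.sub_sub, Nat.sub_eq_of_eq_add]; ring
    have k2 : f + 1 + e ≤ (r + 1) ^ 3 + (r + 1) ^ 2 + r + 2 :=
      Nat.le_of_mul_le_mul_left (by nlinarith : r * _ ≤ r * _) (by omega)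
    rw [k1, mul_left_comm, mul_assoc] at h5
    have k3 := Nat.le_of_mul_le_mul_left h5 (by omega)
    have k4 := ar2 (c := (r + 1) ^ 3) (t := (r + 1) ^ 3 + (r + 1) ^ 2 + r + 2) (e := e) (f := f)
      (by convert k3 using 2 <;> ring) (by omega)
    nlinarith [Nat.zero_le (r ^ 3), Nat.zero_le (r ^ 2)]

end Cfsg.Agent.H26.MD
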