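import Mathlib
import Cfsg.Agent.H26.MO6

/-! A point whose stabiliser meets some root group in a large subgroup fixes a line. -/

set_option autoImplicit false
set_option linter.unusedSectionVars false

namespace Cfsg.Agent.H26.MD

open Module QuadraticMap H13
open scoped Pointwise

variable {F V : Type*} [Field F] [Finite F] [AddCommGroup V] [Module F V] [FiniteDimensional F V]
  [Finite V] {Q : QuadraticForm F V} [hC : OC Q]

local notation "B" => polar Q
local notation "q" => Nat.card F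
local notation "n" => finrank F V

theorem exists_nonsing (hn : 7 ≤ n) {a b : V} (c d : V) (ha : Q a = 0) (hab : B b a ≠ 0) :
    ∃ z, (B a z = 0 ∧ B c z = 0) ∧ (B b z = 0 ∧ B d z = 0) ∧ Q z ≠ 0 := by
  by_contra! h3
  have e1 := hC.nd.finrank_perp (Submodule.span F {a, c} ⊔ Submodule.span F {b, d})
  have e2 := Submodule.finrank_add_le_finrank_add_finrank (Submodule.span F {a, c})
    (Submodule.span F {b, d})
  have e3 := finrank_span_pair_le (F := F) a c
  have e4 := finrank_span_pair_le (F := F) b d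
  have := mem_of_max (Q := Q) hn (U := perp Q (Submodule.span F {a, c} ⊔ Submodule.span F {b, d}))
    (fun y hy => by rw [perp_sup] at hy; exact h3 y (mem_perp_pair.1 hy.1) (mem_perp_pair.1 hy.2))
    (by omega) ha fun y hy => by
      rw [perp_sup] at hy; rw [polar_comm]; exact (mem_perp_pair.1 hy.1).1
  rw [perp_sup] at this
  exact hab (mem_perp_pair.1 this.2).1

variable {X : Type*} [MulAction (Om Q) X] [Finite X]

theorem Reg.g {p : V} {ω : X} (h : Reg Q p ω) (g : Om Q) : Reg Q (g • p) (g • ω) := fun s hs => by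
  by_contra h1
  exact g_notMem g⁻¹ h1 (by simpa using h _ ((g_mem_SS g).1 (by simpa using hs)))

theorem Reg.smul {p : V} {ω : X} (h : Reg Q p ω) (hp : Q p = 0) {c : F} (hc : c ≠ 0) :
    Reg Q (c • p) ω := fun s hs => by
  rw [Submodule.span_singleton_smul_eq hc.isUnit]
  exact (Submodule.smul_mem_iff _ hc).1 (h _ ((smul_mem_SS hp hc).1 hs))

variable (Q) in
def KK (p : V) (ω : X) : Submodule F V where
  carrier := {w | ∀ c : F, c • w ∈ SS Q p ω}
  zero_mem' := fun c => by simp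
  add_mem' := fun ha hb c => by rw [smul_add]; exact add_mem (ha c) (hb c)
  smul_mem' := fun d w h c => by rw [smul_smul]; exact h _

theorem KK_p {p w : V} {ω : X} (h : w ∈ KK Q p ω) : B p w = 0 := by simpa using (mem_SS.1 (h 1)).1
theorem KK_fix {p w : V} {ω : X} (h : w ∈ KK Q p ω) : rho Q p w • ω = ω := by
  simpa using (mem_SS.1 (h 1)).2
theorem KK_g {p w : V} {ω : X} (g : Om Q) (hg : g • ω = ω) (h : w ∈ KK Q p ω) :
    g • w ∈ KK Q (g • p) ω := fun c => by rw [← g_smul, ← hg]; exact (g_mem_SS g).2 (h c)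
theorem KK_smul {p w : V} {ω : X} (hp : Q p = 0) {c : F} (hc : c ≠ 0) (h : w ∈ KK Q p ω) :
    w ∈ KK Q (c • p) ω := fun d => (smul_mem_SS hp hc).2 (by rw [smul_smul]; exact h _)
theorem KK_swap {p x : V} {ω : X} (hp : Q p = 0) (hx : Q x = 0) (h : x ∈ KK Q p ω) : p ∈ KK Q x ω :=
  fun c => mem_SS.2 ⟨by simp [polar_comm Q x p, KK_p h], by
    rw [← rho_smul_left hx (by rw [polar_comm]; exact KK_p h), rho_swap hp (by simp [Q_smul, hx])
      (by simp [KK_p h])]
    exact KK_fix (neg_mem (Submodule.smul_mem _ c h))⟩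

variable (Q) in
structure Gm (ω : X) (p : V) : Prop where
  s : Q p = 0
  ne : p ≠ 0
  nr : ¬ Reg Q p ω

theorem Gm.g {p : V} {ω : X} (h : Gm Q ω p) (g : Om Q) (hg : g • ω = ω) : Gm Q ω (g • p) :=
  ⟨by simp [h.s], g_ne g h.ne, fun h' => h.nr (by simpa [inv_smul_eq_iff.2 hg.symm] using h'.g g⁻¹)⟩

theorem Gm.smul {p : V} {ω : X} (h : Gm Q ω p) {c : F} (hc : c ≠ 0) : Gm Q ω (c • p) :=
  ⟨by simp [Q_smul, h.s], smul_ne_zero hc h.ne, fun h' => h.nr (by
    simpa [hc] using h'.smul (by simp [Q_smul, h.s]) (inv_ne_zero hc))⟩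

theorem Gm.of_K {p x : V} {ω : X} (h : Gm Q ω p) (hx : Q x = 0) (hx0 : x ≠ 0) (hK : x ∈ KK Q p ω) :
    Gm Q ω x := by
  by_cases h1 : p ∈ F ∙ x
  · obtain ⟨c, rfl⟩ := Submodule.mem_span_singleton.1 h1
    have hc : c ≠ 0 := by rintro rfl; exact h.ne (zero_smul _ _)
    simpa [hc] using h.smul (inv_ne_zero hc)
  · exact ⟨hx, hx0, fun h' => h1 (h' p (by simpa using KK_swap h.s hx hK 1))⟩

variable (hn : 7 ≤ finrank F V) {ω : X}
  (hL : ∀ p, Gm Q ω p → ∃ y, polar Q p y = 0 ∧ ∀ w, polar Q p w = 0 → polar Q y w = 0 → w ∈ KK Q p ω)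
include hn hL

omit hn in
theorem K_sup {p z w : V} (h : Gm Q ω p) (hz : B p z = 0) (hzK : z ∉ KK Q p ω) (hw : B p w = 0) :
    ∃ c : F, w - c • z ∈ KK Q p ω := by
  obtain ⟨y, -, hy⟩ := hL p h
  have : B y z ≠ 0 := fun e => hzK (hy z hz e)
  exact ⟨B y w / B y z, hy _ (by simp [hw, hz]) (by simp [this])⟩

omit hn in
theorem claim0 {p x : V} (h : Gm Q ω p) (h' : Gm Q ω x) (hB : B p x = 0) : x ∈ KK Q p ω := by
  by_contra h1
  have hB' : B x p = 0 := by rwa [polar_comm]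
  obtain ⟨w, w', e⟩ := hC.nd.exists_perp_pair_polar hC.five p x
  obtain ⟨c, hc⟩ := K_sup hL h' hB' (fun h2 => h1 (KK_swap h'.s h.s h2)) (pp_right w)
  obtain ⟨d, hd⟩ := K_sup hL h hB h1 (pp_left w')
  have e1 := KK_g _ (KK_fix hc) hd
  rw [rho_fix hB' (by simp [pp_left' w, Bss h.s]), rho_perp h'.s (KK_p hc)
    (by simp [pp_right w', Bss h'.s]), Submodule.add_mem_iff_right _ hd] at e1
  exact h1 (by simpa [e, pp_right' w, pp_left w', hB] using e1)

theorem claim1 {p p' : V} (h : Gm Q ω p) (h' : Gm Q ω p') (hB : B p p' ≠ 0) : ∃ (g : Om Q) (c : F),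
    g • ω = ω ∧ c ≠ 0 ∧ g • p = c • p' ∧ ∀ y, (∀ w ∈ KK Q p ω, B w y = 0) → B p' y = 0 → g • y = y := by
  obtain ⟨y, -, hy⟩ := hL p h
  obtain ⟨y', -, hy'⟩ := hL p' h'
  have hB' : B p' p ≠ 0 := by rwa [polar_comm]
  obtain ⟨v, v1, v2, v3⟩ := exists_nonsing hn y y' h.s hB'
  have k := (KK Q p ω).smul_mem (B p p' * Q v)⁻¹ (hy v v1.1 v1.2)
  refine ⟨rho Q p ((B p p' * Q v)⁻¹ • v) * rho Q p' v, -(B p p' * Q v), ?_, by simp [hB, v3], ?_,
    fun z h1 h2 => ?_⟩
  · rw [mul_smul, KK_fix (hy' v v2.1 v2.2), KK_fix k]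
  · rw [mul_smul, rho_apply h'.s v2.1, rho_apply h.s (KK_p k)]
    simp only [polar_add_right, polar_sub_right, polar_smul_right, polar_smul_left, polar_self', h.s,
      polar_comm Q v p, polar_comm Q v p', polar_comm Q p' p, v1.1, v2.1, Q_smul, smul_eq_mul]
    match_scalars <;> field_simp <;> ring
  · rw [mul_smul, rho_fix h2 (h1 v (hy v v1.1 v1.2)), rho_fix (h1 p fun c => self_mem_SS h.s ω c) (h1 _ k)]

theorem finish (hω : ¬ ∀ g : Om Q, g • ω = ω) {p0 : V} (h0 : Gm Q ω p0) :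
    ∃ y : V, y ≠ 0 ∧ ∀ g : Om Q, g • ω = ω → g • y ∈ F ∙ y := by
  obtain ⟨y0, -, hy0⟩ := hL p0 h0
  obtain ⟨p, p', hp, a1, a2, a3, a4⟩ := exists_hp_perp (Q := Q) hn p0 y0
  have h := h0.of_K hp.Qu hp.ne_left (hy0 p a1 a2)
  have h' := h0.of_K hp.Qv hp.ne_right (hy0 p' a3 a4)
  obtain ⟨g, c, g1, hc, g2, g3⟩ := claim1 hn hL h h' (by simp [hp.uv])
  obtain ⟨y1, b1, b2⟩ := hL p h
  set y := y1 - B p' y1 • p with hy
  have y1' : B p y = 0 := by simp [hy, b1, hp.uu]
  have y2 : B p' y = 0 := by simp [hy, hp.vu]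
  have y3 : ∀ w, B p w = 0 → B y w = 0 → w ∈ KK Q p ω := fun w h1 h2 => b2 w h1 (by simpa [hy, h1] using h2)
  have hF : ¬ Fx Q p ω := fun hF => by
    have := (hF.g g).smul (by simp [hp.Qu]) c⁻¹
    rw [g1, g2, inv_smul_smul₀ hc] at this
    exact hω (full_two hp.Qu hp.Qv hF this (by simp [hp.uv]))
  have y4 : ∀ w ∈ KK Q p ω, B w y = 0 := fun w hw => by_contra fun e => hF fun z hz => by
    rw [polar_comm] at e
    simpa using KK_fix (add_mem (y3 (z - (B y z / B y w) • w) (by simp [hz, KK_p hw]) (by simp [e]))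
      (Submodule.smul_mem _ (B y z / B y w) hw))
  have y5 : y ≠ 0 := fun e => hF fun z hz => KK_fix (y3 z hz (by simp [e]))
  have y6 : ∀ w ∈ KK Q p' ω, B w y = 0 := fun w hw => by
    have := KK_g g⁻¹ (inv_smul_eq_iff.2 g1.symm) (KK_smul hp.Qv hc hw)
    rw [← g2, inv_smul_smul] at this
    rw [← g3 y y4 y2, polar_comm, Bg_left, polar_comm]; exact y4 _ this
  have key : ∀ x, Gm Q ω x → B x y = 0 := fun x hx => by
    by_cases hpx : B p x = 0
    · exact y4 x (claim0 hL h hx hpx)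
    obtain ⟨z, z1, z2, z3, z4⟩ := exists_sing (Q := Q) hn (a := y) (b := x) (v := p) fun e => by
      obtain ⟨a, b, e⟩ := Submodule.mem_span_pair.1 e
      have e1 := congrArg (B p) e
      have e2 := congrArg (B p') e
      simp only [polar_add_right, polar_smul_right, y1', y2, hp.uu, hp.vu, smul_eq_mul, mul_zero,
        zero_add, mul_eq_zero, hpx, or_false] at e1 e2
      simp [e1] at e2
    rw [polar_comm] at z4
    obtain ⟨a, ha, e⟩ := exists_sieg_map (x := B p z • p') (y := z) hp.Qu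
      (by simp [Q_smul, hp.Qv, z1]) (by simp [hp.uv]) (by simp [hp.uv, z4])
    replace e : rho Q p a • B p z • p' = z := e
    have e1 : B y a = 0 := by
      rw [← e, rho_apply hp.Qu ha] at z2
      simpa [polar_comm Q y p, polar_comm Q y p', y1', y2, hp.uv, z4] using z2
    have e2 := KK_fix (y3 a ha e1)
    have e3 := claim0 hL (e ▸ (h'.smul z4).g _ e2) hx (by rwa [polar_comm])
    have e4 := KK_g _ (inv_smul_eq_iff.2 e2.symm) e3
    rw [← e, inv_smul_smul] at e4
    have e5 := y6 _ (by simpa [z4] using KK_smul (by simp [Q_smul, hp.Qv]) (inv_ne_zero z4) e4)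
    rwa [Bg_left, inv_inv, rho_fix y1' (by rwa [polar_comm])] at e5
  refine ⟨y, y5, fun k hk => ?_⟩
  have key' : ∀ x, Gm Q ω x → B x (k • y) = 0 := fun x hx => by
    rw [polar_comm, Bg_left, polar_comm]; exact key _ (hx.g _ (inv_smul_eq_iff.2 hk.symm))
  have : k • y ∈ Submodule.span F {p, y} := by
    by_contra e
    obtain ⟨u, u1, u2, u3, u4⟩ := exists_sing (Q := Q) hn e
    exact u4 (key' u (h.of_K u1 (by rintro rfl; simp at u4) (y3 u u2 u3)))
  obtain ⟨a, b, e⟩ := Submodule.mem_span_pair.1 this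
  have e1 := key' p' h'
  rw [← e] at e1 ⊢
  simp only [polar_add_right, polar_smul_right, hp.vu, y2, smul_eq_mul, mul_one, mul_zero, add_zero] at e1
  simp [e1, Submodule.smul_mem, Submodule.mem_span_singleton_self]

end Cfsg.Agent.H26.MD
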