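import Mathlib
import Cfsg.Agent.H26.MO7

/-! The root groups of points cannot all act regularly. -/

set_option autoImplicit false
set_option linter.unusedSectionVars false

namespace Cfsg.Agent.H26.MD

open Module QuadraticMap H13
open scoped Pointwise

variable {F V : Type*} [Field F] [Finite F] [AddCommGroup V] [Module F V] [FiniteDimensional F V]
  [Finite V] {Q : QuadraticForm F V} [hC : OC Q]

local notation "B" => polar Q
local notation "q" => Nat.card F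
local notation "n" => finrank F V

theorem rho_mix {p u v : V} (hp : Q p = 0) (hu : Q u = 0) (hpu : B p u = 0) (hpv : B p v = 0)
    (huv : B u v = 0) (c γ : F) :
    rho Q p (c • v + (γ + c * Q v) • u) * rho Q (u - c • p) (v + γ • p) = rho Q u v := by
  refine Subtype.ext (OG_ext fun y => ?_)
  change rho Q p _ • rho Q _ _ • y = rho Q u v • y
  rw [rho_apply hp (by simp [hpu, hpv]), rho_apply (by simp [Q_sub, Q_smul, hp, hu, hpu, polar_comm Q u p])
    (by simp [hpu, hpv, huv, Bss hp, polar_comm Q u p]), rho_apply hu huv]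
  simp only [polar_add_right, polar_sub_right, polar_smul_right, polar_smul_left, polar_self', hp, hu,
    polar_add_left, polar_sub_left, polar_comm Q v p, polar_comm Q v u, polar_comm Q u p, hpu, hpv, huv,
    Q_smul, Q_add, smul_eq_mul]
  match_scalars <;> ring

variable (Q) in
structure Th (E : Submodule F V) (R : V → V → Prop) : Prop where
  ex : ∀ v ∈ E, ∃ t ∈ E, R v t
  sa : ∀ {v t v' t'}, v ∈ E → t ∈ E → v' ∈ E → t' ∈ E → R v t → R v' t' → B v t' = B v' t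
  eig : ∀ {v} (c : F), v ∈ E → R v (c • v) → v = 0
  cj : ∀ a ∈ E, ∀ b ∈ E, Q a = 0 → B a b = 0 → ∃ c : F, ∀ v ∈ E, ∀ t ∈ E, R v t →
    R (rho Q a b • v) (rho Q a b • t + c • rho Q a b • v)
  two : (2 : F) = 0 → ∀ v ∈ E, ∀ t ∈ E, R v t → B v t = 0
  nd : ∀ z ∈ E, (∀ v ∈ E, B v z = 0) → z = 0

theorem rho_mem {E : Submodule F V} {a b v : V} (ha : a ∈ E) (hb : b ∈ E) (hv : v ∈ E) (hQ : Q a = 0)
    (hab : B a b = 0) : rho Q a b • v ∈ E := by
  rw [rho_apply hQ hab]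
  exact E.sub_mem (E.add_mem hv (E.smul_mem _ ha)) (E.smul_mem _ (E.add_mem hb (E.smul_mem _ ha)))

namespace Th
variable {E : Submodule F V} {R : V → V → Prop} (h : Th Q E R)
include h

theorem star {a b t : V} (ha : a ∈ E) (hb : b ∈ E) (ht : t ∈ E) (hQ : Q a = 0) (hab : B a b = 0)
    (hba : b ∉ F ∙ a) (ha0 : a ≠ 0) (hR : R a t) : B a t = 0 ∧ ∃ r ∈ E, R b r ∧
      (2 * Q b) • t = (B b r + 3 * B b t * Q b) • a - (2 * B b t) • b := by
  obtain ⟨c, hc⟩ := h.cj a ha b hb hQ hab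
  have m := fun v hv => rho_mem (v := v) ha hb hv hQ hab
  have hba' : B b a = 0 := by rwa [polar_comm]
  have key : ∀ v ∈ E, ∀ s ∈ E, ∀ v' ∈ E, ∀ s' ∈ E, R v s → R v' s' →
      B (rho Q a b • v) s' = B v' (rho Q a b • s + c • rho Q a b • v) := fun v hv s hs v' hv' s' hs' h1 h2 =>
    h.sa (m v hv) (E.add_mem (m s hs) (E.smul_mem _ (m v hv))) hv' hs' (hc v hv s hs h1) h2
  have e1 : dl Q a t b + c • a = 0 := h.nd _ (E.add_mem (by
      simpa [rho_eq_dl hQ hab] using E.sub_mem (m t ht) ht) (E.smul_mem _ ha)) fun v hv => by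
    obtain ⟨s, hs, h1⟩ := h.ex v hv
    have := key a ha t ht v hv s hs hR h1
    rw [rho_self, h.sa ha ht hv hs hR h1, rho_eq_dl hQ hab] at this
    simp only [polar_add_right] at this ⊢
    linear_combination -this
  have e2 : B a t = 0 := by
    by_contra e
    exact hba (mem_of_dl e (Submodule.mem_span_singleton_self a) (eq_neg_of_add_eq_zero_left e1 ▸
      neg_mem (Submodule.smul_mem _ _ (Submodule.mem_span_singleton_self a))))
  obtain rfl : c = -B b t := by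
    simp only [dl, e2, zero_smul, sub_zero, ← add_smul, smul_eq_zero, ha0, or_false] at e1
    linear_combination e1
  obtain ⟨r, hr, hbr⟩ := h.ex b hb
  refine ⟨e2, r, hr, hbr, sub_eq_zero.1 (h.nd _ (E.sub_mem (E.smul_mem _ ht) (E.sub_mem (E.smul_mem _ ha)
    (E.smul_mem _ hb))) fun v hv => ?_)⟩
  obtain ⟨s, hs, h1⟩ := h.ex v hv
  have k1 := key v hv s hs b hb r hr h1 hbr
  have k2 := h.sa hv hs hb hr h1 hbr
  have k3 := h.sa hv hs ha ht h1 hR
  have k4 := h.sa ha ht hb hr hR hbr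
  rw [rho_apply hQ hab, rho_apply hQ hab] at k1
  simp only [dl, polar_add_right, polar_sub_right, polar_smul_right, polar_smul_left, polar_self',
    polar_add_left, polar_sub_left, hba', e2, smul_eq_mul, polar_zero_right, polar_comm Q v a,
    polar_comm Q v b, k4, ← k2, ← k3] at k1 ⊢
  linear_combination k1

theorem not_mem {a t : V} (ha : a ∈ E) (ha0 : a ≠ 0) (hR : R a t) : t ∉ F ∙ a := fun e => by
  obtain ⟨c, rfl⟩ := Submodule.mem_span_singleton.1 e
  exact ha0 (h.eig c ha hR)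

theorem contra (h' : Th Q E fun v t => R t v) {a a' : V} (hp : HP Q a a') (ha : a ∈ E) (ha' : a' ∈ E)
    {b : V} (hb : b ∈ E) (hab : B a b = 0) (hab' : B a' b = 0) (hQ : Q b ≠ 0) : False := by
  have nm : ∀ {a b : V}, Q a = 0 → Q b ≠ 0 → b ∉ F ∙ a := fun h1 h2 e => by
    obtain ⟨c, rfl⟩ := Submodule.mem_span_singleton.1 e
    simp [Q_smul, h1] at h2
  obtain ⟨t, ht, hR⟩ := h.ex a ha
  by_cases h2 : (2 : F) = 0
  swap
  · obtain ⟨s, hs, hR'⟩ := h'.ex a ha
    obtain ⟨e1, r, -, -, e2⟩ := h.star ha hb ht hp.Qu hab (nm hp.Qu hQ) hp.ne_left hR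
    obtain ⟨-, r', -, -, e3⟩ := h'.star ha hb hs hp.Qu hab (nm hp.Qu hQ) hp.ne_left hR'
    have e4 := h.sa hs ha ha ht hR' hR
    have h3 := mul_ne_zero h2 hQ
    have e5 := congrArg (B · t) e3
    simp only [polar_smul_left, polar_sub_left, e4, e1, hp.uu, smul_eq_mul, mul_zero, zero_sub,
      zero_eq_neg] at e5
    rcases mul_eq_zero.1 e5 with e | e
    · refine h'.not_mem ha hp.ne_left hR' ((Submodule.smul_mem_iff _ h3).1 ?_)
      rw [e3, e, zero_smul, sub_zero]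
      exact Submodule.smul_mem _ _ (Submodule.mem_span_singleton_self a)
    · refine h.not_mem ha hp.ne_left hR ((Submodule.smul_mem_iff _ h3).1 ?_)
      rw [e2, e, mul_zero 2, zero_smul, sub_zero]
      exact Submodule.smul_mem _ _ (Submodule.mem_span_singleton_self a)
  have h0 : ∀ x, B x x = 0 := fun x => by rw [polar_self', h2, zero_mul]
  have key : ∀ {a a' t}, HP Q a a' → a ∈ E → a' ∈ E → t ∈ E → R a t →
      (∀ b ∈ E, B a b = 0 → B a' b = 0 → Q b ≠ 0 → B b (t - B a' t • a) = 0) ∧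
      ∃ s ∈ E, B a s = 0 ∧ B a' s = 0 ∧ B s (t - B a' t • a) ≠ 0 := by
    intro a a' t hp ha ha' ht hR
    refine ⟨fun b hb h1 h3 h4 => ?_, ?_⟩
    · obtain ⟨-, r, hr, e1, e2⟩ := h.star ha hb ht hp.Qu h1 (nm hp.Qu h4) hp.ne_left hR
      rw [h2, h.two h2 b hb r hr e1, show (3 : F) = 1 by linear_combination h2] at e2
      simpa [hp.ne_left, h4, polar_comm Q b a, h1] using e2.symm
    by_contra! e
    refine h.not_mem ha hp.ne_left hR (Submodule.mem_span_singleton.2 ⟨B a' t, (sub_eq_zero.1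
      (h.nd _ (E.sub_mem ht (E.smul_mem _ ha)) fun v hv => ?_)).symm⟩)
    have := e (v - B a' v • a - B a v • a') (E.sub_mem (E.sub_mem hv (E.smul_mem _ ha))
      (E.smul_mem _ ha')) (by simp [hp.uu, hp.uv]) (by simp [hp.vv, hp.vu])
    simp only [polar_sub_left, polar_sub_right, polar_smul_left, polar_smul_right, hp.uu, hp.vu,
      h.two h2 a ha t ht hR, smul_eq_mul] at this ⊢
    linear_combination this
  obtain ⟨t', ht', hR'⟩ := h.ex a' ha'
  obtain ⟨k1, s0, hs0, s1, s2, s3⟩ := key hp ha ha' ht hR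
  obtain ⟨k2, s0', hs0', s1', s2', s3'⟩ := key hp.symm ha' ha ht' hR'
  have e0 : B a t' = B a' t := h.sa ha ht ha' ht' hR hR'
  set x := t - B a' t • a with hx
  set y := t' - B a t' • a' with hy
  have x0 : x ∈ E := E.sub_mem ht (E.smul_mem _ ha)
  have y0 : y ∈ E := E.sub_mem ht' (E.smul_mem _ ha')
  have x1 : B a x = 0 := by simp [hx, hp.uu, h.two h2 a ha t ht hR]
  have x2 : B a' x = 0 := by simp [hx, hp.vu]
  have y1 : B a y = 0 := by simp [hy, hp.uv]
  have y2 : B a' y = 0 := by simp [hy, hp.vv, h.two h2 a' ha' t' ht' hR']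
  have q1 : ∀ s ∈ E, B a s = 0 → B a' s = 0 → B s x ≠ 0 → Q s = 0 := fun s h1 h3 h4 h5 =>
    by_contra fun e => h5 (k1 s h1 h3 h4 e)
  have q2 : ∀ s ∈ E, B a s = 0 → B a' s = 0 → B s x ≠ 0 → Q x + B s x = 0 := fun s h1 h3 h4 h5 => by
    simpa [Q_add, q1 s h1 h3 h4 h5] using
      q1 (s + x) (E.add_mem h1 x0) (by simp [h3, x1]) (by simp [h4, x2]) (by simpa [h0] using h5)
  have hQy : Q y ≠ 0 := fun e => by
    have q3 : ∀ s ∈ E, B a' s = 0 → B a s = 0 → B s y ≠ 0 → Q s = 0 := fun s h1 h3 h4 h5 =>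
      by_contra fun e => h5 (k2 s h1 h3 h4 e)
    simpa [Q_add, q3 s0' hs0' s1' s2' s3', e, s3'] using q3 (s0' + y) (E.add_mem hs0' y0)
      (by simp [s1', y2]) (by simp [s2', y1]) (by simpa [h0] using s3')
  have q4 : ∀ s ∈ E, B a s = 0 → B a' s = 0 → B s x ≠ 0 → B s x = B s y := fun s h1 h3 h4 h5 => by
    have e1 := q1 (s + y) (E.add_mem h1 y0) (by simp [h3, y1]) (by simp [h4, y2])
      (by simpa [k1 y y0 y1 y2 hQy] using h5)
    have e2 := q2 s h1 h3 h4 h5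
    have e3 := q2 ((Q y / B s x) • s) (E.smul_mem _ h1) (by simp [h3]) (by simp [h4]) (by simp [h5, hQy])
    simp only [Q_add, q1 s h1 h3 h4 h5, polar_smul_left, smul_eq_mul, div_mul_cancel₀ _ h5] at e1 e3
    linear_combination e2 - e3 - e1 + Q y * h2
  have exy : x = y := sub_eq_zero.1 (h.nd _ (E.sub_mem x0 y0) fun v hv => by
    have : ∀ s ∈ E, B a s = 0 → B a' s = 0 → B s x = B s y := fun s h1 h3 h4 => by
      by_cases h5 : B s x = 0
      · have := q4 (s + s0) (E.add_mem h1 hs0) (by simp [h3, s1]) (by simp [h4, s2]) (by simpa [h5] using s3)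
        simpa [q4 s0 hs0 s1 s2 s3] using this
      · exact q4 s h1 h3 h4 h5
    simpa [x1, x2, y1, y2, sub_eq_zero] using this (v - B a' v • a - B a v • a')
      (E.sub_mem (E.sub_mem hv (E.smul_mem _ ha)) (E.smul_mem _ ha')) (by simp [hp.uu, hp.uv])
      (by simp [hp.vv, hp.vu]))
  obtain ⟨z, hz, hRz⟩ := h.ex _ (E.add_mem ha ha')
  obtain rfl : z = B a' t • (a + a') := sub_eq_zero.1 (h.nd _ (E.sub_mem hz
    (E.smul_mem _ (E.add_mem ha ha'))) fun v hv => by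
      obtain ⟨w, hw, hv'⟩ := h.ex v hv
      have := congrArg (B v) exy
      simp only [hx, hy, polar_sub_right, polar_smul_right, polar_add_right, e0, smul_eq_mul,
        h.sa hv hw (E.add_mem ha ha') hz hv' hRz, polar_add_left, h.sa ha ht hv hw hR hv',
        h.sa ha' ht' hv hw hR' hv'] at this ⊢
      linear_combination -this + (B v t - B a' t * B v a) * h2)
  simpa [hp.uu, hp.uv] using congrArg (B a) (h.eig _ (E.add_mem ha ha') hRz)

end Th

variable {X : Type*} [MulAction (Om Q) X] [Finite X]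

variable (Q) in
def Rl (ω : X) (p u v t : V) : Prop := ∃ β : F, rho Q p (t + β • u) • ω = rho Q u v • ω

theorem Rl.symm {ω : X} {p u v t : V} (hp : Q p = 0) (hu : Q u = 0) (hpu : B p u = 0) (ht : B p t = 0)
    (hv : B u v = 0) (h : Rl Q ω p u v t) : Rl Q ω u p t v := by
  obtain ⟨β, h⟩ := h
  have hup : B u p = 0 := by rwa [polar_comm]
  refine ⟨β, ?_⟩
  rw [add_comm v, rho_add (by simp [hup]) hv, mul_smul, ← h, ← rho_smul_left hu hup,
    rho_swap hp (by simp [Q_smul, hu]) (by simp [hpu]), ← mul_smul, ← rho_add (by simp [hpu])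
    (by simp [hpu, ht])]
  congr 2; abel

set_option maxHeartbeats 800000 in
theorem th_of {ω : X} (hR : ∀ x, Q x = 0 → x ≠ 0 → Reg Q x ω) {p p' u u' : V} (hp : HP Q p p')
    (hu : HP Q u u') (h1 : B p u = 0) (h2 : B p u' = 0) (h3 : B p' u = 0) (h4 : B p' u' = 0)
    (hT : ∀ y : X, y ∈ ob Q p ω) (h3n : 7 ≤ n) : Th Q (pp Q p p' ⊓ pp Q u u') (Rl Q ω p u) := by
  have mE : ∀ {v}, v ∈ pp Q p p' ⊓ pp Q u u' ↔ (B p v = 0 ∧ B p' v = 0) ∧ B u v = 0 ∧ B u' v = 0 := by
    simp only [Submodule.mem_inf, mem_perp_pair, implies_true]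
  have h1' : B u p = 0 := by rwa [polar_comm]
  have h2' : B u' p = 0 := by rwa [polar_comm]
  have h3' : B u p' = 0 := by rwa [polar_comm]
  have h4' : B u' p' = 0 := by rwa [polar_comm]
  have nd : ∀ z ∈ pp Q p p' ⊓ pp Q u u', (∀ v ∈ pp Q p p' ⊓ pp Q u u', B v z = 0) → z = 0 := by
    intro z hz h
    refine hβ (Q := Q) z fun v => ?_
    obtain ⟨⟨z1, z2⟩, z3, z4⟩ := mE.1 hz
    simpa [z1, z2, z3, z4] using h (v - B p' v • p - B p v • p' - B u' v • u - B u v • u') (mE.2 (by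
      simp [hp.uu, hp.vv, hp.uv, hp.vu, hu.uu, hu.vv, hu.uv, hu.vu, *]))
  have un : ∀ {w w'}, B p w = 0 → B p w' = 0 → rho Q p w • ω = rho Q p w' • ω → ∃ c : F, c • p = w - w' :=
    fun a b e => Submodule.mem_span_singleton.1 (hR p hp.Qu hp.ne_left _
      ((rr Q p).sub_mem (mem_DD.2 a) (mem_DD.2 b) e))
  have co : ∀ {v v' w w'}, B p v = 0 → B u v = 0 → B u v' = 0 → B p w = 0 → B p w' = 0 →
      rho Q p w • ω = rho Q u v • ω → rho Q p w' • ω = rho Q u v' • ω →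
      rho Q p (rho Q u v • w' + w) • ω = rho Q u (v + v') • ω ∧ B p (rho Q u v • w' + w) = 0 := by
    intro v v' w w' a1 a2 a3 a4 a5 e e'
    have a6 : rho Q u v • p = p := rho_fix h1' (by rwa [polar_comm])
    have a7 : B p (rho Q u v • w') = 0 := by rw [← a6, Bg, a5]
    refine ⟨?_, by simp [a7, a4]⟩
    rw [rho_add a7 a4, rho_add a2 a3, mul_smul, mul_smul, e, ← e']
    nth_rw 1 [← a6]
    simp [← conj_rho, mul_smul]
  have sw : ∀ {v v' w w'}, B p v = 0 → B p v' = 0 → B u v = 0 → B u v' = 0 → B p w = 0 → B p w' = 0 →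
      rho Q p w • ω = rho Q u v • ω → rho Q p w' • ω = rho Q u v' • ω →
      ∃ c : F, c • p = dl Q u w' v - dl Q u w v' := by
    intro v v' w w' a0 a1 a2 a3 a4 a5 e e'
    obtain ⟨b1, b2⟩ := co a0 a2 a3 a4 a5 e e'
    obtain ⟨b3, b4⟩ := co a1 a3 a2 a5 a4 e' e
    obtain ⟨c, hc⟩ := un b2 b4 (by rw [b1, b3, add_comm])
    exact ⟨c, by rw [hc, rho_eq_dl hu.Qu a2, rho_eq_dl hu.Qu a3]; abel⟩
  refine ⟨fun v hv => ?_, fun {v t v' t'} hv ht hv' ht' ⟨β, e⟩ ⟨β', e'⟩ => ?_, fun {v} c hv ⟨β, e⟩ => ?_,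
    fun a ha b hb hQ hab => ?_, fun h0 v hv t ht ⟨β, e⟩ => ?_, nd⟩
  · obtain ⟨⟨v1, v2⟩, v3, v4⟩ := mE.1 hv
    obtain ⟨w, hw, e⟩ := hT (rho Q u v • ω)
    replace hw := mem_DD.1 hw
    have hτ : B u w = 0 := by
      have d1 := Submodule.finrank_sup_add_finrank_inf_eq (pp Q p p') (pp Q u u')
      have d2 := Submodule.finrank_le (pp Q p p' ⊔ pp Q u u')
      have d3 := hp.finrank_pp
      have d4 := hu.finrank_pp
      obtain ⟨v', hv', hvv⟩ := exists_notMem_of_finrank_lt (H := F ∙ v) (W := pp Q p p' ⊓ pp Q u u')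
        (((finrank_span_le_card _).trans (by simp)).trans_lt (by omega : 1 < _))
      obtain ⟨⟨v1', v2'⟩, v3', v4'⟩ := mE.1 hv'
      obtain ⟨w', hw', e'⟩ := hT (rho Q u v' • ω)
      obtain ⟨c, hc⟩ := sw v1 v1' v3 v3' hw (mem_DD.1 hw') e e'
      by_contra hτ
      have := nd (B u w • v' - B u w' • v) (sub_mem (Submodule.smul_mem _ _ hv')
        (Submodule.smul_mem _ _ hv)) fun y hy => by
          obtain ⟨⟨y1, -⟩, y3, -⟩ := mE.1 hy
          have := congrArg (B y) hc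
          simp only [dl, polar_sub_right, polar_add_right, polar_smul_right, polar_comm Q y p,
            polar_comm Q y u, y1, y3, smul_eq_mul] at this ⊢
          linear_combination -this
      exact hvv ((Submodule.smul_mem_iff _ hτ).1 (sub_eq_zero.1 this ▸
        Submodule.smul_mem _ _ (Submodule.mem_span_singleton_self v)))
    refine ⟨w - B p' w • p - B u' w • u, mE.2 (by simp [hp.uu, hp.vu, hu.uu, hu.vu, *]), B u' w, ?_⟩
    rw [← e, sub_add_cancel, sub_eq_add_neg, ← neg_smul]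
    exact congrArg (· • ω) (Subtype.ext (sieg_add_smul_self hp.Qu hw _) : rho Q p _ = rho Q p w)
  · obtain ⟨⟨v1, v2⟩, v3, v4⟩ := mE.1 hv
    obtain ⟨⟨v1', v2'⟩, v3', v4'⟩ := mE.1 hv'
    obtain ⟨⟨t1, t2⟩, t3, t4⟩ := mE.1 ht
    obtain ⟨⟨t1', t2'⟩, t3', t4'⟩ := mE.1 ht'
    obtain ⟨c, hc⟩ := sw v1 v1' v3 v3' (by simp [t1, h1]) (by simp [t1', h1]) e e'
    have := congrArg (B u') hc
    simp only [dl, polar_sub_right, polar_add_right, polar_smul_right, hu.vu, hu.uu, h2', t3, t3',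
      polar_comm Q v u, polar_comm Q v' u, v3, v3', smul_eq_mul] at this
    linear_combination -this
  · obtain ⟨⟨v1, v2⟩, v3, v4⟩ := mE.1 hv
    have e1 := rho_mix hp.Qu hu.Qu h1 v1 v3 c (β - c * Q v)
    rw [sub_add_cancel] at e1
    rw [← e1, mul_smul, smul_left_cancel_iff] at e
    obtain ⟨d, hd⟩ := Submodule.mem_span_singleton.1 (hR (u - c • p)
      (by simp [Q_sub, Q_smul, hp.Qu, hu.Qu, h1']) (fun h => by simpa [hu.vu, h2'] using congrArg (B u') h)
      _ (mem_SS.2 ⟨by simp [v1, v3, h1', hp.uu], e.symm⟩))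
    obtain rfl : d = 0 := by simpa [hu.vu, h2', v4] using congrArg (B u') hd
    have := congrArg (B p') hd
    simp only [zero_smul, polar_zero_right, polar_add_right, v2, polar_smul_right, hp.vu, smul_eq_mul,
      mul_one, zero_add] at this
    simpa [← this] using hd.symm
  · obtain ⟨⟨a1, a2⟩, a3, a4⟩ := mE.1 ha
    obtain ⟨⟨b1, b2⟩, b3, b4⟩ := mE.1 hb
    obtain ⟨w, hw, e0⟩ := hT (rho Q a b • ω)
    replace hw := mem_DD.1 hw
    refine ⟨B w u, fun v hv t ht ⟨β, e⟩ => ?_⟩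
    have gp : rho Q a b • p = p := rho_fix (by rwa [polar_comm]) (by rwa [polar_comm])
    have gu : rho Q a b • u = u := rho_fix (by rwa [polar_comm]) (by rwa [polar_comm])
    obtain ⟨⟨v1, -⟩, v3, -⟩ := mE.1 (rho_mem ha hb hv hQ hab)
    obtain ⟨⟨t1, -⟩, t3, -⟩ := mE.1 (rho_mem ha hb ht hQ hab)
    set g := rho Q a b
    have e1 : rho Q p (g • t + β • u) • rho Q p w • ω = rho Q u (g • v) • rho Q p w • ω := by
      have c1 := conj_rho g p (t + β • u)
      have c2 := conj_rho g u v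
      rw [gp, smul_add, g_smul, gu] at c1
      rw [gu] at c2
      simp [e0, ← c1, ← c2, mul_smul, e]
    have e2 := conj_rho (rho Q p (-w)) u (g • v)
    rw [rho_perp hp.Qu (by simp [hw]) h1, rho_perp hp.Qu (by simp [hw]) v1, polar_neg_left, neg_smul,
      ← sub_eq_add_neg, (rr Q p).neg (mem_DD.2 hw), inv_inv] at e2
    refine ⟨β + (B (-w) (g • v) + B w u * Q (g • v)), ?_⟩
    have e3 := rho_mix hp.Qu hu.Qu h1 v1 v3 (B w u) (B (-w) (g • v))
    rw [← e2] at e3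
    have e4 : ∀ a b : V, B p a = 0 → B p b = 0 → ∀ y : X, rho Q p a • rho Q p b • y = rho Q p (a + b) • y :=
      fun a b ha hb y => by rw [rho_add ha hb, mul_smul]
    calc _ = rho Q p (B w u • g • v + (B (-w) (g • v) + B w u * Q (g • v)) • u) • rho Q p (-w) •
          rho Q p (g • t + β • u) • rho Q p w • ω := by
          rw [e4 _ w (by simp [t1, h1]) hw, e4 (-w) _ (by simp [hw]) (by simp [t1, h1, hw]),
            e4 _ _ (by simp [v1, h1]) (by simp [t1, h1, hw])]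
          exact congrArg (fun z => rho Q p z • ω) (by generalize g • v = a; generalize g • t = b; module)
      _ = _ := by
          rw [e1, (rr Q p).neg (mem_DD.2 hw), ← mul_smul, ← mul_smul, ← mul_smul]
          exact congrArg (· • ω) (by simpa only [mul_assoc] using e3)
  · obtain ⟨⟨v1, v2⟩, v3, v4⟩ := mE.1 hv
    obtain ⟨⟨t1, t2⟩, t3, t4⟩ := mE.1 ht
    obtain ⟨b1, b2⟩ := co v1 v3 v3 (by simp [t1, h1]) (by simp [t1, h1]) e e
    obtain ⟨c, hc⟩ := un b2 (w' := 0) (by simp) (by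
      rw [b1, ← two_smul F v, h0, zero_smul, (rr Q u).zero, (rr Q p).zero])
    have := congrArg (B u') hc
    rw [rho_perp hu.Qu v3 (by simp [t3, hu.uu])] at this
    simp only [polar_sub_right, polar_add_right, polar_smul_right, hu.vu, h2', t4, polar_comm Q v u, v3,
      smul_eq_mul, polar_zero_right] at this
    linear_combination -this - β * h0

theorem not_all_reg (hn : 7 ≤ n) (hX : Nat.card X < (q + 2) * q ^ (n - 3))
    [MulAction.IsPretransitive (Om Q) X] (ω : X) : ¬ ∀ x, Q x = 0 → x ≠ 0 → Reg Q x ω := by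
  intro hR
  have hT : ∀ p, Q p = 0 → p ≠ 0 → ∀ y : X, y ∈ ob Q p ω := fun p hp hp0 y => by
    have key : ∀ y : X, q ^ (n - 2) ≤ (ob Q p y).ncard := fun y => by
      obtain ⟨g, rfl⟩ := MulAction.exists_smul_eq (Om Q) ω y
      have := reg_card hp0 (by simpa using (hR (g⁻¹ • p) (by simpa) (g_ne _ hp0)).g g)
      rw [card_AA hp0, show n - 1 = n - 2 + 1 by omega, pow_succ'] at this
      exact Nat.le_of_mul_le_mul_left this Nat.card_pos
    by_contra hy
    have h1 := Set.ncard_le_card (ob Q p ω ∪ ob Q p y)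
    rw [Set.ncard_union_eq (Set.disjoint_left.2 fun z h h' => hy
      ((((rr Q p).orb_eq h').symm.trans ((rr Q p).orb_eq h)).le ((rr Q p).self_mem y)))] at h1
    have h2 := key ω
    have h3 := key y
    rw [show n - 2 = n - 3 + 1 by omega, pow_succ'] at h2 h3
    nlinarith [Nat.mul_le_mul_right (q ^ (n - 3)) (two_le_q (F := F))]
  obtain ⟨m, e, f, h, ha⟩ := hC.nd.exists_hypFam_anisotropic
  have h1 := finrank_le_two_of_anisotropic ha
  have h2 := h.finrank_eq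
  simp only [Fintype.card_fin] at h2
  let i : Fin m := ⟨0, by omega⟩
  let j : Fin m := ⟨1, by omega⟩
  let k : Fin m := ⟨2, by omega⟩
  have ef : ∀ a b, a ≠ b → B (e a) (f b) = 0 := fun a b hab => by simp [h.ef, hab]
  have fe : ∀ a b, a ≠ b → B (f a) (e b) = 0 := fun a b hab => by simp [h.fe, hab]
  have ij : i ≠ j := by simp [i, j]
  have ik : i ≠ k := by simp [i, k]
  have jk : j ≠ k := by simp [j, k]
  have t1 := th_of hR (h.hp i) (h.hp j) (h.ee _ _) (ef _ _ ij) (fe _ _ ij) (h.ff _ _)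
    (hT _ (h.Qe i) (h.hp i).ne_left) hn
  have t2 := th_of hR (h.hp j) (h.hp i) (h.ee _ _) (ef _ _ ij.symm) (fe _ _ ij.symm) (h.ff _ _)
    (hT _ (h.Qe j) (h.hp j).ne_left) hn
  rw [inf_comm] at t2
  set E := pp Q (e i) (f i) ⊓ pp Q (e j) (f j) with hE
  have mE : ∀ {v}, v ∈ E ↔ (B (e i) v = 0 ∧ B (f i) v = 0) ∧ B (e j) v = 0 ∧ B (f j) v = 0 := by
    simp only [hE, Submodule.mem_inf, mem_perp_pair, implies_true]
  have sy : ∀ {v t}, v ∈ E → t ∈ E → (Rl Q ω (e j) (e i) v t ↔ Rl Q ω (e i) (e j) t v) := fun hv ht =>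
    ⟨Rl.symm (h.Qe _) (h.Qe _) (h.ee _ _) (mE.1 ht).2.1 (mE.1 hv).1.1,
      Rl.symm (h.Qe _) (h.Qe _) (h.ee _ _) (mE.1 hv).1.1 (mE.1 ht).2.1⟩
  have t3 : Th Q E fun v t => Rl Q ω (e i) (e j) t v := ⟨fun v hv => by
      obtain ⟨t, ht, e⟩ := t2.ex v hv; exact ⟨t, ht, (sy hv ht).1 e⟩,
    fun a b c d e f => t2.sa a b c d ((sy a b).2 e) ((sy c d).2 f),
    fun c hv e => t2.eig c hv ((sy hv (E.smul_mem c hv)).2 e),
    fun a ha b hb h1 h2 => by
      obtain ⟨c, hc⟩ := t2.cj a ha b hb h1 h2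
      exact ⟨c, fun v hv t ht e => (sy (rho_mem ha hb hv h1 h2) (add_mem (rho_mem ha hb ht h1 h2)
        (E.smul_mem _ (rho_mem ha hb hv h1 h2)))).1 (hc v hv t ht ((sy hv ht).2 e))⟩,
    fun h0 v hv t ht e => t2.two h0 v hv t ht ((sy hv ht).2 e), t2.nd⟩
  let s : Fin 3 → Fin m := ![i, j, k]
  have hs : Function.Injective s := by
    intro a b; fin_cases a <;> fin_cases b <;> simp [s, ij, ik, jk, ij.symm, ik.symm, jk.symm]
  have h' : HypFam Q (e ∘ s) (f ∘ s) := ⟨fun _ => h.Qe _, fun _ => h.Qf _, fun _ _ => h.ee _ _,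
    fun _ _ => h.ff _ _, fun a b => by simp [h.ef, hs.eq_iff]⟩
  have h3 := h'.finrank_eq
  simp only [Fintype.card_fin] at h3
  have := Module.nontrivial_of_finrank_pos (R := F) (M := hypPerp Q (e ∘ s) (f ∘ s)) (by omega)
  obtain ⟨b, hb⟩ := (h'.nd_restrict hC.nd).exists_ne_zero
  obtain ⟨b1, b2⟩ := mem_hypPerp.1 b.2
  exact t1.contra t3 (h.hp k) (mE.2 ⟨⟨h.ee _ _, fe _ _ ik⟩, h.ee _ _, fe _ _ jk⟩)
    (mE.2 ⟨⟨ef _ _ ik, h.ff _ _⟩, ef _ _ jk, h.ff _ _⟩) (mE.2 ⟨⟨b1 0, b2 0⟩, b1 1, b2 1⟩) (b1 2) (b2 2) hb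

theorem main (hn : 7 ≤ n) (hX : Nat.card X < (q + 2) * q ^ (n - 3)) [MulAction.IsPretransitive (Om Q) X]
    (hN : (q - 1) * Nat.card X < nz Q - 1)
    (hs : q ≤ 3 → n ≤ 8 → ∀ U : Submodule F V, (∀ a ∈ U, Q a = 0) → finrank F U = n - 4 →
      Nat.card X < (q + 1) * q ^ (n - 3) + (q + 1) * q ^ (n - 5)) (ω : X)
    (hω : ¬ ∀ g : Om Q, g • ω = ω) : ∃ y : V, y ≠ 0 ∧ ∀ g : Om Q, g • ω = ω → g • y ∈ F ∙ y := by
  have h1 := not_all_reg (Q := Q) hn hX ω
  push Not at h1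
  obtain ⟨p, hp, hp0, h1⟩ := h1
  refine finish hn (fun x hx => ?_) hω ⟨hp, hp0, h1⟩
  rcases tri hn hX ω hx.s hx.ne with h | ⟨y, h2, h3⟩ | ⟨U, hU⟩
  · exact absurd h hx.nr
  · refine ⟨y, h2, fun w h4 h5 c => mem_SS_of fun a ha => ?_⟩
    obtain ⟨s, t, rfl⟩ := Submodule.mem_span_pair.1 (h3 a ha)
    simp [h4, h5]
  · exfalso
    by_cases hq : 4 ≤ q
    · refine no_sp hn hX (fun y hy => hω fun g => ?_) hN hU hx.ne hq
      obtain ⟨k, rfl⟩ := MulAction.exists_smul_eq (Om Q) y ω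
      rw [← mul_smul, hy, hy]
    · have := hU.count hn hX hx.ne
      have := hs (by omega) hU.le U hU.sing hU.rk
      omega

end Cfsg.Agent.H26.MD
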