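import Mathlib
import Cfsg.Agent.H13.Center
import Cfsg.Agent.H26.MO8

/-! Minimal index of a proper subgroup of an orthogonal group. -/

set_option autoImplicit false
set_option linter.unusedSectionVars false

namespace Cfsg.Agent.H26.MD

open Module QuadraticMap H13
open scoped Pointwise Classical

def MinIdx (G : Type*) [Group G] (N : ℕ) : Prop :=
  (∀ H : Subgroup G, H ≠ ⊤ → N ≤ H.index) ∧ ∃ H : Subgroup G, H.index = N

theorem MinIdx.of_surj {G G' : Type*} [Group G] [Group G'] (f : G →* G') (hf : Function.Surjective f)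
    {N : ℕ} (h : ∀ H : Subgroup G, H ≠ ⊤ → N ≤ H.index) {H : Subgroup G} (h1 : f.ker ≤ H)
    (h2 : H.index = N) : MinIdx G' N :=
  ⟨fun K hK => K.index_comap_of_surjective hf ▸ h _ fun e => hK (by
    rw [← Subgroup.map_comap_eq_self_of_surjective hf K, e, Subgroup.map_top_of_surjective f hf]),
    H.map f, by rw [← Subgroup.index_comap_of_surjective _ hf, Subgroup.comap_map_eq_self h1, h2]⟩

theorem MinIdx.of_equiv {G G' : Type*} [Group G] [Group G'] (e : G ≃* G') {N : ℕ} (h : MinIdx G N) :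
    MinIdx G' N := by
  obtain ⟨h1, H, h2⟩ := h
  exact MinIdx.of_surj e.toMonoidHom e.surjective h1
    (((MonoidHom.ker_eq_bot_iff _).2 e.injective).le.trans bot_le) h2

variable {F V : Type*} [Field F] [Finite F] [AddCommGroup V] [Module F V] [FiniteDimensional F V]
  [Finite V] {Q : QuadraticForm F V}

local notation "B" => polar Q
local notation "q" => Nat.card F
local notation "n" => finrank F V

variable (Q) in
noncomputable def Nc (c : F) : ℕ := Nat.card {x // Q x = c}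

theorem sum_Nc [Fintype F] : ∑ c, Nc Q c = q ^ n := by
  rw [← card_eq_pow, ← Nat.card_congr (Equiv.sigmaFiberEquiv Q), Nat.card_sigma]; rfl

theorem Nc_neg (hQ : ND Q) {m : ℕ} (hm : n = 2 * m + 2) (c : F) : Nc Q (-c) = Nc Q c := by
  have hQ' : ND (-Q) := fun x h => hQ x fun y => by simpa [polar_neg] using h y
  have hP : IsPlus (-Q) ↔ IsPlus Q := by simp [IsPlus]
  obtain ⟨e, he⟩ : ∃ e : V ≃ₗ[F] V, ∀ v, Q (e v) = -Q v := by
    by_cases h : IsPlus Q
    · obtain ⟨e, he⟩ := hQ.equiv_QPlus h (m := m + 1) (by omega)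
      obtain ⟨e', he'⟩ := hQ'.equiv_QPlus (hP.2 h) (m := m + 1) (by omega)
      exact ⟨e'.trans e.symm, fun v => by simp [← he, he']⟩
    · obtain ⟨a, b, hab⟩ := exists_anisotropic_binary F
      obtain ⟨e, he⟩ := hQ.equiv_QMinus h hm hab
      obtain ⟨e', he'⟩ := hQ'.equiv_QMinus (hP.not.2 h) hm hab
      exact ⟨e'.trans e.symm, fun v => by simp [← he, he']⟩
  exact (Nat.card_congr (e.toEquiv.subtypeEquiv fun v => by simp [he])).symm

theorem eq_of_two (h : q = 2) {a : F} (ha : a ≠ 0) : a = 1 := by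
  have := Fintype.ofFinite F
  simpa [← Nat.card_eq_fintype_card, h] using FiniteField.pow_card_sub_one_eq_one a ha

theorem eq_of_three (h : q = 3) {a : F} (ha : a ≠ 0) : a ^ 2 = 1 := by
  have := Fintype.ofFinite F
  simpa [← Nat.card_eq_fintype_card, h] using FiniteField.pow_card_sub_one_eq_one a ha

theorem two_ne_of_odd (h : Odd q) : (2 : F) ≠ 0 := fun h2 => by
  have := Fintype.ofFinite F
  have : CharP F 2 := (CharP.charP_iff_prime_eq_zero Nat.prime_two).2 h2
  have := FiniteField.even_card_of_char_two (ringChar.eq F 2)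
  rw [← Nat.card_eq_fintype_card] at this
  have := Nat.odd_iff.1 h; omega

theorem Nc_two (h : q = 2) {c : F} (hc : c ≠ 0) : nz Q + Nc Q c = 2 ^ n := by
  classical
  have := Fintype.ofFinite F
  rw [← h, ← sum_Nc (Q := Q), show (Finset.univ : Finset F) = {0, c} from Finset.ext fun a => by
    by_cases ha : a = 0 <;> simp [ha, eq_of_two h hc, eq_of_two h], Finset.sum_pair hc.symm]; rfl

theorem Nc_three (h : q = 3) (hQ : ND Q) {m : ℕ} (hm : n = 2 * m + 2) {c : F} (hc : c ≠ 0) :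
    nz Q + 2 * Nc Q c = 3 ^ n := by
  classical
  have := Fintype.ofFinite F
  have h2 : c ≠ -c := fun e => two_ne_of_odd (F := F) (by rw [h]; decide)
    (mul_right_cancel₀ hc (by linear_combination e))
  rw [← h, ← sum_Nc (Q := Q), show (Finset.univ : Finset F) = {0, c, -c} from Finset.ext fun a => by
    by_cases ha : a = 0
    · simp [ha]
    · simp [ha, ← sq_eq_sq_iff_eq_or_eq_neg, eq_of_three h ha, eq_of_three h hc],
    Finset.sum_insert (by simp [hc.symm, hc]), Finset.sum_pair h2, Nc_neg hQ hm, two_mul]; rfl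

variable [hC : OC Q]

theorem Nc_ge (c : F) : (q - 1) * q ^ (n - 2) ≤ Nc Q c := by
  classical
  have := Fintype.ofFinite F
  have := Fintype.ofFinite V
  have h5 := hC.five
  obtain ⟨x, hx0, hx⟩ := exists_singular Q (by omega)
  have h1 := sum_shift (Finset.univ.filter fun y => B x y ≠ 0) hx (fun y hy t => by simpa [Bss hx] using hy)
    (fun y hy => (Finset.mem_filter.1 hy).2) fun a => if a = c then 1 else 0
  have h2 : q ^ (n - 1) + (Finset.univ.filter fun y => B x y ≠ 0).card = q ^ n := by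
    rw [← card_eq_pow, ← AddSubgroup.card_top (G := V), ← ncard_split (Q := Q) ⊤ x, ← card_DD (Q := Q) hx0,
      ← Set.ncard_coe_finset]
    congr 1
    · exact congrArg Set.ncard (by ext y; simp [mem_DD])
    · exact congrArg Set.ncard (by ext y; simp)
  simp only [Finset.sum_ite_eq', Finset.mem_univ, if_true, mul_one, ← Finset.card_filter] at h1
  refine Nat.le_of_mul_le_mul_left (?_ : q * _ ≤ q * _) Nat.card_pos
  refine (Eq.trans ?_ h1.symm).trans_le (Nat.mul_le_mul_left _ ?_)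
  · obtain ⟨k, hk⟩ : ∃ k, n = k + 2 := ⟨n - 2, by omega⟩
    obtain ⟨r, hr⟩ : ∃ r, q = r + 1 := ⟨q - 1, by have := two_le_q (F := F); omega⟩
    simp only [hk, hr, Nat.add_sub_cancel, show k + 2 - 1 = k + 1 by omega] at h2 ⊢
    have : (r + 1) ^ (k + 2) = (r + 1) ^ (k + 1) + (r + 1) * (r * (r + 1) ^ k) := by ring
    omega
  · rw [Nc, Nat.card_eq_fintype_card, Fintype.card_subtype]
    exact Finset.card_le_card fun y hy => by simpa using (Finset.mem_filter.1 hy).2

variable (Q) in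
def Ls (y : V) : Subgroup (Om Q) := MulAction.stabilizer _ ((F ∙ y : Submodule F V) : Set V)

theorem mem_Ls {y : V} {g : Om Q} : g ∈ Ls Q y ↔ g • y ∈ F ∙ y :=
  ⟨fun h => (SetLike.coe_set_eq (p := mp g _)).1 h ▸ g_mem_mp.2 (Submodule.mem_span_singleton_self y),
    fun h => (SetLike.coe_set_eq (p := mp g _)).2 (mp_eq fun a ha => by
      obtain ⟨c, rfl⟩ := Submodule.mem_span_singleton.1 ha
      rw [g_smul]; exact Submodule.smul_mem _ _ h)⟩

theorem index_Ls (hn : 7 ≤ n) {y : V} (hy : y ≠ 0) :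
    {c : F | c ≠ 0 ∧ c ^ 2 * Q y = Q y}.ncard * (Ls Q y).index = Nat.card {x // Q x = Q y ∧ x ≠ 0} := by
  have h1 : MulAction.stabilizer (Om Q) y ≤ Ls Q y := fun g hg =>
    mem_Ls.2 (by rw [hg]; exact Submodule.mem_span_singleton_self y)
  have h2 : MulAction.orbit (Om Q) y = {x | Q x = Q y ∧ x ≠ 0} := Set.ext fun x =>
    ⟨by rintro ⟨g, rfl⟩; exact ⟨Qg _ _, g_ne g hy⟩, fun h => trans1 hn hy h.2 h.1⟩
  have h3 : MulAction.orbit (Ls Q y) y = (· • y) '' {c : F | c ≠ 0 ∧ c ^ 2 * Q y = Q y} := Set.ext fun x =>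
    ⟨by
      rintro ⟨g, rfl⟩
      obtain ⟨c, hc⟩ := Submodule.mem_span_singleton.1 (mem_Ls.1 g.2)
      exact ⟨c, ⟨by rintro rfl; exact g_ne g.1 hy (by simpa using hc.symm), by rw [← Q_smul, hc, Qg]⟩, hc⟩,
    by
      rintro ⟨c, hc, rfl⟩
      obtain ⟨g, hg⟩ := trans1 (Q := Q) hn hy (smul_ne_zero hc.1 hy) (by rw [Q_smul, hc.2])
      exact ⟨⟨g, mem_Ls.2 (hg ▸ Submodule.smul_mem _ _ (Submodule.mem_span_singleton_self y))⟩, hg⟩⟩
  rw [← Set.ncard_image_of_injective _ (smul_left_injective F hy), ← h3, ← MulAction.index_stabilizer]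
  exact (Subgroup.relIndex_mul_index h1).trans (by rw [MulAction.index_stabilizer, h2]; rfl)

theorem index_Ls0 (hn : 7 ≤ n) {y : V} (hy : y ≠ 0) (h : Q y = 0) : (q - 1) * (Ls Q y).index = nz Q - 1 := by
  rw [← card_nonzero_singular, ← h, ← index_Ls hn hy, h, ← Set.ncard_univ,
    ← Set.ncard_diff_singleton_of_mem (Set.mem_univ (0 : F))]
  congr 2; ext; simp

theorem index_Ls1 (hn : 7 ≤ n) {y : V} (h : Q y ≠ 0) :
    (if (2 : F) = 0 then 1 else 2) * (Ls Q y).index = Nc Q (Q y) := by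
  have hy : y ≠ 0 := by rintro rfl; simp at h
  have h1 : {c : F | c ≠ 0 ∧ c ^ 2 * Q y = Q y} = {1, -1} := by
    ext c; simp only [Set.mem_setOf_eq, mul_eq_right₀ h, Set.mem_insert_iff,
      Set.mem_singleton_iff, sq_eq_one_iff, and_iff_right_iff_imp]
    rintro (rfl | rfl) <;> simp
  have := index_Ls (Q := Q) hn hy
  rw [h1, Nat.card_congr (Equiv.subtypeEquivRight fun x =>
    and_iff_left_of_imp (b := x ≠ 0) fun (e : Q x = Q y) e' => h (by simp [← e, e']))] at this
  rw [Nc, ← this]; congr 1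
  split_ifs with h2
  · rw [show (-1 : F) = 1 by linear_combination -h2]; simp
  · rw [Set.ncard_pair fun e => h2 (by linear_combination e)]

theorem minIdx (hn : 7 ≤ n) {N : ℕ} (h1 : N ≤ (q + 2) * q ^ (n - 3)) (h2 : (q - 1) * N ≤ nz Q - 1)
    (h3 : q ≤ 3 → n ≤ 8 → ∀ U : Submodule F V, (∀ a ∈ U, Q a = 0) → finrank F U = n - 4 →
      N ≤ (q + 1) * q ^ (n - 3) + (q + 1) * q ^ (n - 5))
    (h4 : ∀ c, c ≠ 0 → (if (2 : F) = 0 then 1 else 2) * N ≤ Nc Q c) {y : V} (h5 : (Ls Q y).index = N) :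
    MinIdx (POm Q) N := by
  have hq := two_le_q (F := F)
  refine MinIdx.of_surj (QuotientGroup.mk' _) (QuotientGroup.mk'_surjective _) (fun H hH => ?_)
    (fun g hg => mem_Ls.2 ?_) h5
  · by_contra! hN
    obtain ⟨z, hz, hz'⟩ := main (Q := Q) (X := Om Q ⧸ H) hn (hN.trans_le h1)
      ((Nat.mul_lt_mul_of_pos_left hN (by omega)).trans_le h2)
      (fun a b U c d => hN.trans_le (h3 a b U c d)) ((1 : Om Q) : Om Q ⧸ H) fun h => hH (by
        rw [← MulAction.stabilizer_quotient H, eq_top_iff]; exact fun g _ => h g)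
    have e := Nat.le_of_dvd (Nat.pos_of_ne_zero H.index_ne_zero_of_finite) (Subgroup.index_dvd_of_le
      (show H ≤ Ls Q z from fun g hg => mem_Ls.2 (hz' g (by rwa [← MulAction.stabilizer_quotient H] at hg))))
    by_cases h0 : Q z = 0
    · rw [← index_Ls0 hn hz h0] at h2
      have := Nat.le_of_mul_le_mul_left h2 (by omega); omega
    · have := h4 _ h0
      rw [← index_Ls1 hn h0] at this
      have := Nat.le_of_mul_le_mul_left this (by split_ifs <;> norm_num); omega
  · rw [QuotientGroup.ker_mk'] at hg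
    rcases (hC.nd.mem_center_Om_iff (good_of_five hC.five) (by omega) g).1 hg with h | h
    · rw [g_def, h]; exact Submodule.mem_span_singleton_self y
    · rw [g_def, h]; exact neg_mem (Submodule.mem_span_singleton_self y)

theorem minIdx0 (hn : 7 ≤ n) (h1 : nz Q - 1 ≤ (q - 1) * ((q + 2) * q ^ (n - 3)))
    (h3 : q ≤ 3 → n ≤ 8 → ∀ U : Submodule F V, (∀ a ∈ U, Q a = 0) → finrank F U ≠ n - 4)
    (h4 : ∀ c, c ≠ 0 → (if (2 : F) = 0 then 1 else 2) * (nz Q - 1) ≤ (q - 1) * Nc Q c) :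
    MinIdx (POm Q) ((nz Q - 1) / (q - 1)) := by
  have hq := two_le_q (F := F)
  obtain ⟨y, hy0, hy⟩ := exists_singular Q (by omega)
  have h := index_Ls0 hn hy0 hy
  rw [← h] at h1 h4
  rw [← h, Nat.mul_div_cancel_left _ (by omega)]
  exact minIdx hn (Nat.le_of_mul_le_mul_left h1 (by omega)) h.le (fun a b U c d => absurd d (h3 a b U c))
    (fun c hc => Nat.le_of_mul_le_mul_left (mul_left_comm _ (q - 1) _ ▸ h4 c hc) (by omega)) rfl

theorem h4_of (hq : 4 ≤ q) (h : nz Q - 1 ≤ q ^ (n - 1) + q ^ (n - 3)) (c : F) :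
    (if (2 : F) = 0 then 1 else 2) * (nz Q - 1) ≤ (q - 1) * Nc Q c := by
  refine (Nat.mul_le_mul (by split_ifs <;> norm_num : _ ≤ 2) h).trans
    (le_trans ?_ (Nat.mul_le_mul_left _ (Nc_ge c)))
  obtain ⟨k, hk⟩ : ∃ k, n = k + 3 := ⟨n - 3, by have := hC.five; omega⟩
  obtain ⟨r, hr⟩ : ∃ r, q = r + 4 := ⟨q - 4, by omega⟩
  simp only [hk, hr, Nat.add_sub_cancel, show k + 3 - 1 = k + 2 by omega, show k + 3 - 2 = k + 1 by omega,
    show r + 4 - 1 = r + 3 by omega, pow_succ]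
  generalize (r + 4) ^ k = a
  nlinarith [Nat.zero_le (a * r), Nat.zero_le (a * r * r), Nat.zero_le (a * r * r * r)]

theorem h1_of (hq : 3 ≤ q) (h : nz Q - 1 ≤ q ^ (n - 1) + q ^ (n - 3)) :
    nz Q - 1 ≤ (q - 1) * ((q + 2) * q ^ (n - 3)) := by
  refine h.trans ?_
  obtain ⟨k, hk⟩ : ∃ k, n = k + 3 := ⟨n - 3, by have := hC.five; omega⟩
  obtain ⟨r, hr⟩ : ∃ r, q = r + 3 := ⟨q - 3, by omega⟩
  simp only [hk, hr, Nat.add_sub_cancel, show k + 3 - 1 = k + 2 by omega,
    show r + 3 - 1 = r + 2 by omega, pow_succ]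
  generalize (r + 3) ^ k = a
  nlinarith [Nat.zero_le (a * r), Nat.zero_le (a * r * r)]

end Cfsg.Agent.H26.MD
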