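import Mathlib
import Cfsg.Agent.H26.MO9

/-! The six-dimensional orthogonal space of minus type: transitivity and the basic count. -/

set_option autoImplicit false
set_option linter.unusedSectionVars false

namespace Cfsg.Agent.H26.MD

open Module QuadraticMap H13
open scoped Pointwise

class M6 {F V : Type*} [Field F] [AddCommGroup V] [Module F V] (Q : QuadraticForm F V) : Prop where
  six : finrank F V = 6
  ts : ∀ U : Submodule F V, (∀ a ∈ U, Q a = 0) → finrank F U ≤ 2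

variable {F V : Type*} [Field F] [Finite F] [AddCommGroup V] [Module F V] [FiniteDimensional F V]
  [Finite V] {Q : QuadraticForm F V} [hC : OC Q] [h6 : M6 Q]

local notation "B" => polar Q
local notation "q" => Nat.card F
local notation "n" => finrank F V

namespace W

theorem mem_line {p x z : V} (hp0 : p ≠ 0) (hx : x ∉ F ∙ p) (hp : Q p = 0) (hQx : Q x = 0)
    (hz : Q z = 0) (h1 : B p x = 0) (h2 : B p z = 0) (h3 : B x z = 0) :
    z ∈ Submodule.span F {p, x} := by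
  by_contra h
  have e1 := finrank_sup_span_singleton_of_notMem h
  rw [finrank_span_pair_eq (linearIndependent_pair_of_notMem hp0 hx)] at e1
  have := h6.ts (Submodule.span F {p, x} ⊔ F ∙ z) fun a ha => by
    obtain ⟨a, ha', b, hb, rfl⟩ := Submodule.mem_sup.1 ha
    obtain ⟨c, rfl⟩ := Submodule.mem_span_singleton.1 hb
    obtain ⟨s, t, rfl⟩ := Submodule.mem_span_pair.1 ha'
    simp [Q_add, Q_smul, hp, hQx, hz, h1, h2, h3]
  omega

variable (Q) in
def NL (a b : V) : Prop := ∀ z ∈ Submodule.span F {a, b}, Q z = 0 → B a z = 0 → z ∈ F ∙ a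

theorem NL_self (a : V) : NL Q a a := fun z hz _ _ => by simpa using hz

theorem NL_ns {p y : V} (hp : Q p = 0) (h : B p y = 0) (hy : Q y ≠ 0) : NL Q p y := fun z hz h1 _ => by
  obtain ⟨s, t, rfl⟩ := Submodule.mem_span_pair.1 hz
  obtain rfl : t = 0 := by simpa [Q_add, Q_smul, hp, h, hy] using h1
  simpa using Submodule.smul_mem _ s (Submodule.mem_span_singleton_self p)

theorem NL_B {p y : V} (hp : Q p = 0) (h : B p y ≠ 0) : NL Q p y := fun z hz _ h1 => by
  obtain ⟨s, t, rfl⟩ := Submodule.mem_span_pair.1 hz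
  obtain rfl : t = 0 := by simpa [Bss hp, h] using h1
  simpa using Submodule.smul_mem _ s (Submodule.mem_span_singleton_self p)

theorem exists_hp_perp {a b : V} (hN : NL Q a b) :
    ∃ u v, HP Q u v ∧ B a u = 0 ∧ B b u = 0 ∧ B a v = 0 ∧ B b v = 0 := by
  obtain ⟨C, hC'⟩ := (F ∙ a).exists_isCompl
  have h1 := hC.nd.finrank_perp (Submodule.span F {a, b})
  have h2 := Submodule.finrank_add_eq_of_isCompl hC'
  have h3 := Submodule.finrank_sup_add_finrank_inf_eq (pp Q a b) C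
  have h4 := Submodule.finrank_le (pp Q a b ⊔ C)
  have h5 := finrank_span_pair_le (F := F) a b
  have h7 : finrank F (F ∙ a) ≤ 1 := (finrank_span_le_card _).trans (by simp)
  have h8 := h6.six
  obtain ⟨u, hu, hu0, hQ⟩ := exists_singular_mem Q (H := pp Q a b ⊓ C) (by unfold pp at *; omega)
  have hu1 := mem_perp_pair.1 hu.1
  obtain ⟨y, hy, hB⟩ := hC.nd.exists_perp_polar_ne (H := Submodule.span F {a, b}) (x := u)
    fun h => hu0 (Submodule.disjoint_def.1 hC'.disjoint u (hN u h hQ hu1.1) hu.2)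
  have hy1 := mem_perp_pair.1 hy
  exact ⟨u, _, hp_of hQ hB, hu1.1, hu1.2, by simp [hu1.1, hy1.1], by simp [hu1.2, hy1.2]⟩

theorem exists_sing {a b v : V} (hN : NL Q a b) (hv : v ∉ Submodule.span F {a, b}) :
    ∃ u, Q u = 0 ∧ B a u = 0 ∧ B b u = 0 ∧ B u v ≠ 0 := by
  by_contra! h
  obtain ⟨u, w, huw, h1, h2, h3, h4⟩ := exists_hp_perp hN
  obtain ⟨y, hy, hB⟩ := hC.nd.exists_perp_polar_ne hv
  refine hB (polar_comm Q v y ▸ singular_induction (H := pp Q a b) (p := fun x => B x v = 0) huw.Qu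
    (mem_perp_pair.2 ⟨h1, h2⟩) (mem_perp_pair.2 ⟨h3, h4⟩) (by simp [huw.uv])
    (fun x hx hQ => h x hQ (mem_perp_pair.1 hx).1 (mem_perp_pair.1 hx).2)
    (fun x _ y _ hx hy => by simp [hx, hy]) y hy)

theorem fixE {E : Submodule F V} (hE : ND (Q.restrict E)) (h2 : 2 ≤ finrank F E) (g : OG Q) :
    ∃ g' : Om Q, ∀ x, (∀ e ∈ E, B e x = 0) → g' • x = g.1 x := by
  obtain ⟨a, ha⟩ := hE.exists_eq h2 1
  obtain ⟨y, hy, hg⟩ := hC.nd.exists_mul_mem_Om (good_of_five hC.five)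
    (p := fun y => ∀ x, (∀ e ∈ E, B e x = 0) → y.1 x = x) (fun _ _ => rfl)
    (fun a b ha hb x h1 => by rw [OG_mul_apply, hb x h1, ha x h1])
    ⟨a, by rw [show Q a = 1 from ha]; exact one_ne_zero, fun x h1 => refl_apply_of_perp (h1 _ a.2)⟩
    (fun h => by
      obtain ⟨a, ha, b, hb, h⟩ := hC.nd.exists_refl_mul_refl_mem (good_of_five hC.five) hE h2 h
      exact ⟨_, fun x h1 => by
        rw [OG_mul_apply, refl_apply_of_perp (h1 _ hb), refl_apply_of_perp (h1 _ ha)], h⟩) g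
  exact ⟨⟨_, hg⟩, fun x h1 => by rw [g_def, OG_mul_apply, hy x h1]⟩

theorem trans1 {x y : V} (hx : x ≠ 0) (hy : y ≠ 0) (h : Q y = Q x) : ∃ g : Om Q, g • x = y := by
  obtain ⟨g, hg⟩ := hC.nd.witt_one hx hy h
  obtain ⟨u, v, huv, h1, -, h3, -⟩ := exists_hp_perp (NL_self (Q := Q) x)
  obtain ⟨g', hg'⟩ := fixOm huv g
  exact ⟨g', by rw [hg' x (by rwa [polar_comm]) (by rwa [polar_comm]), hg]⟩

theorem fix2 {p y : V} (hp0 : p ≠ 0) (hp : Q p = 0) (hy : y ∉ F ∙ p) (hB : B p y = 0) (g : OG Q) :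
    ∃ g' : Om Q, g' • p = g.1 p ∧ g' • y = g.1 y := by
  by_cases hQ : Q y = 0
  · obtain ⟨f, hf⟩ := hC.nd.exists_hypFam (linearIndependent_pair_of_notMem hp0 hy)
      (fun i => by fin_cases i <;> simp [hp, hQ])
      (fun i j => by fin_cases i <;> fin_cases j <;> simp [Bss hp, Bss hQ, hB, polar_comm Q y p])
    have := hf.finrank_eq
    have h8 := h6.six
    obtain ⟨g', hg'⟩ := fixE (hf.nd_restrict hC.nd) (by simp at this; omega) g
    exact ⟨g', hg' p fun e he => polar_comm Q p e ▸ (mem_hypPerp.1 he).1 0,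
      hg' y fun e he => polar_comm Q y e ▸ (mem_hypPerp.1 he).1 1⟩
  · obtain ⟨u, v, huv, h1, h2, h3, h4⟩ := exists_hp_perp (NL_ns hp hB hQ)
    obtain ⟨g', hg'⟩ := fixOm huv g
    exact ⟨g', hg' p (by rwa [polar_comm]) (by rwa [polar_comm]),
      hg' y (by rwa [polar_comm]) (by rwa [polar_comm])⟩

theorem trans2 {p y p' y' : V} (hp0 : p ≠ 0) (hp : Q p = 0) (hy : y ∉ F ∙ p) (hB : B p y = 0)
    (hp0' : p' ≠ 0) (hp' : Q p' = 0) (hy' : y' ∉ F ∙ p') (hB' : B p' y' = 0)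
    (h : Q y' = Q y) : ∃ g : Om Q, g • p = p' ∧ g • y = y' := by
  obtain ⟨g, hg, hg2⟩ := hC.nd.witt_two (linearIndependent_pair_of_notMem hp0 hy)
    (linearIndependent_pair_of_notMem hp0' hy') (hp'.trans hp.symm) h (hB'.trans hB.symm)
  obtain ⟨g', h1, h2⟩ := fix2 hp0 hp hy hB g
  exact ⟨g', h1.trans hg, h2.trans hg2⟩

omit hC h6 in
theorem Nc_eq (hQ : ND Q) {m : ℕ} (hm : n = 2 * m + 2) {c : F} (hc : c ≠ 0) : Nc Q c = Nc Q 1 := by
  have hQ' : ND (c • Q) := fun x h => hQ x fun y => by simpa [polar_smul, hc] using h y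
  have hP : IsPlus (c • Q) ↔ IsPlus Q := by simp [IsPlus, hc]
  obtain ⟨e, he⟩ : ∃ e : V ≃ₗ[F] V, ∀ v, Q (e v) = c * Q v := by
    by_cases h : IsPlus Q
    · obtain ⟨e, he⟩ := hQ.equiv_QPlus h (m := m + 1) (by omega)
      obtain ⟨e', he'⟩ := hQ'.equiv_QPlus (hP.2 h) (m := m + 1) (by omega)
      exact ⟨e'.trans e.symm, fun v => by simp [← he, he']⟩
    · obtain ⟨a, b, hab⟩ := exists_anisotropic_binary F
      obtain ⟨e, he⟩ := hQ.equiv_QMinus h hm hab
      obtain ⟨e', he'⟩ := hQ'.equiv_QMinus (hP.not.2 h) hm hab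
      exact ⟨e'.trans e.symm, fun v => by simp [← he, he']⟩
  exact (Nat.card_congr (e.toEquiv.subtypeEquiv fun v => by simp [he, hc])).symm

theorem nz6 : nz Q + q ^ 3 = q ^ 5 + q ^ 2 := by
  have h8 := h6.six
  have := hC.nd.nz_minus (fun ⟨W, h1, h2⟩ => by have := h6.ts W h2; omega) (by norm_num : 1 ≤ 3) h8
  have h1 : q ^ 3 ≤ q ^ 5 := Nat.pow_le_pow_right Nat.card_pos (by norm_num)
  norm_num at this; omega

theorem Nc6 {c : F} (hc : c ≠ 0) : Nc Q c = q ^ 5 + q ^ 2 := by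
  classical
  have := Fintype.ofFinite F
  have h8 := h6.six
  have h1 := sum_Nc (Q := Q)
  rw [← Finset.add_sum_erase _ _ (Finset.mem_univ 0), Finset.sum_congr rfl fun a ha =>
    (Nc_eq hC.nd (m := 2) h8 (Finset.ne_of_mem_erase ha)).trans (Nc_eq hC.nd (m := 2) h8 hc).symm,
    Finset.sum_const, Finset.card_erase_of_mem (Finset.mem_univ _), Finset.card_univ,
    ← Nat.card_eq_fintype_card, smul_eq_mul, h8] at h1
  have h2 := nz6 (Q := Q)
  change nz Q + _ = _ at h1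
  obtain ⟨r, hr⟩ : ∃ r, q = r + 1 := ⟨q - 1, by have := two_le_q (F := F); omega⟩
  have hr0 : 0 < r := by have := two_le_q (F := F); omega
  rw [hr] at h1 h2 ⊢
  refine Nat.eq_of_mul_eq_mul_left hr0 ?_
  simp only [Nat.add_sub_cancel] at h1
  zify at *
  linear_combination h1 - h2

omit h6 in
theorem Nc_split {p : V} (hp : Q p = 0) (hp0 : p ≠ 0) (c : F) :
    Nc Q c = {x | B p x = 0 ∧ Q x = c}.ncard + (q - 1) * q ^ (n - 2) := by
  classical
  have := Fintype.ofFinite F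
  have := Fintype.ofFinite V
  have h5 := hC.five
  have h1 := sum_shift (Finset.univ.filter fun y => B p y ≠ 0) hp (fun y hy t => by simpa [Bss hp] using hy)
    (fun y hy => (Finset.mem_filter.1 hy).2) fun a => if a = c then 1 else 0
  have h2 : q ^ (n - 1) + (Finset.univ.filter fun y => B p y ≠ 0).card = q ^ n := by
    rw [← card_eq_pow, ← AddSubgroup.card_top (G := V), ← ncard_split (Q := Q) ⊤ p, ← card_DD (Q := Q) hp0,
      ← Set.ncard_coe_finset]
    congr 1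
    · exact congrArg Set.ncard (by ext y; simp [mem_DD])
    · exact congrArg Set.ncard (by ext y; simp)
  simp only [Finset.sum_ite_eq', Finset.mem_univ, if_true, mul_one, ← Finset.card_filter] at h1
  have h3 : ((Finset.univ.filter fun y => B p y ≠ 0).filter fun y => Q y = c).card =
      (q - 1) * q ^ (n - 2) := by
    refine Nat.eq_of_mul_eq_mul_left (Nat.card_pos (α := F)) ?_
    rw [h1]
    obtain ⟨k, hk⟩ : ∃ k, n = k + 2 := ⟨n - 2, by omega⟩
    obtain ⟨r, hr⟩ : ∃ r, q = r + 1 := ⟨q - 1, by have := two_le_q (F := F); omega⟩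
    simp only [hk, hr, Nat.add_sub_cancel, show k + 2 - 1 = k + 1 by omega] at h2 ⊢
    have : (r + 1) ^ (k + 2) = (r + 1) ^ (k + 1) + (r + 1) * (r * (r + 1) ^ k) := by ring
    omega
  rw [← h3, ← Set.ncard_coe_finset, ← Set.ncard_union_eq (Set.disjoint_left.2 fun y h h' => by
    simp at h h'; exact h'.1 h.1)]
  change ({x | Q x = c} : Set V).ncard = _
  exact congrArg Set.ncard (by ext y; by_cases h : B p y = 0 <;> simp [h])

theorem cnt1 {p : V} (hp : Q p = 0) (hp0 : p ≠ 0) {c : F} (hc : c ≠ 0) :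
    {x | (B p x = 0 ∧ x ∉ F ∙ p) ∧ Q x = c}.ncard = q * (q ^ 3 + q) := by
  have h1 := Nc_split hp hp0 c
  rw [Nc6 hc, h6.six] at h1
  have : {x | (B p x = 0 ∧ x ∉ F ∙ p) ∧ Q x = c} = {x | B p x = 0 ∧ Q x = c} := Set.ext fun x =>
    ⟨fun h => ⟨h.1.1, h.2⟩, fun h => ⟨⟨h.1, fun e => by
      obtain ⟨t, rfl⟩ := Submodule.mem_span_singleton.1 e
      exact hc (by rw [← h.2]; simp [Q_smul, hp])⟩, h.2⟩⟩
  rw [this]
  obtain ⟨r, hr⟩ : ∃ r, q = r + 1 := ⟨q - 1, by have := two_le_q (F := F); omega⟩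
  simp only [hr, Nat.add_sub_cancel] at h1 ⊢
  zify at *
  linear_combination -h1

theorem cnt0 {p : V} (hp : Q p = 0) (hp0 : p ≠ 0) :
    {x | (B p x = 0 ∧ x ∉ F ∙ p) ∧ Q x = 0}.ncard = q * ((q ^ 2 + 1) * (q - 1)) := by
  have h1 := Nc_split hp hp0 0
  have h2 := nz6 (Q := Q)
  have h3 : ((F ∙ p : Submodule F V) : Set V).ncard = q :=
    (card_sub (F ∙ p)).trans (by rw [finrank_span_singleton hp0, pow_one])
  have : {x | B p x = 0 ∧ Q x = 0} = {x | (B p x = 0 ∧ x ∉ F ∙ p) ∧ Q x = 0} ∪ (F ∙ p : Submodule F V) :=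
    Set.ext fun x => ⟨fun h => by by_cases e : x ∈ F ∙ p <;> simp [e, h.1, h.2], by
      rintro (h | e)
      · exact ⟨h.1.1, h.2⟩
      · obtain ⟨t, rfl⟩ := Submodule.mem_span_singleton.1 e
        exact ⟨by simp [Bss hp], by simp [Q_smul, hp]⟩⟩
  rw [this, Set.ncard_union_eq (Set.disjoint_left.2 fun y h h' => h.1.2 h'), h3, h6.six] at h1
  change nz Q = _ at h1
  obtain ⟨r, hr⟩ : ∃ r, q = r + 1 := ⟨q - 1, by have := two_le_q (F := F); omega⟩
  simp only [hr, Nat.add_sub_cancel] at h1 h2 ⊢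
  zify at *
  linear_combination h2 - h1

variable {X : Type*} [MulAction (Om Q) X] [Finite X]

theorem exists_mu [Fintype F] [DecidableEq F] {p : V} (hp : Q p = 0) (hp0 : p ≠ 0) :
    ∃ (μ : F → ℕ) (a : ℕ), (∀ y, B p y = 0 → y ∉ F ∙ p → (MM Q X p y).card = μ (Q y)) ∧
    (∀ c t, t ≠ 0 → μ (t ^ 2 * c) = μ c) ∧ (∀ c, μ c ≤ a) ∧
    a + μ 0 * ((q ^ 2 + 1) * (q - 1)) + (∑ c ∈ Finset.univ.erase 0, μ c) * (q ^ 3 + q) ≤ Nat.card X := by
  classical
  have := Fintype.ofFinite V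
  obtain ⟨x, hx, hpx, hxp⟩ := exists_x hp
  obtain ⟨v, hv, hxv, hvp⟩ := hC.nd.exists_partner (F ∙ p) hx hxp fun h hh => by
    obtain ⟨c, rfl⟩ := Submodule.mem_span_singleton.1 hh
    simp [polar_comm Q x p, hpx]
  have hpv : B p v = 0 := by rw [polar_comm]; exact hvp p (Submodule.mem_span_singleton_self p)
  have hnot : ∀ y, B x y ≠ 0 → y ∉ F ∙ p := fun y hy => notMem_of_B hpx hy
  have hQ : ∀ c : F, Q (v + c • x) = c := fun c => by simp [Q_add, Q_smul, hv, hx, polar_comm Q v x, hxv]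
  have h0 : ∀ c : F, v + c • x ∉ F ∙ p := fun c => hnot _ (by simp [hxv, Bss hx])
  have h1 : ∀ y, B p y = 0 → y ∉ F ∙ p → (MM Q X p y).card = (MM Q X p (v + Q y • x)).card := by
    intro y hy hyp
    obtain ⟨g, hg, hg2⟩ := trans2 hp0 hp hyp hy hp0 hp (h0 (Q y)) (by simp [hpv, hpx]) (hQ _)
    rw [← card_MM_g g, hg, hg2]
  have hle : ∀ y, (MM Q X p y).card ≤ (OO Q X p).card := fun y =>
    Finset.card_le_card fun O hO => (mem_MM.1 hO).elim fun ω h => mem_OO.2 ⟨ω, h.1⟩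
  refine ⟨fun c => (MM Q X p (v + c • x)).card, (OO Q X p).card, h1, fun c t ht => ?_,
    fun c => hle _, ?_⟩
  · obtain ⟨g, hg, hg2⟩ := trans2 (p := t⁻¹ • p) (y := v + c • x) (smul_ne_zero (inv_ne_zero ht) hp0)
      (by simp [Q_smul, hp]) (by
        rw [Submodule.span_singleton_smul_eq (inv_ne_zero ht).isUnit]; exact h0 c)
      (by simp [hpv, hpx]) hp0 hp (h0 c) (by simp [hpv, hpx]) rfl
    have e1 := h1 (t • (v + c • x)) (by simp [hpv, hpx]) (hnot _ (by simp [hxv, Bss hx, ht]))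
    have e2 := MM_smul (Q := Q) (X := X) (p := t⁻¹ • p) (by simp [Q_smul, hp]) ht (v + c • x)
    have e3 := card_MM_g (X := X) g (t⁻¹ • p) (v + c • x)
    rw [smul_inv_smul₀ ht] at e2
    rw [Q_smul, hQ] at e1
    rw [hg, hg2] at e3
    simp only [← e1, e2, ← e3]
  have c1 : ∑ y, (MM Q X p y).card = q * Nat.card X := by
    rw [← sum_OO (Q := Q) (X := X) p]; exact (rr Q p).sum_M hβ (card_V hp0) _
  set L := Finset.univ.filter fun y => y ∈ F ∙ p with hL
  set T := Finset.univ.filter fun y => B p y = 0 ∧ y ∉ F ∙ p with hT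
  have c2 : ∑ y ∈ L, (MM Q X p y).card = q * (OO Q X p).card := by
    rw [Finset.sum_congr rfl (g := fun _ => (OO Q X p).card) fun y hy => le_antisymm (hle y)
      (Finset.card_le_card fun O hO => by
        obtain ⟨c, rfl⟩ := Submodule.mem_span_singleton.1 (Finset.mem_filter.1 hy).2
        obtain ⟨ω, rfl⟩ := mem_OO.1 hO
        exact ob_mem_MM.2 (self_mem_AA _ _ _)), Finset.sum_const, smul_eq_mul, hL,
      ← Fintype.card_subtype, ← Nat.card_eq_fintype_card, card_sub, finrank_span_singleton hp0, pow_one]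
  have c3 : ∑ y ∈ T, (MM Q X p y).card = ∑ c, {y | (B p y = 0 ∧ y ∉ F ∙ p) ∧ Q y = c}.ncard *
      (MM Q X p (v + c • x)).card := by
    rw [← Finset.sum_fiberwise (g := Q)]
    refine Finset.sum_congr rfl fun c _ => ?_
    rw [Finset.sum_congr rfl (g := fun _ => (MM Q X p (v + c • x)).card) fun y hy => by
      simp only [hT, Finset.mem_filter, Finset.mem_univ, true_and] at hy
      rw [h1 y hy.1.1 hy.1.2, hy.2], Finset.sum_const, smul_eq_mul, ← Set.ncard_coe_finset]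
    congr 2; ext y; simp [hT]
  rw [← Finset.add_sum_erase _ _ (Finset.mem_univ 0), cnt0 hp hp0,
    Finset.sum_congr (s₁ := Finset.univ.erase (0 : F)) rfl fun c hc => by
    rw [cnt1 hp hp0 (Finset.ne_of_mem_erase hc)], ← Finset.mul_sum] at c3
  have c4 := Finset.sum_le_sum_of_subset (f := fun y => (MM Q X p y).card) (Finset.subset_univ (L ∪ T))
  rw [Finset.sum_union (Finset.disjoint_left.2 fun y h h' =>
    (Finset.mem_filter.1 h').2.2 (Finset.mem_filter.1 h).2), c1, c2, c3] at c4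
  refine Nat.le_of_mul_le_mul_left (le_of_eq_of_le ?_ c4) Nat.card_pos
  ring

end W

end Cfsg.Agent.H26.MD
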