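import Mathlib

/-! An irreducible endomorphism of `2`-power order conjugate to a power `s ≡ 3 (mod 4)` is quadratic. -/

set_option autoImplicit false

namespace Cfsg.Agent.H26

open Polynomial

theorem irreducible_minpoly_of_irr {F V : Type*} [Field F] [AddCommGroup V] [Module F V]
    [FiniteDimensional F V] [Nontrivial V] (Y : Module.End F V)
    (hirr : ∀ W : Submodule F V, (∀ w ∈ W, Y w ∈ W) → W = ⊥ ∨ W = ⊤) : Irreducible (minpoly F Y) := by
  have hint : IsIntegral F Y := Algebra.IsIntegral.isIntegral Y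
  have hcomm : ∀ (p : F[X]) (w : V), aeval Y p (Y w) = Y (aeval Y p w) := by
    intro p w
    have h1 : aeval Y p * Y = Y * aeval Y p := by
      have := congrArg (aeval Y) (mul_comm p X)
      simpa only [map_mul, aeval_X] using this
    exact congrArg (fun T : Module.End F V => T w) h1
  refine ⟨minpoly.not_isUnit F Y, fun a b hab => ?_⟩
  have h0 : aeval Y a * aeval Y b = 0 := by rw [← map_mul, ← hab, minpoly.aeval]
  have hne := minpoly.ne_zero hint
  rcases hirr (LinearMap.ker (aeval Y a)) (fun w hw => by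
    rw [LinearMap.mem_ker] at hw ⊢
    rw [hcomm, hw, map_zero]) with h | h
  · left
    have hb : aeval Y b = 0 := by
      ext w
      have : aeval Y b w ∈ LinearMap.ker (aeval Y a) := congrArg (fun T : Module.End F V => T w) h0
      rw [h] at this
      simpa using this
    obtain ⟨c, hc⟩ := minpoly.dvd F Y hb
    refine IsUnit.of_mul_eq_one c (mul_left_cancel₀ hne ?_)
    rw [mul_one]
    conv_rhs => rw [hab, hc]
    ring
  · right
    have ha : aeval Y a = 0 := LinearMap.ker_eq_top.1 h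
    obtain ⟨c, hc⟩ := minpoly.dvd F Y ha
    refine IsUnit.of_mul_eq_one c (mul_left_cancel₀ hne ?_)
    rw [mul_one]
    conv_rhs => rw [hab, hc]
    ring

theorem span_eq_top_of_irr {F V : Type*} [Field F] [Fintype F] [AddCommGroup V] [Module F V]
    [FiniteDimensional F V] (Y : Module.End F V)
    (hirr : ∀ W : Submodule F V, (∀ w ∈ W, Y w ∈ W) → W = ⊥ ∨ W = ⊤) {n s : ℕ} (hn : 2 ≤ n)
    (hord : orderOf Y = 2 ^ n) (hs : s % 4 = 3) (hs2 : s * s ≡ 1 [MOD 2 ^ n]) (g : V ≃ₗ[F] V)
    (hg : ∀ v, g (Y v) = (Y ^ s) (g v)) {v : V} (hv : v ≠ 0) : Submodule.span F {v, Y v} = ⊤ := by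
  haveI : Nontrivial V := nontrivial_of_ne v 0 hv
  have hint : IsIntegral F Y := Algebra.IsIntegral.isIntegral Y
  set f := minpoly F Y with hf
  haveI : Fact (Irreducible f) := ⟨irreducible_minpoly_of_irr Y hirr⟩
  have hmon : f.Monic := minpoly.monic hint
  let ρ := AdjoinRoot.root f
  have key : ∀ p : F[X], aeval ρ p = 0 ↔ aeval Y p = 0 := fun p => by
    rw [AdjoinRoot.aeval_eq, AdjoinRoot.mk_eq_zero]
    exact minpoly.dvd_iff
  have hρ : orderOf ρ = 2 ^ n := by
    rw [← hord, orderOf_eq_orderOf_iff]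
    intro m
    have := key (X ^ m - 1)
    simpa only [map_sub, map_pow, aeval_X, map_one, sub_eq_zero] using this
  have hroot : aeval (ρ ^ s) f = 0 := by
    have h1 : g.conjAlgEquiv F Y = Y ^ s := by
      ext w
      simp [LinearEquiv.conjAlgEquiv_apply, hg]
    have h2 : aeval (Y ^ s) f = 0 := by
      rw [← h1, Polynomial.aeval_algHom_apply, hf, minpoly.aeval, map_zero]
    have h3 := (key (f.comp (X ^ s))).2 (by rw [aeval_comp]; simpa using h2)
    rw [aeval_comp] at h3
    simpa using h3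
  haveI : FiniteDimensional F (AdjoinRoot f) := (AdjoinRoot.powerBasis' hmon).finite
  haveI : Finite (AdjoinRoot f) := Module.finite_of_finite F
  let σ : AdjoinRoot f →ₐ[F] AdjoinRoot f := AdjoinRoot.liftAlgHom f (Algebra.ofId F _) (ρ ^ s) hroot
  obtain ⟨⟨j, hj'⟩, hj⟩ := (FiniteField.bijective_frobeniusAlgHom_pow F (AdjoinRoot f)).2 σ
  have hfr : ∀ m : ℕ, (FiniteField.frobeniusAlgHom F (AdjoinRoot f) ^ m) ρ = ρ ^ (Fintype.card F) ^ m := by
    intro m
    rw [AlgHom.coe_pow, FiniteField.coe_frobeniusAlgHom, pow_iterate]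
  have hfin : IsOfFinOrder ρ := orderOf_pos_iff.1 (by rw [hρ]; positivity)
  have h1 : Fintype.card F ^ j ≡ s [MOD 2 ^ n] := by
    rw [← hρ, ← hfin.pow_eq_pow_iff_modEq, ← hfr]
    have : (FiniteField.frobeniusAlgHom F (AdjoinRoot f) ^ j) = σ := hj
    rw [this]
    exact AdjoinRoot.liftAlgHom_root _ _ _ _
  have hdvd : ∀ m : ℕ, Fintype.card F ^ m ≡ 1 [MOD 2 ^ n] → Module.finrank F (AdjoinRoot f) ∣ m := by
    intro m hm
    rw [← FiniteField.orderOf_frobeniusAlgHom, orderOf_dvd_iff_pow_eq_one]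
    apply AdjoinRoot.algHom_ext
    rw [hfr, AlgHom.one_apply]
    conv_rhs => rw [← pow_one (AdjoinRoot.root f)]
    rw [hfin.pow_eq_pow_iff_modEq, hρ]
    exact hm
  have h4 : Fintype.card F ^ j % 4 = 3 := by
    have := h1.of_dvd (show 4 ∣ 2 ^ n from pow_dvd_pow 2 hn)
    rw [Nat.ModEq] at this
    rw [this, hs]
  have hjodd : Odd j := by
    rw [← Nat.not_even_iff_odd]
    rintro ⟨k, rfl⟩
    rw [pow_add, Nat.mul_mod] at h4
    have := Nat.mod_lt (Fintype.card F ^ k) (show 4 > 0 by norm_num)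
    generalize Fintype.card F ^ k % 4 = t at *
    interval_cases t <;> omega
  have hqodd : Odd (Fintype.card F) := by
    have : Odd (Fintype.card F ^ j) := by rw [Nat.odd_iff]; omega
    exact (Nat.odd_pow_iff (by rintro rfl; simp at hjodd)).1 this
  have d1 : Module.finrank F (AdjoinRoot f) ∣ 2 * j := hdvd _ (by
    rw [two_mul, pow_add]
    exact (h1.mul h1).trans hs2)
  have d2 : Module.finrank F (AdjoinRoot f) ∣ 2 ^ (n - 1) := hdvd _ (by
    have := Nat.ModEq.pow_totient (x := Fintype.card F) (n := 2 ^ n)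
      (Nat.Coprime.pow_right n (Nat.coprime_two_right.2 hqodd))
    rwa [Nat.totient_prime_pow Nat.prime_two (by omega), show 2 - 1 = 1 from rfl, mul_one] at this)
  have d3 : Module.finrank F (AdjoinRoot f) ∣ 2 :=
    Nat.Coprime.dvd_of_dvd_mul_right (((Nat.coprime_two_left.2 hjodd).pow_left (n - 1)).coprime_dvd_left d2) d1
  have hdeg : f.natDegree ≤ 2 := by
    rw [(AdjoinRoot.powerBasis' hmon).finrank, AdjoinRoot.powerBasis'_dim] at d3
    exact Nat.le_of_dvd two_pos d3
  have hr : (X ^ 2 %ₘ f).natDegree ≤ 1 := by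
    have := natDegree_modByMonic_lt (X ^ 2 : F[X]) hmon (Fact.out : Irreducible f).ne_one
    omega
  obtain ⟨a, b, hab⟩ := exists_eq_X_add_C_of_natDegree_le_one hr
  have hY2 : Y ^ 2 = a • Y + b • (1 : Module.End F V) := by
    have := minpoly.aeval_modByMonic_minpoly (X ^ 2 : F[X]) Y
    rw [← hf, hab] at this
    simpa [Algebra.smul_def] using this.symm
  refine (hirr _ ?_).resolve_left ?_
  · intro w hw
    obtain ⟨c, d, rfl⟩ := Submodule.mem_span_pair.1 hw
    have h2 : Y (Y v) = a • Y v + b • v := by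
      have := congrArg (fun T : Module.End F V => T v) hY2
      simpa [pow_two] using this
    rw [map_add, map_smul, map_smul, h2]
    have m1 : v ∈ Submodule.span F {v, Y v} := Submodule.subset_span (by simp)
    have m2 : Y v ∈ Submodule.span F {v, Y v} := Submodule.subset_span (by simp)
    exact Submodule.add_mem _ (Submodule.smul_mem _ _ m2) (Submodule.smul_mem _ _
      (Submodule.add_mem _ (Submodule.smul_mem _ _ m2) (Submodule.smul_mem _ _ m1)))
  · intro h0
    have m1 : v ∈ Submodule.span F {v, Y v} := Submodule.subset_span (by simp)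
    rw [h0] at m1
    exact hv m1

end Cfsg.Agent.H26
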