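import Cfsg.Agent.H26.Act
import Cfsg.Agent.H26.QuadIrr
import Cfsg.Agent.H11.TwoGp
import Cfsg.Agent.H11.Count
import Cfsg.Agent.H25.Kazarin
import Cfsg.Agent.H25.ClassSize
import Cfsg.Agent.H26.ClassSize
import Cfsg.Agent.H2.Wiel
import Cfsg.Agent.H2.Basic

/-! Coprime actions on abelian `q`-groups all of whose orbits have `2`-power size. -/

set_option autoImplicit false

namespace Cfsg.Agent.H26

open Subgroup
open scoped commutatorElement Pointwise

universe u

theorem exists_solvRad (G : Type*) [Group G] [Finite G] :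
    ∃ R : Subgroup G, R.Normal ∧ Group.IsSolvable R ∧ ∀ N : Subgroup G, N.Normal → Group.IsSolvable N → N ≤ R := by
  obtain ⟨R, ⟨h1, h2⟩, hR⟩ := (wellFounded_gt (α := Subgroup G)).has_min
    {M : Subgroup G | M.Normal ∧ Group.IsSolvable M} ⟨⊥, inferInstance, inferInstance⟩
  refine ⟨R, h1, h2, fun N hN hs => ?_⟩
  by_contra hc
  exact hR (R ⊔ N) ⟨inferInstance, H1.isSolvable_sup (by rw [normalizer_eq_top]; exact le_top) h2 hs⟩
    (left_lt_sup.2 hc)

theorem isSolvable_of_abelian_index_pow {G : Type u} [Group G] [Finite G] {p k : ℕ} (hp : p.Prime) {C : Subgroup G}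
    (hC : ∀ a ∈ C, ∀ b ∈ C, a * b = b * a) (hi : C.index ∣ p ^ k) : Group.IsSolvable G := by
  haveI := Fact.mk hp
  obtain ⟨R, h1, h2, h3⟩ := exists_solvRad G
  have hCR : C ≤ R := by
    intro c hc
    have : C ≤ centralizer ({c} : Set G) := fun x hx => mem_cent.2 (hC x hx c hc)
    obtain ⟨j, -, hj⟩ := (Nat.dvd_prime_pow hp).1 ((index_dvd_of_le this).trans hi)
    exact h3 _ inferInstance (H25.kazarin c hp hj) (subset_normalClosure rfl)
  refine H2.isSolvable_of_normal_of_quotient R h2 (H1.isSolvable_of_isPGroup (p := p) ?_)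
  obtain ⟨j, -, hj⟩ := (Nat.dvd_prime_pow hp).1 ((index_dvd_of_le hCR).trans hi)
  exact IsPGroup.of_card hj

theorem isSolvable_of_two_ranges {H X Y : Type*} [Group H] [Group X] [Group Y] (f : H →* X) (g : H →* Y)
    (hf : Group.IsSolvable f.range) (hg : Group.IsSolvable g.range) (h : ∀ x, f x = 1 → g x = 1 → x = 1) :
    Group.IsSolvable H := by
  refine Group.isSolvable_of_isSolvable_injective (f := f.rangeRestrict.prod g.rangeRestrict) ?_
  rw [injective_iff_map_eq_one]
  intro x hx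
  rw [MonoidHom.prod_apply, Prod.mk_eq_one] at hx
  exact h x (congrArg Subtype.val hx.1) (congrArg Subtype.val hx.2)

section
variable {H V : Type*} [Group H] [Group V] [MulDistribMulAction H V]

theorem smul_eq_of_chain [Finite H] [Finite V] (hcop : (Nat.card H).Coprime (Nat.card V)) {W : Subgroup V} {h : H}
    (h1 : ∀ w ∈ W, h • w = w) (h2 : ∀ v : V, v⁻¹ * h • v ∈ W) (v : V) : h • v = v := by
  have key : ∀ n : ℕ, h ^ n • v = v * (v⁻¹ * h • v) ^ n := by
    intro n
    induction n with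
    | zero => simp
    | succ n ih =>
      rw [pow_succ', mul_smul, ih, smul_mul', h1 _ (pow_mem (h2 v) n), pow_succ', ← mul_assoc, mul_inv_cancel_left]
  have h3 := key (Nat.card H)
  rw [pow_card_eq_one', one_smul, left_eq_mul] at h3
  have h4 : orderOf (v⁻¹ * h • v) ∣ 1 :=
    hcop ▸ Nat.dvd_gcd (orderOf_dvd_of_pow_eq_one h3) (orderOf_dvd_natCard _)
  rw [Nat.dvd_one, orderOf_eq_one_iff, inv_mul_eq_one] at h4
  exact h4.symm

theorem toMulAut_eq_one_iff {h : H} : MulDistribMulAction.toMulAut H V h = 1 ↔ ∀ v : V, h • v = v :=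
  ⟨fun e v => congrArg (fun f : MulAut V => f v) e, fun e => MulEquiv.ext e⟩

end

/-- the statement proved by induction -/
def OrbSolv (q : ℕ) (V : Type u) [Group V] : Prop :=
  ∀ (H : Type u) [Group H] [Finite H] [MulDistribMulAction H V], ¬ q ∣ Nat.card H →
    (∀ v : V, ∃ k : ℕ, (MulAction.stabilizer H v).index ∣ 2 ^ k) →
    Group.IsSolvable (MulDistribMulAction.toMulAut H V).range

theorem orbSolv_of_faithful {q : ℕ} {V : Type u} [Group V] [Finite V]
    (h : ∀ (H : Type u) [Group H] [Finite H] [MulDistribMulAction H V], ¬ q ∣ Nat.card H →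
      (∀ v : V, ∃ k : ℕ, (MulAction.stabilizer H v).index ∣ 2 ^ k) → (∀ x : H, (∀ v : V, x • v = v) → x = 1) →
      Group.IsSolvable H) : OrbSolv q V := by
  intro H _ _ _ h1 h2
  refine h _ (fun hd => h1 (hd.trans (card_range_dvd _))) (fun v => ?_) (fun x hx => Subtype.ext (MulEquiv.ext hx))
  obtain ⟨k, hk⟩ := h2 v
  refine ⟨k, dvd_trans ?_ hk⟩
  refine dvd_trans (index_dvd_of_le ?_) (index_map_dvd _ (MulDistribMulAction.toMulAut H V).rangeRestrict_surjective)
  rintro _ ⟨x, hx, rfl⟩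
  exact hx

section
variable {q : ℕ} [hq : Fact q.Prime] {V : Type u} [Group V] [Finite V] {H : Type u} [Group H] [Finite H]
  [MulDistribMulAction H V]

theorem solvable_of_swap (ih : ∀ W : Subgroup V, W ≠ ⊤ → OrbSolv q W) (hH : ¬ q ∣ Nat.card H)
    (horb : ∀ v : V, ∃ k : ℕ, (MulAction.stabilizer H v).index ∣ 2 ^ k)
    (hf : ∀ x : H, (∀ v : V, x • v = v) → x = 1) (hirr : ∀ W : Subgroup V, AInv H W → W = ⊥ ∨ W = ⊤)
    {W₁ W₂ : Subgroup V} (h1 : W₁ ≠ ⊥) (h2 : W₂ ≠ ⊥) (h12 : W₁ ⊓ W₂ = ⊥)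
    (hS : ∀ (h : H) (v : V), v ∈ W₁ ∨ v ∈ W₂ → h • v ∈ W₁ ∨ h • v ∈ W₂) : Group.IsSolvable H := by
  have hsup : W₁ ⊔ W₂ = ⊤ := by
    refine (hirr _ ?_).resolve_left (fun e => h1 (le_bot_iff.1 (e ▸ le_sup_left)))
    intro a x hx
    have : (W₁ ⊔ W₂) ≤ (W₁ ⊔ W₂).comap (MulDistribMulAction.toMonoidHom V a) :=
      sup_le (fun v hv => (hS a v (Or.inl hv)).elim (fun h => mem_sup_left h) (fun h => mem_sup_right h))
        (fun v hv => (hS a v (Or.inr hv)).elim (fun h => mem_sup_left h) (fun h => mem_sup_right h))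
    exact this hx
  have hone : ∀ (h : H) (W : Subgroup V), (∀ v ∈ W, v ∈ W₁ ∨ v ∈ W₂) →
      (∀ v ∈ W, h • v ∈ W₁) ∨ ∀ v ∈ W, h • v ∈ W₂ := by
    intro h W hW
    by_contra hc
    push Not at hc
    obtain ⟨⟨a, ha, ha'⟩, b, hb, hb'⟩ := hc
    have ha2 := (hS h a (hW a ha)).resolve_left ha'
    have hb2 := (hS h b (hW b hb)).resolve_right hb'
    rcases hS h _ (hW _ (mul_mem ha hb)) with h3 | h3
    · rw [smul_mul'] at h3
      exact ha' ((W₁.mul_mem_cancel_right hb2).1 h3)
    · rw [smul_mul'] at h3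
      exact hb' ((W₂.mul_mem_cancel_left ha2).1 h3)
  have hbad : ∀ (h : H) (W : Subgroup V), (∀ v ∈ W₁, h • v ∈ W) → (∀ v ∈ W₂, h • v ∈ W) → W = ⊤ := by
    intro h W a b
    have : (W₁ ⊔ W₂) ≤ W.comap (MulDistribMulAction.toMonoidHom V h) := sup_le a b
    rw [eq_top_iff]
    intro v _
    have h3 : h • h⁻¹ • v ∈ W := this (hsup ▸ mem_top (h⁻¹ • v))
    simpa using h3
  have t1 : W₁ ≠ ⊤ := fun e => h2 (by rwa [e, top_inf_eq] at h12)
  have t2 : W₂ ≠ ⊤ := fun e => h1 (by rwa [e, inf_top_eq] at h12)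
  have hdi : ∀ h : H, ((∀ v ∈ W₁, h • v ∈ W₁) ∧ ∀ v ∈ W₂, h • v ∈ W₂) ∨
      ((∀ v ∈ W₁, h • v ∈ W₂) ∧ ∀ v ∈ W₂, h • v ∈ W₁) := by
    intro h
    rcases hone h W₁ (fun v hv => Or.inl hv) with a | a <;> rcases hone h W₂ (fun v hv => Or.inr hv) with b | b
    · exact absurd (hbad h _ a b) t1
    · exact Or.inl ⟨a, b⟩
    · exact Or.inr ⟨a, b⟩
    · exact absurd (hbad h _ a b) t2
  obtain ⟨⟨w, hw⟩, hw1⟩ := (Subgroup.ne_bot_iff_exists_ne_one).1 h1
  have hw2 : ∀ h : H, h • w ∈ W₁ → h • w ∈ W₂ → False := by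
    intro h a b
    have : h • w ∈ W₁ ⊓ W₂ := ⟨a, b⟩
    rw [h12, mem_bot] at this
    apply hw1
    apply Subtype.ext
    have h3 := congrArg (h⁻¹ • ·) this
    simpa using h3
  let H0 : Subgroup H :=
    { carrier := {h | (∀ v ∈ W₁, h • v ∈ W₁) ∧ ∀ v ∈ W₂, h • v ∈ W₂}
      mul_mem' := fun {a b} ha hb => ⟨fun v hv => by rw [mul_smul]; exact ha.1 _ (hb.1 v hv),
        fun v hv => by rw [mul_smul]; exact ha.2 _ (hb.2 v hv)⟩
      one_mem' := ⟨fun v hv => by rwa [one_smul], fun v hv => by rwa [one_smul]⟩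
      inv_mem' := fun {a} ha => (hdi a⁻¹).resolve_right fun hb =>
        hw2 1 (by rwa [one_smul]) (by simpa using hb.1 _ (ha.1 w hw)) }
  have hidx : H0.Normal ∧ ∃ n, H0.index = 2 ^ n := by
    by_cases ht : H0 = ⊤
    · exact ⟨ht ▸ inferInstance, 0, index_eq_one.2 ht⟩
    · obtain ⟨a, -, ha⟩ := SetLike.exists_of_lt (lt_top_iff_ne_top.2 ht)
      have ha' := (hdi a).resolve_left ha
      have : H0.index = 2 := by
        rw [index_eq_two_iff]
        refine ⟨a, fun b => ?_⟩
        by_cases hb : b ∈ H0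
        · exact Or.inr ⟨hb, fun hc => ha ((H0.mul_mem_cancel_left hb).1 hc)⟩
        · have hb' := (hdi b).resolve_left hb
          exact Or.inl ⟨⟨fun v hv => by rw [mul_smul]; exact hb'.2 _ (ha'.1 v hv),
            fun v hv => by rw [mul_smul]; exact hb'.1 _ (ha'.2 v hv)⟩, hb⟩
      exact ⟨normal_of_index_eq_two this, 1, this⟩
  obtain ⟨hn, n, hidx⟩ := hidx
  haveI : Fact (Nat.Prime 2) := ⟨Nat.prime_two⟩
  refine H2.isSolvable_of_normal_of_quotient H0 ?_ (H1.isSolvable_of_isPGroup (IsPGroup.of_card hidx))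
  have key : ∀ (W : Subgroup V) (hW : AInv H0 W), W ≠ ⊤ →
      Group.IsSolvable (letI := hW.subAct; (MulDistribMulAction.toMulAut H0 W).range) := by
    intro W hW ht
    letI := hW.subAct
    refine ih W ht H0 (fun hd => hH (hd.trans (card_subgroup_dvd_card _))) (fun v => ?_)
    obtain ⟨k, hk⟩ := horb v
    refine ⟨k, dvd_trans ?_ hk⟩
    have : MulAction.stabilizer H0 v = (MulAction.stabilizer H (v : V)).subgroupOf H0 := by
      ext x
      rw [MulAction.mem_stabilizer_iff, mem_subgroupOf, MulAction.mem_stabilizer_iff, Subtype.ext_iff]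
      rfl
    rw [this]
    exact H25.relIndex_dvd_index_of_normal_right _ _
  have i1 : AInv H0 W₁ := fun a => a.2.1
  have i2 : AInv H0 W₂ := fun a => a.2.2
  refine isSolvable_of_two_ranges _ _ (key W₁ i1 t1) (key W₂ i2 t2) ?_
  intro x a b
  letI := i1.subAct
  letI := i2.subAct
  rw [toMulAut_eq_one_iff] at a b
  apply Subtype.ext
  apply hf
  intro v
  have : W₁ ⊔ W₂ ≤ (MulDistribMulAction.toMonoidHom V (x : H)).eqLocus (MonoidHom.id V) :=
    sup_le (fun w hw => congrArg Subtype.val (a ⟨w, hw⟩)) (fun w hw => congrArg Subtype.val (b ⟨w, hw⟩))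
  exact this (hsup ▸ mem_top v)

/-- fixed points of one element -/
def fixSub (V : Type*) [Group V] {H : Type*} [Group H] [MulDistribMulAction H V] (h : H) : Subgroup V :=
  (MulDistribMulAction.toMonoidHom V h).eqLocus (MonoidHom.id V)

omit [Finite V] [Finite H] in
theorem mem_fixSub {h : H} {v : V} : v ∈ fixSub V h ↔ h • v = v := Iff.rfl

theorem closure_eq_top_of_irr {V H : Type*} [CommGroup V] [Finite V] [Group H] [MulDistribMulAction H V]
    (hV : IsPGroup q V) (hf : ∀ x : H, (∀ v : V, x • v = v) → x = 1)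
    {y g : H} (hirr : ∀ W : Subgroup V, (∀ w ∈ W, y • w ∈ W) → W = ⊥ ∨ W = ⊤) {n s : ℕ} (hn : 2 ≤ n)
    (hord : orderOf y = 2 ^ n) (hs : s % 4 = 3) (hs2 : s * s ≡ 1 [MOD 2 ^ n]) (hg : g * y = y ^ s * g)
    {v : V} (hv : v ≠ 1) : zpowers v ⊔ zpowers (y • v) = ⊤ := by
  have hexp : ∀ w : V, w ^ q = 1 := by
    rcases hirr (powMonoidHom q : V →* V).ker (fun w hw => by
      rw [MonoidHom.mem_ker, powMonoidHom_apply] at hw ⊢
      rw [← smul_pow', hw, smul_one]) with h | h
    · exfalso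
      obtain ⟨k, hk⟩ := hV v
      have : ∀ k : ℕ, v ^ q ^ k = 1 → v = 1 := by
        intro k
        induction k with
        | zero => simp
        | succ k ih =>
          intro h1
          apply ih
          rw [← mem_bot, ← h, MonoidHom.mem_ker, powMonoidHom_apply, ← pow_mul, ← pow_succ, h1]
      exact hv (this k hk)
    · intro w
      have : w ∈ (powMonoidHom q : V →* V).ker := h ▸ mem_top w
      exact this
  have h0 : ∀ w : Additive V, q • w = 0 := fun w => hexp w.toMul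
  obtain ⟨inst⟩ : Nonempty (Module (ZMod q) (Additive V)) := ⟨AddCommGroup.zmodModule h0⟩
  let ρ : H →* Module.End (ZMod q) (Additive V) :=
    { toFun := fun h => (MonoidHom.toAdditive (MulDistribMulAction.toMonoidHom V h)).toZModLinearMap q
      map_one' := LinearMap.ext fun w => congrArg Additive.ofMul (one_smul H w.toMul)
      map_mul' := fun a b => LinearMap.ext fun w => congrArg Additive.ofMul (mul_smul a b w.toMul) }
  have hρ : ∀ (h : H) (w : Additive V), ρ h w = Additive.ofMul (h • w.toMul) := fun _ _ => rfl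
  have hinj : Function.Injective ρ := by
    rw [injective_iff_map_eq_one]
    intro a ha
    exact hf a fun w => congrArg (fun T : Module.End (ZMod q) (Additive V) => T (Additive.ofMul w)) ha
  let G : Additive V ≃ₗ[ZMod q] Additive V := LinearEquiv.ofLinear (ρ g) (ρ g⁻¹)
    (by rw [← Module.End.mul_eq_comp, ← map_mul, mul_inv_cancel, map_one]; rfl)
    (by rw [← Module.End.mul_eq_comp, ← map_mul, inv_mul_cancel, map_one]; rfl)
  have h1 := span_eq_top_of_irr (ρ y) (fun W hW => by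
    rcases hirr (AddSubgroup.toSubgroup' W.toAddSubgroup) (fun w hw => hW (Additive.ofMul w) hw) with h | h
    · left
      rw [eq_bot_iff]
      intro w hw
      have : w.toMul ∈ AddSubgroup.toSubgroup' W.toAddSubgroup := hw
      rw [h] at this
      exact this
    · right
      rw [eq_top_iff]
      intro w _
      have : w.toMul ∈ AddSubgroup.toSubgroup' W.toAddSubgroup := h ▸ mem_top _
      exact this) hn (by rw [orderOf_injective ρ hinj, hord]) hs hs2 G (fun w => by
    change (ρ g * ρ y) w = (ρ y ^ s * ρ g) w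
    rw [← map_pow, ← map_mul, ← map_mul, hg]) (v := Additive.ofMul v) hv
  rw [eq_top_iff]
  intro w _
  have : Additive.ofMul w ∈ Submodule.span (ZMod q) {Additive.ofMul v, ρ y (Additive.ofMul v)} :=
    h1 ▸ Submodule.mem_top
  obtain ⟨a, b, hab⟩ := Submodule.mem_span_pair.1 this
  obtain ⟨a, rfl⟩ := ZMod.natCast_zmod_surjective a
  obtain ⟨b, rfl⟩ := ZMod.natCast_zmod_surjective b
  rw [Nat.cast_smul_eq_nsmul, Nat.cast_smul_eq_nsmul] at hab
  have h2 : v ^ a * (y • v) ^ b = w := congrArg Additive.toMul hab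
  rw [← h2]
  exact mul_mem_sup (pow_mem (mem_zpowers _) _) (pow_mem (mem_zpowers _) _)

theorem stabilizer_comm_of_two_gen (hcop : (Nat.card H).Coprime (Nat.card V)) [IsMulCommutative V]
    (hf : ∀ x : H, (∀ v : V, x • v = v) → x = 1) {v w : V} (h : zpowers v ⊔ zpowers w = ⊤) :
    ∀ a ∈ MulAction.stabilizer H v, ∀ b ∈ MulAction.stabilizer H v, a * b = b * a := by
  intro a ha b hb
  have hN : AInv (MulAction.stabilizer H v) (zpowers v) := by
    rintro x _ ⟨k, rfl⟩
    have : x • v = v := x.2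
    simp only [smul_zpow', this]
    exact zpow_mem (mem_zpowers _) _
  letI := hN.quotAct
  haveI : IsCyclic (V ⧸ zpowers v) := by
    refine ⟨⟨(w : V ⧸ zpowers v), fun x => ?_⟩⟩
    obtain ⟨x, rfl⟩ := QuotientGroup.mk_surjective x
    have : zpowers v ⊔ zpowers w ≤ (zpowers (w : V ⧸ zpowers v)).comap (QuotientGroup.mk' _) :=
      sup_le (fun z hz => by rw [mem_comap, QuotientGroup.mk'_apply, (QuotientGroup.eq_one_iff z).2 hz]; exact one_mem _)
        (zpowers_le.2 (mem_zpowers _))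
    exact this (h ▸ mem_top x)
  have h1 : MulDistribMulAction.toMulAut (MulAction.stabilizer H v) (V ⧸ zpowers v) ⁅(⟨a, ha⟩ : MulAction.stabilizer H v), (⟨b, hb⟩ : MulAction.stabilizer H v)⁆ = 1 := by
    rw [map_commutatorElement, commutatorElement_eq_one_iff_mul_comm]
    apply (IsCyclic.mulAutMulEquiv (V ⧸ zpowers v)).injective
    rw [map_mul, map_mul, mul_comm]
  rw [toMulAut_eq_one_iff] at h1
  rw [← commutatorElement_eq_one_iff_mul_comm]
  apply hf
  have hab : ⁅a, b⁆ ∈ MulAction.stabilizer H v := (⁅(⟨a, ha⟩ : MulAction.stabilizer H v), (⟨b, hb⟩ : MulAction.stabilizer H v)⁆).2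
  refine smul_eq_of_chain hcop (W := zpowers v) ?_ (fun x => QuotientGroup.eq.1 (h1 (x : V ⧸ zpowers v)).symm)
  rintro _ ⟨k, rfl⟩
  have : ⁅a, b⁆ • v = v := hab
  simp only [smul_zpow', this]

end

theorem orbSolv {q : ℕ} [hq : Fact q.Prime] (V : Type u) [Group V] [Finite V] :
    IsPGroup q V → IsMulCommutative V → OrbSolv q V := by
  refine H2.card_induction (P := fun V _ _ => IsPGroup q V → IsMulCommutative V → OrbSolv q V) ?_ V
  intro V _ _ ih hV hc
  apply orbSolv_of_faithful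
  intro H _ _ _ hH horb hf
  have hcop : (Nat.card H).Coprime (Nat.card V) := (H1.coprime_card_of_isPGroup hV hH).symm
  have ih1 : ∀ W : Subgroup V, W ≠ ⊤ → OrbSolv q W := fun W hW =>
    ih W (H1.card_lt_of_ne_top hW) (hV.to_subgroup W) inferInstance
  by_cases hred : ∃ W : Subgroup V, AInv H W ∧ W ≠ ⊥ ∧ W ≠ ⊤
  · obtain ⟨W, hW, h1, h2⟩ := hred
    letI := hW.subAct
    letI := hW.quotAct
    refine isSolvable_of_two_ranges _ _ (ih1 W h2 H hH fun v => ?_)
      (ih (V ⧸ W) (H1.card_quotient_lt h1) (hV.to_quotient W)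
        (Normal.quotient_commutative_iff_commutator_le.2 (by
          rw [_root_.commutator_def, commutator_le]
          intro a _ b _
          rw [commutatorElement_eq_one_iff_mul_comm.2 (mul_comm' a b)]
          exact one_mem _)) H hH fun v => ?_) ?_
    · obtain ⟨k, hk⟩ := horb v
      refine ⟨k, dvd_trans (index_dvd_of_le ?_) hk⟩
      intro x hx
      exact Subtype.ext hx
    · obtain ⟨v, rfl⟩ := QuotientGroup.mk_surjective v
      obtain ⟨k, hk⟩ := horb v
      refine ⟨k, dvd_trans (index_dvd_of_le ?_) hk⟩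
      intro x hx
      exact congrArg (fun z : V => (z : V ⧸ W)) hx
    · intro x a b
      rw [toMulAut_eq_one_iff] at a b
      exact hf x (smul_eq_of_chain hcop (W := W) (fun w hw => congrArg Subtype.val (a ⟨w, hw⟩))
        (fun v => QuotientGroup.eq.1 (b (v : V ⧸ W)).symm))
  have hirr : ∀ W : Subgroup V, AInv H W → W = ⊥ ∨ W = ⊤ := by
    intro W hW
    by_contra hc
    push Not at hc
    exact hred ⟨W, hW, hc⟩
  haveI : Fact (Nat.Prime 2) := ⟨Nat.prime_two⟩
  obtain ⟨P⟩ : Nonempty (Sylow 2 H) := inferInstance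
  have hP : ∀ (h : H) (v : V), ∃ p ∈ (P : Subgroup H), h • v = p • v := by
    intro h v
    obtain ⟨k, hk⟩ := horb v
    obtain ⟨x, hx, y, hy, rfl⟩ := H1.exists_mul_of_coprime_relIndex (K := ⊤) (H := (P : Subgroup H))
      (L := MulAction.stabilizer H v) le_top le_top (by
        rw [relIndex_top_right, relIndex_top_right]
        exact (((Nat.Prime.coprime_iff_not_dvd Nat.prime_two).2 P.not_dvd_index).symm.pow_right k).coprime_dvd_right hk)
      (mem_top h)
    exact ⟨x, hx, by rw [mul_smul, hy]⟩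
  have hirrP : ∀ W : Subgroup V, (∀ p ∈ (P : Subgroup H), ∀ w ∈ W, p • w ∈ W) → W = ⊥ ∨ W = ⊤ := by
    intro W hW
    refine hirr W fun h w hw => ?_
    obtain ⟨p, hp, e⟩ := hP h w
    rw [e]; exact hW p hp w hw
  have hswap : ∀ W₁ W₂ : Subgroup V, W₁ ≠ ⊥ → W₂ ≠ ⊥ → W₁ ⊓ W₂ = ⊥ →
      (∀ p ∈ (P : Subgroup H), ∀ v : V, v ∈ W₁ ∨ v ∈ W₂ → p • v ∈ W₁ ∨ p • v ∈ W₂) → Group.IsSolvable H := by
    intro W₁ W₂ h1 h2 h12 hS
    refine solvable_of_swap ih1 hH horb hf hirr h1 h2 h12 fun h v hv => ?_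
    obtain ⟨p, hp, e⟩ := hP h v
    rw [e]; exact hS p hp v hv
  -- central involutions invert
  have hz : ∀ z : H, z ≠ 1 → (∀ p ∈ (P : Subgroup H), p * z = z * p) → fixSub V z = ⊥ := by
    intro z hz1 hzc
    refine (hirrP _ fun p hp w hw => ?_).resolve_right fun e => hz1 (hf z fun v => mem_fixSub.1 (e ▸ mem_top v))
    rw [mem_fixSub] at hw ⊢
    rw [← mul_smul, ← hzc p hp, mul_smul, hw]
  have hinv : ∀ z : H, z * z = 1 → fixSub V z = ⊥ → ∀ v : V, z • v = v⁻¹ := by
    intro z h1 h2 v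
    have : v * z • v ∈ fixSub V z := by
      rw [mem_fixSub, smul_mul', ← mul_smul, h1, one_smul, mul_comm']
    rw [h2, mem_bot] at this
    exact (eq_inv_of_mul_eq_one_right this)
  by_cases hk : ∃ U : Subgroup P, U.Normal ∧ IsKleinFour U
  · obtain ⟨U, hUn, hU⟩ := hk
    haveI := P.isPGroup'.isNilpotent
    have hUb : U ≠ ⊥ := fun e => by
      have := hU.card_four
      rw [e, card_bot] at this
      omega
    obtain ⟨⟨z, hzU, hzc⟩, hz1⟩ := (Subgroup.ne_bot_iff_exists_ne_one).1 (H2.inf_center_ne_bot U hUb)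
    have hz1' : z ≠ 1 := fun e => hz1 (Subtype.ext e)
    obtain ⟨u, huU, hu1, huz⟩ : ∃ u ∈ U, u ≠ 1 ∧ u ≠ z := by
      by_contra hc
      push Not at hc
      have h1 : U ≤ zpowers z := fun u hu => by
        by_cases h : u = 1
        · rw [h]; exact one_mem _
        · rw [hc u hu h]; exact mem_zpowers _
      have h2 := card_dvd_of_le h1
      have h3 : orderOf z ∣ 2 := orderOf_dvd_of_pow_eq_one (by
        rw [pow_two]; exact congrArg Subtype.val (IsKleinFour.mul_self (⟨z, hzU⟩ : U)))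
      rw [hU.card_four, Nat.card_zpowers] at h2
      exact absurd (Nat.le_of_dvd two_pos (h2.trans h3)) (by norm_num)
    have hsq : ∀ t ∈ U, (t : H) * t = 1 := fun t ht =>
      congrArg (fun x : U => ((x : P) : H)) (IsKleinFour.mul_self (⟨t, ht⟩ : U))
    have hcases : ∀ t ∈ U, t ≠ 1 → t ≠ z → t = u ∨ t = u * z := by
      intro t ht h1 h2
      by_cases h3 : t = u
      · exact Or.inl h3
      · right
        exact congrArg Subtype.val (IsKleinFour.eq_mul_of_ne_all (x := (⟨u, huU⟩ : U)) (y := ⟨z, hzU⟩) (z := ⟨t, ht⟩)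
          (fun e => hu1 (congrArg Subtype.val e)) (fun e => hz1' (congrArg Subtype.val e))
          (fun e => huz (congrArg Subtype.val e)) (fun e => h1 (congrArg Subtype.val e))
          (fun e => h3 (congrArg Subtype.val e)) (fun e => h2 (congrArg Subtype.val e)))
    have hzfix : fixSub V (z : H) = ⊥ := hz z (fun e => hz1' (Subtype.ext e))
      (fun p hp => congrArg Subtype.val (mem_center_iff.1 hzc ⟨p, hp⟩))
    have hne : ∀ t ∈ U, t ≠ z → fixSub V (t : H) ≠ ⊥ := by
      intro t ht htz e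
      apply htz
      have h1 := hinv _ (hsq t ht) e
      have h2 := hinv _ (hsq z hzU) hzfix
      have h3 := hf ((z : H) * t) fun v => by rw [mul_smul, h1, h2, inv_inv]
      apply Subtype.ext
      exact mul_left_cancel (h3.trans (hsq z hzU).symm)
    have hconj : ∀ t ∈ U, t ≠ 1 → t ≠ z → ∀ p ∈ (P : Subgroup H), ∀ v ∈ fixSub V (t : H),
        p • v ∈ fixSub V (u : H) ∨ p • v ∈ fixSub V ((u * z : P) : H) := by
      intro t ht h1 h2 p hp v hv
      have h3 : p • v ∈ fixSub V (((⟨p, hp⟩ : P) * t * (⟨p, hp⟩ : P)⁻¹ : P) : H) := by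
        rw [mem_fixSub] at hv ⊢
        rw [← mul_smul]
        change (p * t * p⁻¹ * p) • v = p • v
        rw [inv_mul_cancel_right, mul_smul, hv]
      rcases hcases _ (hUn.conj_mem t ht ⟨p, hp⟩) (fun e => h1 (by simpa using e)) (fun e => h2 (by
        rw [mul_inv_eq_iff_eq_mul, ← mem_center_iff.1 hzc] at e
        exact mul_left_cancel e)) with h4 | h4
      · rw [h4] at h3; exact Or.inl h3
      · rw [h4] at h3; exact Or.inr h3
    have huz1 : u * z ≠ 1 := fun e => huz (Subtype.ext (mul_right_cancel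
      ((congrArg Subtype.val e).trans (hsq z hzU).symm)))
    have huzz : u * z ≠ z := fun e => hu1 (by simpa using e)
    refine hswap (fixSub V (u : H)) (fixSub V ((u * z : P) : H)) (hne u huU huz) (hne _ (mul_mem huU hzU) huzz) ?_ ?_
    · rw [eq_bot_iff, ← hzfix]
      rintro v ⟨h1, h2⟩
      have h1' : (u : H) • v = v := h1
      have h2' : ((u : H) * z) • v = v := h2
      rw [mem_fixSub]
      apply MulAction.injective (u : H)
      change (u : H) • (z : H) • v = (u : H) • v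
      rw [← mul_smul, h1', h2']
    · rintro p hp v (hv | hv)
      · exact hconj u huU hu1 huz p hp v hv
      · exact hconj _ (mul_mem huU hzU) huz1 huzz p hp v hv
  push Not at hk
  rcases H11.isCyclic_or_MC_of_no_normal_klein P.isPGroup' hk with hcyc | ⟨n, e, f, X, Y, hMC⟩
  · obtain ⟨N, hNn, hN⟩ := H11.exists_complement_of_isCyclic P hcyc
    refine H2.isSolvable_of_normal_of_quotient N (FT.solvable_of_odd ?_) (H1.isSolvable_of_isPGroup (p := 2) ?_)
    · rw [← hN.index_eq_card, ← Nat.not_even_iff_odd, even_iff_two_dvd]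
      exact P.not_dvd_index
    · exact P.isPGroup'.of_equiv hN.symm.QuotientMulEquiv.symm
  by_cases hy : ∃ W : Subgroup V, (∀ w ∈ W, (X 1 : H) • w ∈ W) ∧ W ≠ ⊥ ∧ W ≠ ⊤
  · obtain ⟨W, hW, h1, h2⟩ := hy
    have hX : ∀ a, ∀ w ∈ W, (X a : H) • w ∈ W := by
      intro a w hw
      have : X a = X 1 ^ a.val := by rw [hMC.X_pow, ZMod.natCast_zmod_val, mul_one]
      rw [this]
      generalize a.val = k
      induction k with
      | zero => simpa using hw
      | succ k ih => rw [pow_succ', Subgroup.coe_mul, mul_smul]; exact hW _ ih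
    let W₂ := W.comap (MulDistribMulAction.toMonoidHom V (Y 0 : H))
    have hW₂ : ∀ v, v ∈ W₂ ↔ (Y 0 : H) • v ∈ W := fun _ => Iff.rfl
    have a1 : ∀ a, ∀ v ∈ W₂, (X a : H) • v ∈ W₂ := by
      intro a v hv
      rw [hW₂] at hv ⊢
      have := hX (-a + e * a) _ hv
      rwa [← hMC.YXY a 0, ← mul_smul, ← Subgroup.coe_mul, inv_mul_cancel_right, Subgroup.coe_mul, mul_smul] at this
    have a2 : ∀ a, ∀ v ∈ W, (Y a : H) • v ∈ W₂ := by
      intro a v hv
      rw [hW₂, ← mul_smul, ← Subgroup.coe_mul, hMC.YY]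
      exact hX _ v hv
    have a3 : ∀ a, ∀ v ∈ W₂, (Y a : H) • v ∈ W := by
      intro a v hv
      have := hX (f + (0 + f + e * 0) - a + e * a) _ ((hW₂ v).1 hv)
      rwa [← hMC.YY, ← hMC.Y_inv, ← mul_smul, ← Subgroup.coe_mul, inv_mul_cancel_right] at this
    refine hswap W W₂ h1 ?_ ?_ ?_
    · intro h0
      apply h1
      rw [eq_bot_iff]
      intro w hw
      have := a2 0 w hw
      rw [h0, mem_bot] at this
      have h3 := congrArg ((Y 0 : H)⁻¹ • ·) this
      simpa using h3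
    · refine (hirrP _ fun p hp w hw => ?_).resolve_right fun e => h2 (top_le_iff.1 (e ▸ inf_le_left))
      obtain ⟨a, ha | ha⟩ := (hMC.mem ⟨p, hp⟩).1 (mem_top _)
      · have : p = X a := congrArg Subtype.val ha
        rw [this]
        exact ⟨hX a w hw.1, a1 a w hw.2⟩
      · have : p = Y a := congrArg Subtype.val ha
        rw [this]
        exact ⟨a3 a w hw.2, a2 a w hw.1⟩
    · intro p hp w hw
      obtain ⟨a, ha | ha⟩ := (hMC.mem ⟨p, hp⟩).1 (mem_top _)
      · have : p = X a := congrArg Subtype.val ha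
        rw [this]
        exact hw.imp (hX a w) (a1 a w)
      · have : p = Y a := congrArg Subtype.val ha
        rw [this]
        exact (hw.imp (a2 a w) (a3 a w)).symm
  by_cases hV1 : ∀ v : V, v = 1
  · haveI : Subsingleton H := ⟨fun a b => by
      rw [hf a fun v => by rw [hV1 v, smul_one], hf b fun v => by rw [hV1 v, smul_one]]⟩
    infer_instance
  push Not at hy hV1
  obtain ⟨v, hv⟩ := hV1
  letI : CommGroup V := { ‹Group V› with mul_comm := mul_comm' }
  have hgen := closure_eq_top_of_irr hV hf (y := (X 1 : H)) (g := (Y 0 : H)) (n := n) (s := (-1 + e).val)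
    (fun W hW => or_iff_not_imp_left.2 (hy W hW)) hMC.two_le
    (by rw [Subgroup.orderOf_coe, hMC.orderOf_X_one]) ?_ ?_ ?_ hv
  · obtain ⟨k, hk⟩ := horb v
    exact isSolvable_of_abelian_index_pow Nat.prime_two (stabilizer_comm_of_two_gen hcop hf hgen) hk
  · obtain ⟨e', he'⟩ := hMC.e4
    have h1 : (-1 + e).val + 1 ≡ 4 * e'.val [MOD 2 ^ n] := by
      rw [← ZMod.natCast_eq_natCast_iff]
      push_cast
      rw [ZMod.natCast_zmod_val, ZMod.natCast_zmod_val, ← he']
      ring
    have h2 := h1.of_dvd (show 4 ∣ 2 ^ n from pow_dvd_pow 2 hMC.two_le)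
    rw [Nat.ModEq] at h2
    omega
  · rw [← ZMod.natCast_eq_natCast_iff]
    push_cast
    rw [ZMod.natCast_zmod_val]
    linear_combination hMC.e_e - hMC.e2
  · rw [← Subgroup.coe_pow, hMC.X_pow, ZMod.natCast_zmod_val, ← Subgroup.coe_mul, ← Subgroup.coe_mul, hMC.YX, hMC.XY]
    congr 2
    linear_combination hMC.e2 - hMC.e_e

end Cfsg.Agent.H26
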