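import Mathlib
import Cfsg.Agent.H26.MW1

/-! Averaging operators for complex representations of orthogonal groups. -/

set_option autoImplicit false
set_option linter.unusedSectionVars false

namespace Cfsg.Agent.H26.RD

open Module QuadraticMap H13 MD Finset
open scoped Pointwise Classical

section lin
variable {M : Type*} [AddCommGroup M] [Module ℂ M] [FiniteDimensional ℂ M]

local notation "tr" => LinearMap.trace ℂ M

theorem tr_idem {P : End ℂ M} (h : P * P = P) : tr P = finrank ℂ (LinearMap.range P) :=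
  LinearMap.IsProj.trace ⟨fun x => ⟨x, rfl⟩, by rintro _ ⟨x, rfl⟩; exact LinearMap.congr_fun h x⟩

theorem eq_zero_of_tr {P : End ℂ M} (h : P * P = P) (h0 : tr P = 0) : P = 0 := by
  rw [tr_idem h, Nat.cast_eq_zero, Submodule.finrank_eq_zero] at h0
  exact LinearMap.range_eq_bot.1 h0

theorem rank_one {P : End ℂ M} (h : P * P = P) (h1 : tr P = 1) (S : End ℂ M) :
    P * S * P = tr (S * P) • P := by
  have h2 := h1
  rw [tr_idem h, Nat.cast_eq_one] at h2
  obtain ⟨v, -, hv⟩ := finrank_eq_one_iff'.1 h2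
  obtain ⟨c, hc⟩ := hv ⟨P (S v), _, rfl⟩
  have h3 : P * S * P = c • P := LinearMap.ext fun m => by
    obtain ⟨d, hd⟩ := hv ⟨P m, m, rfl⟩
    have e1 : d • (v : M) = P m := congrArg Subtype.val hd
    have e2 : c • (v : M) = P (S v) := congrArg Subtype.val hc
    simp only [End.mul_apply, LinearMap.smul_apply, ← e1, map_smul, ← e2, smul_comm c d]
  have h4 := congrArg tr h3
  rw [map_smul, h1, mul_assoc, LinearMap.trace_mul_comm, mul_assoc, h, smul_eq_mul, mul_one] at h4
  rw [h3, h4]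

theorem tr_of_sq {A : End ℂ M} {s : ℂ} (h : A * A = s • A) :
    tr A = s * finrank ℂ (LinearMap.range A) := by
  rw [← LinearMap.trace_restrict_eq_of_forall_mem (LinearMap.range A) A (by simp),
    show A.restrict _ = s • (1 : End ℂ (LinearMap.range A)) from LinearMap.ext fun ⟨_, w, rfl⟩ =>
      Subtype.ext (LinearMap.congr_fun h w)]
  simp

theorem tr_integral {T : End ℂ M} {N : ℕ} (hN : 0 < N) (h : T ^ (N + 1) = T) : IsIntegral ℤ (tr T) := by
  let b := Module.finBasis ℂ M
  rw [LinearMap.trace_eq_matrix_trace ℂ b, Matrix.trace_eq_sum_roots_charpoly]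
  refine IsIntegral.multiset_sum fun μ hμ => ?_
  rw [LinearMap.charpoly_toMatrix, Polynomial.mem_roots (LinearMap.charpoly_monic T).ne_zero,
    ← Module.End.hasEigenvalue_iff_isRoot_charpoly] at hμ
  obtain ⟨v, hv⟩ := hμ.exists_hasEigenvector
  have e := hv.pow_apply (N + 1)
  rw [h, hv.apply_eq_smul] at e
  refine ⟨Polynomial.X ^ (N + 1) - Polynomial.X, Polynomial.monic_X_pow_sub (by
    rw [Polynomial.degree_X]; exact_mod_cast Nat.succ_lt_succ hN), ?_⟩
  simp [smul_left_injective ℂ hv.2 e |>.symm]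

end lin

variable {F V : Type*} [Field F] [Fintype F] [AddCommGroup V] [Module F V] [FiniteDimensional F V]
  [Fintype V] {Q : QuadraticForm F V} [hC : OC Q]

local notation "B" => polar Q
local notation "q" => Nat.card F
local notation "n" => finrank F V
local notation "ψ" => psi F

omit hC in
theorem shift {R : Type*} [CommSemiring R] (T : Finset V) (x : V) (hT : ∀ y ∈ T, ∀ t : F, y + t • x ∈ T)
    (h β : V → F) (hβ : ∀ y ∈ T, β y ≠ 0) (hb : ∀ y ∈ T, ∀ t : F, h (y + t • x) = h y + t * β y)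
    (f : F → R) : (q : R) * ∑ y ∈ T, f (h y) = #T * ∑ c, f c := by
  have h1 : ∀ y ∈ T, ∑ t : F, f (h (y + t • x)) = ∑ c, f c := fun y hy =>
    Fintype.sum_equiv ((Equiv.mulRight₀ _ (hβ y hy)).trans (Equiv.addLeft (h y))) _ _ fun t => by
      simp [hb y hy]
  have h2 : ∀ t : F, ∑ y ∈ T, f (h (y + t • x)) = ∑ y ∈ T, f (h y) := fun t =>
    sum_bij' (fun y _ => y + t • x) (fun y _ => y + (-t) • x) (fun y hy => hT y hy t)
      (fun y hy => hT y hy _) (fun y _ => by simp) (fun y _ => by simp) fun _ _ => rfl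
  rw [← nsmul_eq_mul #T, ← sum_const, ← sum_congr rfl h1, sum_comm]
  simp [h2]

/-- the elements of a subspace -/
noncomputable def fs (S : Submodule F V) : Finset V := univ.filter (· ∈ S)

omit hC in
@[simp] theorem mem_fs {S : Submodule F V} {w : V} : w ∈ fs S ↔ w ∈ S := by simp [fs]

theorem card_fs (S : Submodule F V) : #(fs S) = q ^ finrank F S := by
  rw [← card_sub, Nat.card_eq_fintype_card, Fintype.card_subtype]; rfl

theorem q_ne : (q : ℂ) ≠ 0 := Nat.cast_ne_zero.2 Nat.card_pos.ne'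
theorem card_fs_ne (S : Submodule F V) : (#(fs S) : ℂ) ≠ 0 := by
  rw [card_fs, Nat.cast_pow]; exact pow_ne_zero _ q_ne

omit hC in
theorem sum_psi (Y : Submodule F V) (w : V) :
    ∑ y ∈ fs Y, ψ (-B y w) = if w ∈ perp Q Y then (#(fs Y) : ℂ) else 0 := by
  split_ifs with h
  · rw [sum_congr rfl fun y hy => by rw [mem_perp.1 h y (mem_fs.1 hy)]]; simp
  · obtain ⟨y, hy, h⟩ : ∃ y ∈ Y, B y w ≠ 0 := by simpa [mem_perp] using h
    have := shift (fs Y) y (fun z hz t => by simpa using add_mem (mem_fs.1 hz) (Y.smul_mem t hy))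
      (fun z => -B z w) (fun _ => -B y w) (fun _ _ => neg_ne_zero.2 h) (fun z _ t => by simp; ring) ψ
    rw [AddChar.sum_eq_zero_iff_ne_zero.2 (AddChar.ne_zero_iff.2 ⟨1, exists_psi.choose_spec⟩),
      mul_zero, mul_eq_zero] at this
    exact this.resolve_left q_ne

theorem zero_of_psi {N : Type*} [AddCommGroup N] [Module ℂ N] {a : F} (ha : a ≠ 0) {T : N}
    (h : ∀ c, T = ψ (c * a) • T) : T = 0 := by
  by_contra h0
  exact ha (eq_zero_of_psi fun c => smul_left_injective ℂ h0 (by simpa using (h c).symm))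

variable {M : Type*} [AddCommGroup M] [Module ℂ M] [FiniteDimensional ℂ M] (ρ : Om Q →* End ℂ M)

/-- eigen-projection of the abelian group `ρ(a, S)` -/
noncomputable def av (S : Submodule F V) (a z : V) : End ℂ M :=
  (#(fs S) : ℂ)⁻¹ • ∑ w ∈ fs S, ψ (-B z w) • ρ (rho Q a w)

variable {ρ} {S : Submodule F V} {a z : V}

theorem av_left {T : End ℂ M} (h : ∀ w ∈ S, ρ (rho Q a w) * T = ψ (B z w) • T) : av ρ S a z * T = T := by
  rw [av, smul_mul_assoc, sum_mul, sum_congr rfl fun w hw => by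
    rw [smul_mul_assoc, h w (mem_fs.1 hw), smul_smul, ← AddChar.map_add_eq_mul, neg_add_cancel,
      AddChar.map_zero_eq_one, one_smul], sum_const, ← Nat.cast_smul_eq_nsmul ℂ,
    inv_smul_smul₀ (card_fs_ne S)]

theorem av_right {T : End ℂ M} (h : ∀ w ∈ S, T * ρ (rho Q a w) = ψ (B z w) • T) : T * av ρ S a z = T := by
  rw [av, mul_smul_comm, mul_sum, sum_congr rfl fun w hw => by
    rw [mul_smul_comm, h w (mem_fs.1 hw), smul_smul, ← AddChar.map_add_eq_mul, neg_add_cancel,
      AddChar.map_zero_eq_one, one_smul], sum_const, ← Nat.cast_smul_eq_nsmul ℂ,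
    inv_smul_smul₀ (card_fs_ne S)]

theorem commute_av {T : End ℂ M} (h : ∀ w ∈ S, Commute T (ρ (rho Q a w))) : Commute T (av ρ S a z) :=
  (Commute.sum_right _ _ _ fun w hw => (h w (mem_fs.1 hw)).smul_right _).smul_right _

theorem commute_rho {v w : V} (hv : B a v = 0) (hw : B a w = 0) :
    Commute (ρ (rho Q a v)) (ρ (rho Q a w)) := by
  rw [Commute, SemiconjBy, ← map_mul, ← map_mul, ← rho_add hv hw, ← rho_add hw hv, add_comm]

theorem mul_av (hS : ∀ w ∈ S, B a w = 0) {v : V} (hv : v ∈ S) :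
    ρ (rho Q a v) * av ρ S a z = ψ (B z v) • av ρ S a z := by
  rw [av, mul_smul_comm, smul_comm (ψ _)]
  congr 1
  rw [mul_sum, smul_sum]
  refine sum_equiv (Equiv.addLeft v) (fun w => by simp [S.add_mem_iff_right hv]) fun w hw => ?_
  rw [mul_smul_comm, ← map_mul, ← rho_add (hS v hv) (hS w (mem_fs.1 hw)), smul_smul,
    ← AddChar.map_add_eq_mul]
  simp

theorem av_mul (hS : ∀ w ∈ S, B a w = 0) {v : V} (hv : v ∈ S) :
    av ρ S a z * ρ (rho Q a v) = ψ (B z v) • av ρ S a z := by
  rw [← mul_av hS hv]; exact (commute_av fun w hw => commute_rho (hS v hv) (hS w hw)).eq.symm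

theorem av_conj (g : Om Q) (S : Submodule F V) (a z : V) :
    ρ g * av ρ S a z = av ρ (mp g S) (g • a) (g • z) * ρ g := by
  have h : ∀ w, w ∈ fs S ↔ MulAction.toPerm g w ∈ fs (mp g S) := fun w => by rw [mem_fs, mem_fs]; exact g_mem_mp.symm
  rw [av, av, mul_smul_comm, smul_mul_assoc, mul_sum, sum_mul, ← card_equiv _ h]
  congr 1
  refine sum_equiv _ h fun w _ => ?_
  simp [← map_mul, ← conj_rho]

theorem av_congr {z' : V} (h : ∀ w ∈ S, B z w = B z' w) : av ρ S a z = av ρ S a z' := by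
  rw [av, av, sum_congr rfl fun w hw => by rw [h w (mem_fs.1 hw)]]

theorem av_smul (hS : ∀ w ∈ S, B a w = 0) (ha : Q a = 0) {c : F} (hc : c ≠ 0) :
    av ρ S (c • a) (c • z) = av ρ S a z := by
  rw [av, av]
  congr 1
  refine sum_equiv (MulAction.toPerm (Units.mk0 c hc)) (fun w => by simp [Units.smul_def, S.smul_mem_iff hc])
    fun w hw => ?_
  simp [rho_smul_left ha (hS w (mem_fs.1 hw)), Units.smul_def]

theorem sum_av (Y S : Submodule F V) (a z : V) : (#(fs S) : ℂ) • ∑ y ∈ fs Y, av ρ S a (z + y) =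
    ((#(fs Y) * #(fs (S ⊓ perp Q Y)) : ℕ) : ℂ) • av ρ (S ⊓ perp Q Y) a z := by
  simp only [av, ← smul_sum]
  rw [smul_inv_smul₀ (card_fs_ne S), Nat.cast_mul, mul_smul, smul_inv_smul₀ (card_fs_ne _), sum_comm,
    smul_sum, show fs (S ⊓ perp Q Y) = (fs S).filter (· ∈ perp Q Y) by ext; simp, sum_filter]
  refine sum_congr rfl fun w _ => ?_
  simp only [← sum_smul, polar_add_left, neg_add, AddChar.map_add_eq_mul, ← mul_sum, sum_psi]
  split_ifs <;> simp [mul_comm, smul_smul]

theorem av_bot (a z : V) : av ρ ⊥ a z = 1 := by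
  rw [← mul_one (av ρ ⊥ a z)]
  refine av_left fun w hw => ?_
  rw [(Submodule.mem_bot F).1 hw, (rr Q a).zero]; simp

theorem card_inf {y : V} (hy : y ∉ perp Q S) : q * #(fs (S ⊓ perp Q (F ∙ y))) = #(fs S) := by
  obtain ⟨w, hw, h⟩ : ∃ w ∈ S, B w y ≠ 0 := by simpa [mem_perp] using hy
  have := shift (R := ℕ) (fs S) w (fun z hz t => by simpa using add_mem (mem_fs.1 hz) (S.smul_mem t hw))
    (fun z => B z y) (fun _ => B w y) (fun _ _ => h) (fun z _ t => by simp) fun c => if c = 0 then 1 else 0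
  simp only [Nat.cast_id, sum_ite_eq', mem_univ, if_true, mul_one, ← card_filter] at this
  rw [← this]; congr 2; ext z
  rw [mem_fs, mem_filter, mem_fs, Submodule.mem_inf, mem_perp_singleton, polar_comm]

theorem sum_line {y : V} (hy : y ∉ perp Q S) (a z : V) :
    ∑ c : F, av ρ S a (z + c • y) = av ρ (S ⊓ perp Q (F ∙ y)) a z := by
  have y0 : y ≠ 0 := by rintro rfl; exact hy (zero_mem _)
  have := sum_av (ρ := ρ) (F ∙ y) S a z
  rw [card_fs (F ∙ y), finrank_span_singleton y0, pow_one, card_inf hy] at this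
  rw [← smul_right_injective _ (card_fs_ne S) this]
  exact sum_bij (fun c _ => c • y) (fun c _ => by simp [Submodule.smul_mem]) 
    (fun _ _ _ _ h => smul_left_injective F y0 h)
    (fun x hx => by simpa using Submodule.mem_span_singleton.1 (mem_fs.1 hx)) fun _ _ => rfl

end Cfsg.Agent.H26.RD
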