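import Cfsg.Agent.S0200
import Cfsg.Agent.FT
import Cfsg.Agent.H6.ZStar
import Cfsg.Agent.H26.PElt
import Cfsg.Agent.H26.ClassSize
import Cfsg.Agent.H26.SylCount
import Cfsg.Agent.H1.Glauberman
import Cfsg.Agent.H1.Coprime
import Cfsg.Agent.H1.Cores
import Cfsg.Agent.H3.PNil
import Cfsg.Agent.H2.Wiel
import Cfsg.Agent.H2.Basic

/-! Real elements. -/

set_option autoImplicit false

namespace Cfsg.Agent.H26

open Subgroup
open scoped commutatorElement Pointwise

universe u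

variable {G : Type*} [Group G] [Finite G]

omit [Finite G] in
theorem conj_pow_odd_of_inv {t x : G} (h : t * x * t⁻¹ = x⁻¹) {m : ℕ} (hm : Odd m) : t ^ m * x * (t ^ m)⁻¹ = x⁻¹ := by
  have h2 : Commute (t ^ 2) x := by
    have h1 : t * x⁻¹ * t⁻¹ = x := by rw [← conj_inv, h, inv_inv]
    rw [Commute, SemiconjBy, ← mul_inv_eq_iff_eq_mul]
    calc t ^ 2 * x * (t ^ 2)⁻¹ = t * (t * x * t⁻¹) * t⁻¹ := by rw [pow_two]; group
      _ = x := by rw [h, h1]
  obtain ⟨k, rfl⟩ := hm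
  calc t ^ (2 * k + 1) * x * (t ^ (2 * k + 1))⁻¹ = t * ((t ^ 2) ^ k * x * ((t ^ 2) ^ k)⁻¹) * t⁻¹ := by group
    _ = x⁻¹ := by rw [(h2.pow_left k).eq, mul_inv_cancel_right, h]

theorem exists_two_elt_inv {t x : G} (h : t * x * t⁻¹ = x⁻¹) :
    ∃ m : ℕ, Odd m ∧ (∃ k, orderOf (t ^ m) = 2 ^ k) ∧ t ^ m * x * (t ^ m)⁻¹ = x⁻¹ := by
  obtain ⟨k, m, hm, e⟩ := Nat.exists_eq_two_pow_mul_odd (orderOf_pos t).ne'
  refine ⟨m, hm, ⟨k, ?_⟩, conj_pow_odd_of_inv h hm⟩
  rw [orderOf_pow_of_dvd hm.pos.ne' (Dvd.intro_left _ e.symm), e, Nat.mul_div_cancel _ hm.pos]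

theorem exists_real_lift (N : Subgroup G) [N.Normal] {t x : G ⧸ N} (hx : x ≠ 1) (ho : Odd (orderOf x))
    (h : t * x * t⁻¹ = x⁻¹) : ∃ s y : G, (∃ k, orderOf s = 2 ^ k) ∧ (∃ r k : ℕ, r.Prime ∧ r ≠ 2 ∧ orderOf y = r ^ k) ∧
      y ∉ N ∧ s * y * s⁻¹ = y⁻¹ := by
  obtain ⟨r, hr, hrd⟩ := Nat.exists_prime_and_dvd (n := orderOf x) (fun e => hx (orderOf_eq_one_iff.1 e))
  haveI := Fact.mk hr
  have hr2 : r ≠ 2 := by
    rintro rfl
    exact (Nat.not_even_iff_odd.2 ho) (even_iff_two_dvd.2 hrd)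
  set z := x ^ (orderOf x / r) with hz
  have hzo : orderOf z = r := orderOf_pow_orderOf_div (orderOf_pos x).ne' hrd
  have hzi : t * z * t⁻¹ = z⁻¹ := by rw [hz, ← conj_pow, h, inv_pow]
  set f := QuotientGroup.mk' N with hf
  have hs : Function.Surjective f := QuotientGroup.mk'_surjective N
  obtain ⟨t, rfl⟩ := hs t
  set X := (zpowers z).comap f with hX
  have htX : t ∈ normalizer (X : Set G) := by
    apply H3.mem_normalizer_of_conj_mem
    intro a ha
    obtain ⟨k, hk⟩ := mem_zpowers_iff.1 ha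
    rw [hX, mem_comap, map_mul, map_mul, map_inv, ← hk, ← conj_zpow, hzi]
    exact zpow_mem (inv_mem (mem_zpowers z)) k
  obtain ⟨R, hR⟩ := H1.exists_isSylowIn r X
  obtain ⟨k, hk, hn⟩ := hR.exists_mul_normalizer htX
  have hni : f (k⁻¹ * t) * z * (f (k⁻¹ * t))⁻¹ = z⁻¹ := by
    obtain ⟨j, hj⟩ := mem_zpowers_iff.1 hk
    rw [map_mul, map_inv, ← hj]
    calc (z ^ j)⁻¹ * f t * z * ((z ^ j)⁻¹ * f t)⁻¹ = (z ^ j)⁻¹ * (f t * z * (f t)⁻¹) * z ^ j := by group
      _ = z⁻¹ := by rw [hzi]; group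
  set n := k⁻¹ * t
  obtain ⟨j, m, hm, e⟩ := Nat.exists_eq_two_pow_mul_odd (orderOf_pos n).ne'
  have hao : orderOf (n ^ m) = 2 ^ j := by
    rw [orderOf_pow_of_dvd hm.pos.ne' (Dvd.intro_left _ e.symm), e, Nat.mul_div_cancel _ hm.pos]
  have hai : f (n ^ m) * z * (f (n ^ m))⁻¹ = z⁻¹ := by rw [map_pow]; exact conj_pow_odd_of_inv hni hm
  have haR : n ^ m ∈ normalizer (R : Set G) := pow_mem hn m
  set a := n ^ m
  have hzp : IsPGroup r (zpowers z) := isPGroup_zpowers_of_orderOf (k := 1) (by rw [hzo, pow_one])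
  have hRm : R.map f = zpowers z := by
    have := hR.map f
    rw [hX, map_comap_eq_self_of_surjective hs] at this
    exact this.eq_of_le this.le le_rfl hzp
  obtain ⟨u, hu, hfu⟩ : z ∈ R.map f := hRm ▸ mem_zpowers z
  have h2a : IsPGroup 2 (zpowers (a ^ 2)) :=
    (isPGroup_zpowers_of_orderOf hao).to_le (zpowers_le.2 (pow_mem (mem_zpowers a) 2))
  haveI : Fact (Nat.Prime 2) := ⟨Nat.prime_two⟩
  have hc2 : Commute (f a ^ 2) z := by
    have h1 : f a * z⁻¹ * (f a)⁻¹ = z := by rw [← conj_inv, hai, inv_inv]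
    rw [Commute, SemiconjBy, ← mul_inv_eq_iff_eq_mul]
    calc f a ^ 2 * z * (f a ^ 2)⁻¹ = f a * (f a * z * (f a)⁻¹) * (f a)⁻¹ := by rw [pow_two]; group
      _ = z := by rw [hai, h1]
  obtain ⟨v, hv, hc⟩ := H1.exists_fixed_in_left_coset (A := zpowers (a ^ 2)) (N := R ⊓ N) (x := u)
    (H1.le_normalizer_inf (zpowers_le.2 (pow_mem haR 2)) (by rw [normalizer_eq_top]; exact le_top))
    (IsPGroup.coprime_card_of_ne 2 r hr2.symm _ _ h2a (hR.isPGroup.to_le inf_le_left))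
    (Or.inl (H1.isSolvable_zpowers _)) (by
      rintro _ ⟨i, rfl⟩
      refine mem_inf.2 ⟨mul_mem (inv_mem hu) (H1.conj_mem_of_le_normalizer le_rfl (zpow_mem (pow_mem haR 2) i) hu), ?_⟩
      rw [← QuotientGroup.eq_one_iff, ← QuotientGroup.mk'_apply, ← hf]
      simp only [map_mul, map_inv, map_zpow, map_pow, hfu]
      rw [(hc2.zpow_left i).eq]
      group)
  have huv : u * v ∈ R := mul_mem hu hv.1
  have hfuv : f (u * v) = z := by rw [map_mul, hfu, show f v = 1 from (QuotientGroup.eq_one_iff v).2 hv.2, mul_one]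
  set w := u * v
  have hcw : a ^ 2 * w = w * a ^ 2 := hc _ (mem_zpowers _)
  have hy : w⁻¹ * (a * w * a⁻¹) ∈ R := mul_mem (inv_mem huv) (H1.conj_mem_of_le_normalizer le_rfl haR huv)
  obtain ⟨i, hi⟩ := exists_orderOf_of_mem hR.isPGroup hy
  refine ⟨a, w⁻¹ * (a * w * a⁻¹), ⟨j, hao⟩, ⟨r, i, hr, hr2, hi⟩, fun h0 => ?_, ?_⟩
  · rw [← QuotientGroup.eq_one_iff, ← QuotientGroup.mk'_apply, ← hf] at h0
    simp only [map_mul, map_inv, hfuv, hai] at h0
    have : z ^ 2 = 1 := by rw [← inv_inj, pow_two, mul_inv_rev, h0, inv_one]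
    have h3 := orderOf_dvd_of_pow_eq_one this
    rw [hzo] at h3
    exact hr2 ((Nat.prime_dvd_prime_iff_eq hr Nat.prime_two).1 h3)
  · calc a * (w⁻¹ * (a * w * a⁻¹)) * a⁻¹ = a * w⁻¹ * a⁻¹ * (a ^ 2 * w) * (a ^ 2)⁻¹ := by
          rw [pow_two]; group
      _ = _ := by rw [hcw]; group

/-- no nontrivial real element of odd prime power order: the Sylow `2`-subgroup is normal -/
theorem odd_index_pCore_of_no_real (h : ∀ s y : G, (∃ k, orderOf s = 2 ^ k) →
    (∃ r k : ℕ, r.Prime ∧ r ≠ 2 ∧ orderOf y = r ^ k) → s * y * s⁻¹ = y⁻¹ → y = 1) : ¬ 2 ∣ (pCore 2 G).index := by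
  intro hd
  haveI : Fact (Nat.Prime 2) := ⟨Nat.prime_two⟩
  obtain ⟨t, ht⟩ := exists_prime_orderOf_dvd_card' (G := G ⧸ pCore 2 G) 2 hd
  obtain ⟨x, hx, ho, hi⟩ := S0200.result t ht (fun N hN hp hm => by
    have := H1.le_pCore hp hm
    rw [H1.pCore_quotient_pCore, mem_bot] at this
    rw [this, orderOf_one] at ht
    omega)
  obtain ⟨s, y, h1, h2, h3, h4⟩ := exists_real_lift _ hx ho hi
  exact h3 (h s y h1 h2 h4 ▸ one_mem _)

theorem isSolvable_of_no_real (h : ∀ s y : G, (∃ k, orderOf s = 2 ^ k) →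
    (∃ r k : ℕ, r.Prime ∧ r ≠ 2 ∧ orderOf y = r ^ k) → s * y * s⁻¹ = y⁻¹ → y = 1) : Group.IsSolvable G := by
  haveI : Fact (Nat.Prime 2) := ⟨Nat.prime_two⟩
  refine H2.isSolvable_of_normal_of_quotient (pCore 2 G) (H1.isSolvable_of_isPGroup (H1.isPGroup_pCore 2 G))
    (FT.solvable_of_odd ?_)
  rw [← Nat.not_even_iff_odd, even_iff_two_dvd]
  exact odd_index_pCore_of_no_real h

theorem two_dvd_index_cent_of_real {t x : G} (h : t * x * t⁻¹ = x⁻¹) (hx : x * x ≠ 1) :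
    2 ∣ (centralizer ({x} : Set G)).index := by
  obtain ⟨m, -, ⟨k, hk⟩, hi⟩ := exists_two_elt_inv h
  set s := t ^ m
  have hN : zpowers s ≤ normalizer (centralizer ({x} : Set G) : Set G) := by
    rw [zpowers_le, ← H1.conj_smul_eq_iff_mem_normalizer, ← cent_conj, hi]
    exact le_antisymm (by simpa using cent_le_cent_zpow x⁻¹ (-1)) (by simpa using cent_le_cent_zpow x (-1))
  have h3 := relIndex_dvd_card (centralizer ({x} : Set G)) (zpowers s)
  rw [Nat.card_zpowers, hk] at h3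
  obtain ⟨j, -, hj⟩ := (Nat.dvd_prime_pow Nat.prime_two).1 h3
  have h5 := relIndex_dvd_index_of_le (le_sup_left : centralizer ({x} : Set G) ≤ _ ⊔ zpowers s)
  rw [H1.relIndex_sup_of_le_normalizer hN, hj] at h5
  rcases j with _ | j
  · exfalso
    apply hx
    have := mem_cent.1 (relIndex_eq_one.1 hj (mem_zpowers s))
    rw [this, mul_inv_cancel_right] at hi
    exact mul_eq_one_iff_eq_inv.2 hi
  · exact (dvd_pow_self 2 (Nat.succ_ne_zero j)).trans h5

theorem npc_two_of_real (G : Type u) [Group G] [Finite G] :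
    (∀ P : Subgroup G, IsPGroup 2 P → ∀ s ∈ P, ∀ u ∈ P, u * s * u⁻¹ = s⁻¹ → s * s = 1) →
    (∀ t : G, orderOf t = 2 → ∀ g, t * g * t⁻¹ * g⁻¹ ∈ pPrimeCore 2 G) → HasNormalPComplement 2 G := by
  haveI : Fact (Nat.Prime 2) := ⟨Nat.prime_two⟩
  refine H2.card_induction (P := fun G _ _ =>
    (∀ P : Subgroup G, IsPGroup 2 P → ∀ s ∈ P, ∀ u ∈ P, u * s * u⁻¹ = s⁻¹ → s * s = 1) →
    (∀ t : G, orderOf t = 2 → ∀ g, t * g * t⁻¹ * g⁻¹ ∈ pPrimeCore 2 G) → HasNormalPComplement 2 G) ?_ G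
  intro G _ _ ih hR hI
  by_cases hO : pPrimeCore 2 G = ⊥
  swap
  · set O := pPrimeCore 2 G
    have hs := QuotientGroup.mk'_surjective O
    refine H3.hasNormalPComplement_of_quotient_of_not_dvd O (H1.not_dvd_card_pPrimeCore 2 G)
      (ih _ (H1.card_quotient_lt hO) ?_ ?_)
    · intro P hP s hs' u hu e
      obtain ⟨Q, hQ⟩ := H1.exists_isSylowIn 2 (P.comap (QuotientGroup.mk' O))
      have hQm : Q.map (QuotientGroup.mk' O) = P := by
        have := hQ.map (QuotientGroup.mk' O)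
        rw [map_comap_eq_self_of_surjective hs] at this
        exact this.eq_of_le this.le le_rfl hP
      rw [← hQm] at hs' hu
      obtain ⟨s, hsQ, rfl⟩ := hs'
      obtain ⟨u, huQ, rfl⟩ := hu
      rw [← map_mul, hR Q hQ.isPGroup s hsQ u huQ, map_one]
      have h1 : u * s * u⁻¹ * s ∈ Q ⊓ O := mem_inf.2 ⟨mul_mem (mul_mem (mul_mem huQ hsQ) (inv_mem huQ)) hsQ, by
        rw [← QuotientGroup.eq_one_iff, ← QuotientGroup.mk'_apply]
        simp only [map_mul, map_inv, e, inv_mul_cancel]⟩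
      rw [H1.inf_pPrimeCore_eq_bot hQ.isPGroup, mem_bot] at h1
      exact mul_eq_one_iff_eq_inv.1 h1
    · intro t ht g
      obtain ⟨t0, rfl⟩ := hs t
      obtain ⟨g, rfl⟩ := hs g
      obtain ⟨t, -, ⟨k, hk⟩, e⟩ := exists_pElt_map_eq (p := 2) (QuotientGroup.mk' O) (g := t0) ⟨1, ht⟩
      rw [← e] at ht ⊢
      have h1 : t ^ 2 ∈ zpowers t ⊓ O := mem_inf.2 ⟨pow_mem (mem_zpowers t) 2, by
        rw [← QuotientGroup.eq_one_iff, ← QuotientGroup.mk'_apply, map_pow]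
        exact orderOf_dvd_iff_pow_eq_one.1 ht.dvd⟩
      rw [H1.inf_pPrimeCore_eq_bot (isPGroup_zpowers_of_orderOf hk), mem_bot] at h1
      have h2 : orderOf t = 2 := orderOf_eq_prime h1 (fun e => by rw [e, map_one, orderOf_one] at ht; omega)
      have h3 := (QuotientGroup.eq_one_iff _).2 (hI t h2 g)
      rw [← QuotientGroup.mk'_apply] at h3
      simp only [map_mul, map_inv] at h3
      rw [h3]
      exact one_mem _
  have hcen : ∀ z : G, z * z = 1 → ∀ g, g * z = z * g := by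
    intro z hz g
    by_cases h1 : z = 1
    · simp [h1]
    have := hI z (orderOf_eq_prime (by rwa [pow_two]) h1) g
    rw [hO, mem_bot, mul_inv_eq_one, mul_inv_eq_iff_eq_mul] at this
    exact this.symm
  let Ω : Subgroup G :=
    { carrier := {z | z * z = 1}
      mul_mem' := fun {a b} ha hb => by
        change a * b * (a * b) = 1
        calc a * b * (a * b) = a * (b * a) * b := by group
          _ = a * a * (b * b) := by rw [hcen a ha b]; group
          _ = 1 := by rw [ha, hb, mul_one]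
      one_mem' := mul_one 1
      inv_mem' := fun {a} ha => by
        change a⁻¹ * a⁻¹ = 1
        rw [← mul_inv_rev, ha, inv_one] }
  have hΩ : Ω ≤ center G := fun z hz => mem_center_iff.2 (hcen z hz)
  haveI : Ω.Normal := ⟨fun n hn g => by rwa [hcen n hn g, mul_inv_cancel_right]⟩
  by_cases hb : Ω = ⊥
  · apply H3.hasNormalPComplement_of_not_dvd
    intro hd
    obtain ⟨t, ht⟩ := exists_prime_orderOf_dvd_card' 2 hd
    have : t ∈ Ω := by change t * t = 1; rw [← pow_two, ← ht, pow_orderOf_eq_one]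
    rw [hb, mem_bot] at this
    rw [this, orderOf_one] at ht
    omega
  have hΩp : IsPGroup 2 Ω := fun z => ⟨1, Subtype.ext (by rw [pow_one, Subgroup.coe_pow, pow_two]; exact z.2)⟩
  have hs := QuotientGroup.mk'_surjective Ω
  have hcom : ∀ P : Subgroup (G ⧸ Ω), IsPGroup 2 P → IsPGroup 2 (P.comap (QuotientGroup.mk' Ω)) :=
    fun P hP => hP.comap_of_ker_isPGroup _ (by rwa [QuotientGroup.ker_mk'])
  have hmk : ∀ x : G, QuotientGroup.mk' Ω x = 1 ↔ x * x = 1 := fun x => QuotientGroup.eq_one_iff x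
  refine H3.hasNormalPComplement_of_quotient_of_le_center Ω hΩ (ih _ (H1.card_quotient_lt hb) ?_ ?_)
  · intro P hP s hs' u hu e
    obtain ⟨s, rfl⟩ := hs s
    obtain ⟨u, rfl⟩ := hs u
    rw [← map_mul, hmk]
    refine hR _ (hcom P hP) (s * s) (mul_mem hs' hs') u hu ?_
    have h1 : u * s * u⁻¹ * s ∈ Ω := by
      rw [← QuotientGroup.eq_one_iff, ← QuotientGroup.mk'_apply]
      simp only [map_mul, map_inv, e, inv_mul_cancel]
    have h2 : u * s * u⁻¹ * s * (u * s * u⁻¹ * s) = 1 := h1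
    calc u * (s * s) * u⁻¹ = (u * s * u⁻¹ * s) * (s⁻¹ * (u * s * u⁻¹ * s)) * s⁻¹ := by group
      _ = (u * s * u⁻¹ * s) * ((u * s * u⁻¹ * s) * s⁻¹) * s⁻¹ := by rw [hcen _ h1 s⁻¹]
      _ = (u * s * u⁻¹ * s * (u * s * u⁻¹ * s)) * (s * s)⁻¹ := by group
      _ = _ := by rw [h2, one_mul]
  · intro t ht
    refine H6.zstar ht fun g hc => ?_
    obtain ⟨s, rfl⟩ := hs t
    obtain ⟨g, rfl⟩ := hs g
    have hss : s * s * (s * s) = 1 := by rw [← hmk, map_mul, ← pow_two, ← ht, pow_orderOf_eq_one]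
    set u := g * s * g⁻¹ with hu
    have hfu : QuotientGroup.mk' Ω g * QuotientGroup.mk' Ω s * (QuotientGroup.mk' Ω g)⁻¹ = QuotientGroup.mk' Ω u := by
      simp only [hu, map_mul, map_inv]
    rw [hfu] at hc ⊢
    have huu : u * u = s * s := by
      calc u * u = g * (s * s) * g⁻¹ := by rw [hu]; group
        _ = _ := by rw [hcen _ hss g, mul_inv_cancel_right]
    have hc' : s * u * s⁻¹ * u⁻¹ ∈ Ω := by
      rw [← QuotientGroup.eq_one_iff, ← QuotientGroup.mk'_apply, map_mul, map_mul, map_mul, hc.eq, map_inv, map_inv]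
      group
    set c := s * u * s⁻¹ * u⁻¹ with hcdef
    have hcc : c * c = 1 := hc'
    have hP : IsPGroup 2 (zpowers (QuotientGroup.mk' Ω s) ⊔ zpowers (QuotientGroup.mk' Ω u) : Subgroup (G ⧸ Ω)) := by
      refine IsPGroup.to_sup_of_normal_right' (isPGroup_zpowers_of_orderOf (k := 1) ht)
        (isPGroup_zpowers_of_orderOf (k := 1) (by
          rw [← hfu, pow_one, ← ht]; exact (MulAut.conj (QuotientGroup.mk' Ω g)).orderOf_eq (QuotientGroup.mk' Ω s))) ?_
      refine le_trans ?_ (centralizer_le_normalizer _)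
      rw [zpowers_le, mem_centralizer_iff]
      rintro _ ⟨i, rfl⟩
      exact (hc.zpow_right i).eq.symm
    have h1 := hR _ (hcom _ hP) (s * u) (mul_mem (mem_sup_left (mem_zpowers _)) (mem_sup_right (mem_zpowers _))) s
      (mem_sup_left (mem_zpowers _)) (by
      rw [eq_inv_iff_mul_eq_one]
      have e1 : s * u = c * (u * s) := by rw [hcdef]; group
      calc s * (s * u) * s⁻¹ * (s * u) = s * (s * u) * u := by group
        _ = s * s * (u * u) := by group
        _ = 1 := by rw [huu, hss])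
    rw [← hmk, map_mul, mul_eq_one_iff_eq_inv'] at h1
    rw [h1, inv_eq_iff_mul_eq_one, ← pow_two, ← ht, pow_orderOf_eq_one]

end Cfsg.Agent.H26
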