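import Cfsg.Agent.H26.SW5
import Cfsg.Agent.S2970
import Cfsg.Agent.Ov.E1

/-!
# The index of the involution centralizer in the semidihedral case
-/

set_option linter.unusedSectionVars false

namespace Cfsg.Agent.H26.SW

open Cfsg Cfsg.Agent.H4 Cfsg.Agent.H6 Subgroup
open Cfsg.Agent.H11 (MC hh qq IsSylIn cj)
open scoped MatrixGroups

namespace PI

theorem cpl {H : Type*} [Group H] [Finite H] (hy : Cy H) {r : ℕ} (hr : r.Prime) (r2 : r ≠ 2)
    {y : H} (yc : ∀ n, n * y = y * n) (oy : orderOf y = r) :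
    ∃ K : Subgroup H, K.Normal ∧ ¬ r ∣ Nat.card K ∧ ∀ x, (orderOf x).Coprime r → x ∈ K := by
  haveI := Fact.mk hr
  obtain ⟨P, K, hK, hc⟩ := (S2970.result (p := r) y ⟨1, by rw [oy, pow_one]⟩
    (fun g _ => by rw [yc, mul_inv_cancel_right])).2
    (by rintro rfl; rw [orderOf_one] at oy; exact hr.one_lt.ne oy)
    (fun P => hy r hr r2 P P.isPGroup')
  refine ⟨K, hK, by rw [← hc.index_eq_card]; exact P.not_dvd_index, fun x hx => ?_⟩
  rw [← QuotientGroup.eq_one_iff, ← orderOf_eq_one_iff]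
  have h1 : orderOf (x : H ⧸ K) ∣ orderOf x := orderOf_map_dvd (QuotientGroup.mk' K) x
  have h2 : orderOf (x : H ⧸ K) ∣ K.index := orderOf_dvd_natCard _
  obtain ⟨n, hn⟩ := P.isPGroup'.exists_card_eq
  rw [hc.symm.index_eq_card, hn] at h2
  exact Nat.eq_one_of_dvd_coprimes (Nat.Coprime.pow_right n hx) h1 h2

variable {G : Type*} [Group G] [Fintype G]

theorem fr (hy : Cy G) (N : Subgroup G) {r q : ℕ} (hr : r.Prime) (r2 : r ≠ 2) [hq : Fact q.Prime]
    (hne : q ≠ r) {y : G} (yN : y ∈ N) (yc : ∀ n ∈ N, n * y = y * n) (oy : orderOf y = r)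
    (hN : ¬ r ∣ N.index) (Q : Sylow q N) : ∃ g : N, g ∈ normalizer ((Q : Subgroup N) : Set N) ∧
      ∃ n, orderOf g = r ^ n ∧ ¬ r ^ (n + 1) ∣ Nat.card G := by
  haveI := Fact.mk hr
  obtain ⟨K, hK, k1, k2⟩ := cpl (hy.sub N) hr r2 (y := ⟨y, yN⟩)
    (fun n => Subtype.ext (yc n n.2)) (by rw [orderOf_mk, oy])
  have hQ : (Q : Subgroup N) ≤ K := fun x hx => by
    obtain ⟨j, hj⟩ := (IsPGroup.iff_orderOf.1 Q.isPGroup') ⟨x, hx⟩
    rw [orderOf_mk] at hj
    exact k2 x (hj ▸ Nat.Coprime.pow_left j ((Nat.coprime_primes hq.out hr).2 hne))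
  have hF := Q.normalizer_sup_eq_top' hQ
  set M := normalizer ((Q : Subgroup N) : Set N) with hM
  have hi : ¬ r ∣ M.index := by
    have e1 := relIndex_mul_index (inf_le_left : M ⊓ K ≤ M)
    have e2 := relIndex_mul_index (inf_le_right : M ⊓ K ≤ K)
    have e3 := relIndex_sup_right M K
    rw [inf_relIndex_left, ← e3] at e1
    rw [inf_relIndex_right] at e2
    have e4 : (M ⊔ K : Subgroup N) = ⊤ := hF
    rw [e4, relIndex_top_right, ← e2, mul_comm] at e1
    rw [Nat.eq_of_mul_eq_mul_right (Nat.pos_of_ne_zero index_ne_zero_of_finite) e1]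
    exact fun e => k1 (e.trans (relIndex_dvd_card M K))
  obtain ⟨R⟩ : Nonempty (Sylow r M) := inferInstance
  haveI := ((hy.sub N).sub M) r hr r2 R R.isPGroup'
  obtain ⟨g, hg⟩ := IsCyclic.exists_ofOrder_eq_natCard (α := (R : Subgroup M))
  obtain ⟨n, hn⟩ := R.isPGroup'.exists_card_eq
  refine ⟨g.1.1, g.1.2, n, by rw [orderOf_coe, orderOf_coe, hg, hn], fun e => ?_⟩
  rw [← N.card_mul_index, ← M.card_mul_index, ← (R : Subgroup M).card_mul_index, hn, pow_succ,
    mul_assoc, mul_assoc] at e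
  have e2 := Nat.dvd_of_mul_dvd_mul_left (pow_pos hr.pos n) e
  rcases (Nat.Prime.dvd_mul hr).1 e2 with e | e
  · exact R.not_dvd_index e
  · rcases (Nat.Prime.dvd_mul hr).1 e with e | e
    · exact hi e
    · exact hN e

theorem cenI (hy : Cy G) {r : ℕ} (hr : r.Prime) (r2 : r ≠ 2) {y : G} (oy : orderOf y = r) :
    ¬ r ∣ (centralizer ({y} : Set G)).index := by
  haveI := Fact.mk hr
  obtain ⟨R, hR⟩ := (IsPGroup.of_card (G := zpowers y) (p := r) (n := 1)
    (by rw [Nat.card_zpowers, oy, pow_one])).exists_le_sylow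
  haveI := hy r hr r2 R R.isPGroup'
  have : (R : Subgroup G) ≤ centralizer {y} := fun x hx => by
    rw [mem_centralizer_singleton_iff]
    exact congrArg Subtype.val ((IsCyclic.commGroup (α := (R : Subgroup G))).mul_comm ⟨x, hx⟩
      ⟨y, hR (mem_zpowers y)⟩)
  exact fun e => R.not_dvd_index (e.trans (index_dvd_of_le this))

theorem cyc {A : Type*} [Group A] [Finite A] [IsCyclic A] {a b : A} (hb : b ^ orderOf a = 1) :
    b ∈ zpowers a := by
  classical
  letI := Fintype.ofFinite A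
  have h1 := IsCyclic.card_pow_eq_one_le (α := A) (orderOf_pos a)
  have h2 : (Finset.univ.filter (· ∈ zpowers a)).card = orderOf a := by
    rw [← Nat.card_zpowers, Nat.card_eq_fintype_card, Fintype.card_subtype]
  have h3 : Finset.univ.filter (· ∈ zpowers a) ⊆ Finset.univ.filter (· ^ orderOf a = 1) := by
    intro x hx
    obtain ⟨m, rfl⟩ := mem_zpowers_iff.1 (Finset.mem_filter.1 hx).2
    refine Finset.mem_filter.2 ⟨Finset.mem_univ _, ?_⟩
    rw [← zpow_natCast, ← zpow_mul, mul_comm, zpow_mul, zpow_natCast, pow_orderOf_eq_one, one_zpow]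
  have h4 := Finset.eq_of_subset_of_card_le h3 (by rw [h2]; exact h1)
  have h5 : b ∈ Finset.univ.filter (· ^ orderOf a = 1) := Finset.mem_filter.2 ⟨Finset.mem_univ _, hb⟩
  rw [← h4] at h5
  exact (Finset.mem_filter.1 h5).2

theorem act {w c n : G} (hc : c ∈ normalizer (zpowers w : Set G))
    (hn : n ∈ normalizer (zpowers w : Set G)) :
    c * n * c⁻¹ * w * (c * n * c⁻¹)⁻¹ = n * w * n⁻¹ := by
  obtain ⟨i, hi⟩ := mem_zpowers_iff.1 ((mem_normalizer_iff.1 hc w).1 (mem_zpowers w))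
  obtain ⟨j, hj⟩ := mem_zpowers_iff.1
    ((mem_normalizer_iff.1 (mul_mem hn (inv_mem hc)) w).1 (mem_zpowers w))
  calc _ = c * (n * c⁻¹ * w * (n * c⁻¹)⁻¹) * c⁻¹ := by group
    _ = (w ^ i) ^ j := by rw [← hj, hi, conj_zpow]
    _ = (w ^ j) ^ i := by rw [← zpow_mul, mul_comm, zpow_mul]
    _ = n * c⁻¹ * (c * w * c⁻¹) * (n * c⁻¹)⁻¹ := by rw [← hi, hj, conj_zpow]
    _ = _ := by group

theorem pgl3 {a b : PGL(2, ZMod 3)} (a3 : a ^ 3 = 1) (a1 : a ≠ 1) (b2 : b ^ 2 = 1) (b1 : b ≠ 1)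
    (hc : a * b = b * a) : False := by
  classical
  have h4 : Nat.card (H12.P1 (ZMod 3)) = 4 := by rw [H12.card_P1, Nat.card_zmod]
  haveI : Finite (H12.P1 (ZMod 3)) := Nat.finite_of_card_ne_zero (by omega)
  letI := Fintype.ofFinite (H12.P1 (ZMod 3))
  rw [Nat.card_eq_fintype_card, ← Finset.card_univ] at h4
  have m3 := Ov.PE.modp Nat.prime_three a3 (Finset.univ : Finset (H12.P1 (ZMod 3))) (by simp)
  have m2 := Ov.PE.modp Nat.prime_two b2 (Finset.univ : Finset (H12.P1 (ZMod 3))) (by simp)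
  rw [h4] at m3 m2
  obtain ⟨x, hx⟩ : (Ov.F (Finset.univ : Finset (H12.P1 (ZMod 3))) a).Nonempty :=
    Finset.card_pos.1 (by omega)
  have ax := (Ov.mem_F.1 hx).2
  have hu := (H12.mem_unip_iff 3).2 ⟨ax, a3⟩
  have bx : b • x = x := H12.eq_of_mem_unip_of_smul_eq hu a1 (by rw [← mul_smul, hc, mul_smul, ax])
  have p1 := Finset.card_pos.2 ⟨x, Ov.mem_F.2 ⟨Finset.mem_univ x, bx⟩⟩
  obtain ⟨y, y1, y2⟩ := Finset.exists_mem_ne
    (s := Ov.F (Finset.univ : Finset (H12.P1 (ZMod 3))) b) (by omega) x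
  have by' := (Ov.mem_F.1 y1).2
  refine b1 (H12.pgl_eq_one_of_fix (z := a • y) y2.symm (fun e => y2 ?_) (fun e => y2 ?_) bx by'
    (by rw [← mul_smul, ← hc, mul_smul, by']))
  · exact smul_left_cancel a (e.symm.trans ax.symm)
  · exact H12.eq_of_mem_unip_of_smul_eq hu a1 e.symm

theorem intoP (P : Sylow 2 G) {A : Subgroup G} (hA : IsPGroup 2 A) :
    ∃ φ : G ≃* G, ∀ a ∈ A, φ a ∈ (P : Subgroup G) := by
  obtain ⟨Q, hQ⟩ := hA.exists_le_sylow
  obtain ⟨c, rfl⟩ := MulAction.exists_smul_eq G Q P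
  exact ⟨MulAut.conj c, fun a ha => smul_mem_pointwise_smul a (MulAut.conj c) _ (hQ ha)⟩

variable {P : Sylow 2 G} {k : ℕ} {X Y : ZMod (2 ^ k) → G}
  (h : MC (P : Subgroup G) k (hh k) 0 X Y)
include h

theorem t2 : X (hh k) * X (hh k) = 1 := h.X_sq_eq_one.2 (Or.inr rfl)

theorem t1 : X (hh k) ≠ 1 := fun e => by
  have := h.orderOf_z; rw [e, orderOf_one] at this; omega

theorem invX {a : ZMod (2 ^ k)} (h1 : X a * X a = 1) (h2 : X a ≠ 1) : X a = X (hh k) := by
  rcases h.X_sq_eq_one.1 h1 with e | e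
  · exact absurd (h.X_eq_one.2 e) h2
  · rw [e]

theorem sqt {s : G} (hs : s ∈ (P : Subgroup G)) (h1 : s * s ≠ 1) (h2 : s * s * (s * s) = 1) :
    s * s = X (hh k) := by
  obtain ⟨a, rfl | rfl⟩ := (h.mem s).1 hs
  · rw [h.XX] at h1 h2 ⊢; exact invX h h2 h1
  · rw [h.Y_sq] at h1 h2 ⊢; exact invX h h2 h1

theorem pure {A : Subgroup G} (hA : IsPGroup 2 A) {g : G} (hg : ∀ a ∈ A, g * a * g⁻¹ ∈ A)
    (n1 : ∀ v, v * v = 1 → v ≠ 1 → g * v * g⁻¹ ≠ v)
    (n2 : ∀ v, v * v = 1 → v ≠ 1 → g * (g * v * g⁻¹) * g⁻¹ ≠ v) {u : G} (uA : u ∈ A)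
    (u2 : u * u = 1) (u1 : u ≠ 1) : u * (g * u * g⁻¹) = g * (g * u * g⁻¹) * g⁻¹ ∧
      g * (g * (g * u * g⁻¹) * g⁻¹) * g⁻¹ = u ∧
      ∀ a ∈ A, a = 1 ∨ a = u ∨ a = g * u * g⁻¹ ∨ a = g * (g * u * g⁻¹) * g⁻¹ := by
  classical
  obtain ⟨φ, hφ⟩ := intoP P hA
  have cj2 : ∀ v : G, v * v = 1 → g * v * g⁻¹ * (g * v * g⁻¹) = 1 := fun v e => by
    rw [conj_mul, e]; group
  have cj1 : ∀ v : G, v ≠ 1 → g * v * g⁻¹ ≠ 1 := fun v e e' => e (conj_eq_one_iff.1 e')
  have sq : ∀ a ∈ A, a * a = 1 := by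
    intro a ha
    by_contra hn
    have hn' : φ a * φ a ≠ 1 := fun e => hn (φ.injective (by rw [map_mul, e, map_one]))
    obtain ⟨w, wA, hw⟩ : ∃ w ∈ A, φ w * φ w = X (hh k) := by
      obtain ⟨b, e | e⟩ := (h.mem _).1 (hφ a ha)
      · obtain ⟨m, hm⟩ := mem_zpowers_iff.1 (z_mem h (e ▸ h.X_mem_zpowers_one b) hn')
        exact ⟨a ^ m, zpow_mem ha m, by rw [map_zpow, hm, zz h]⟩
      · refine ⟨a, ha, sqt h (hφ a ha) hn' ?_⟩
        rw [e, h.Y_sq, h.X_sq_eq_one]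
        exact h.Y_sq_cases b
    have w2 : w * w * (w * w) = 1 := φ.injective (by
      rw [map_mul, map_mul, hw, t2 h, map_one])
    have w1 : w * w ≠ 1 := fun e => t1 h (by rw [← hw, ← map_mul, e, map_one])
    have e := sqt h (hφ _ (hg w wA))
      (by rw [← map_mul, conj_mul, map_ne_one_iff _ φ.injective]; exact cj1 _ w1)
      (by rw [← map_mul, ← map_mul, conj_mul, cj2 _ w2, map_one])
    rw [← hw, ← map_mul, ← map_mul, conj_mul] at e
    exact n1 _ w2 w1 (φ.injective e)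
  have cm : ∀ a ∈ A, ∀ b ∈ A, a * b = b * a := fun a ha b hb => by
    have e1 := sq _ (mul_mem ha hb)
    calc a * b = a * (a * b * (a * b)) * b := by rw [e1, mul_one]
      _ = a * a * (b * a) * (b * b) := by group
      _ = b * a := by rw [sq a ha, sq b hb, one_mul, mul_one]
  set v := g * u * g⁻¹ with hv
  set w := g * v * g⁻¹ with hw
  have vA : v ∈ A := hg u uA
  have wA : w ∈ A := hg v vA
  have v1 : v ≠ 1 := cj1 u u1
  have w1 : w ≠ 1 := cj1 v v1
  have vu : v ≠ u := n1 u u2 u1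
  have wu : w ≠ u := n2 u u2 u1
  have wv : w ≠ v := n1 v (sq v vA) v1
  obtain ⟨x, xA, b, hb⟩ : ∃ x ∈ A, ∃ b, φ x = Y b := by
    obtain ⟨b, e | e⟩ := (h.mem _).1 (hφ u uA)
    · obtain ⟨c, e' | e'⟩ := (h.mem _).1 (hφ v vA)
      · exfalso
        apply vu
        apply φ.injective
        rw [e, e', invX h (a := b) (by rw [← e, ← map_mul, u2, map_one])
          (by rw [← e, map_ne_one_iff _ φ.injective]; exact u1),
          invX h (a := c) (by rw [← e', ← map_mul, sq v vA, map_one])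
          (by rw [← e', map_ne_one_iff _ φ.injective]; exact v1)]
      · exact ⟨v, vA, c, e'⟩
    · exact ⟨u, uA, b, e⟩
  let s : Finset G := {1, X (hh k), Y b, Y (b + hh k)}
  have hs : ∀ a ∈ A, φ a ∈ s := fun a ha => by
    have := h.mem_four.1 ((h.commute_Y_iff (a := b) (hφ a ha)).1
      (by rw [← hb, ← map_mul, ← map_mul, cm a ha x xA]))
    simpa [s] using this
  have c4 : ({1, u, v, w} : Finset G).card = 4 := by
    rw [Finset.card_insert_of_notMem, Finset.card_insert_of_notMem, Finset.card_pair wv.symm]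
    · simp [vu.symm, wu.symm]
    · simp [u1.symm, v1.symm, w1.symm]
  have e4 : ({1, u, v, w} : Finset G).image φ = s := by
    refine Finset.eq_of_subset_of_card_le (fun y hy => ?_) ?_
    · obtain ⟨a, ha, rfl⟩ := Finset.mem_image.1 hy
      simp only [Finset.mem_insert, Finset.mem_singleton] at ha
      rcases ha with rfl | rfl | rfl | rfl
      exacts [hs _ (one_mem _), hs _ uA, hs _ vA, hs _ wA]
    · rw [Finset.card_image_of_injective _ φ.injective, c4]
      exact Finset.card_le_four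
  have all : ∀ a ∈ A, a = 1 ∨ a = u ∨ a = v ∨ a = w := fun a ha => by
    have := hs a ha
    rw [← e4] at this
    obtain ⟨a', h1, h2⟩ := Finset.mem_image.1 this
    rw [← φ.injective h2]
    simpa using h1
  refine ⟨?_, ?_, all⟩
  · rcases all _ (mul_mem uA vA) with e | e | e | e
    · exact absurd (mul_left_cancel (e.trans u2.symm)) vu
    · exact absurd (mul_left_cancel (e.trans (mul_one u).symm)) v1
    · exact absurd (mul_right_cancel (e.trans (one_mul v).symm)) u1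
    · exact e
  · rcases all _ (hg w wA) with e | e | e | e
    · exact absurd e (cj1 w w1)
    · exact e
    · exact absurd e (n2 v (sq v vA) v1)
    · exact absurd e (n1 w (sq w wA) w1)

variable (hy : Cy G) (hone : ∀ a : G, orderOf a = 2 → IsConj (X (hh k)) a)
include hone

theorem ordC {v x : G} (v2 : v * v = 1) (v1 : v ≠ 1) (hx : x * v * x⁻¹ = v) :
    orderOf x ∣ Nat.card (centralizer ({X (hh k)} : Set G)) := by
  haveI : Fact (Nat.Prime 2) := ⟨Nat.prime_two⟩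
  obtain ⟨c, rfl⟩ := isConj_iff.1 (hone v (orderOf_eq_prime (by rw [pow_two, v2]) v1))
  have : c⁻¹ * x * c⁻¹⁻¹ ∈ centralizer ({X (hh k)} : Set G) := by
    rw [mem_centralizer_singleton_iff]
    calc _ = c⁻¹ * (x * (c * X (hh k) * c⁻¹) * x⁻¹) * x * c := by group
      _ = _ := by rw [hx]; group
  have e := Subgroup.orderOf_dvd_natCard _ this
  rwa [show c⁻¹ * x * c⁻¹⁻¹ = MulAut.conj c⁻¹ x from rfl, MulEquiv.orderOf_eq] at e

theorem nofix {r n j : ℕ} (hi : r ∣ (centralizer ({X (hh k)} : Set G)).index) {g : G}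
    (og : orderOf g = r ^ n) (hn : ¬ r ^ (n + 1) ∣ Nat.card G) (hj : r.Coprime j) {v : G}
    (v2 : v * v = 1) (v1 : v ≠ 1) : g ^ j * v * (g ^ j)⁻¹ ≠ v := fun e => by
  have := ordC h hone v2 v1 e
  rw [Nat.Coprime.orderOf_pow (og ▸ Nat.Coprime.pow_left n hj), og] at this
  exact hn (by rw [← card_mul_index (centralizer ({X (hh k)} : Set G)), pow_succ]
               exact mul_dvd_mul this hi)

include hy

theorem key {r : ℕ} (hr : r.Prime) (r2 : r ≠ 2)
    (hi : r ∣ (centralizer ({X (hh k)} : Set G)).index) (N : Subgroup G) {y : G} (yN : y ∈ N)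
    (yc : ∀ n ∈ N, n * y = y * n) (oy : orderOf y = r) (hN : ¬ r ∣ N.index) {u : G} (uN : u ∈ N)
    (u2 : u * u = 1) (u1 : u ≠ 1) : ∃ g ∈ N, ∃ v ∈ N, ∃ n, orderOf g = r ^ n ∧
      ¬ r ^ (n + 1) ∣ Nat.card G ∧ v * v = 1 ∧ v ≠ 1 ∧
      v * (g * v * g⁻¹) = g * (g * v * g⁻¹) * g⁻¹ ∧ g ^ 3 * v * (g ^ 3)⁻¹ = v ∧
      ∀ w ∈ N, ∀ j, w ^ 2 ^ j = 1 → ∃ c ∈ N, c * w * c⁻¹ = 1 ∨ c * w * c⁻¹ = v ∨
        c * w * c⁻¹ = g * v * g⁻¹ ∨ c * w * c⁻¹ = g * (g * v * g⁻¹) * g⁻¹ := by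
  haveI : Fact (Nat.Prime 2) := ⟨Nat.prime_two⟩
  obtain ⟨T⟩ : Nonempty (Sylow 2 N) := inferInstance
  obtain ⟨g, hg, n, og, hn⟩ := fr hy N hr r2 r2.symm yN yc oy hN T
  rw [← orderOf_coe] at og
  have cT : ∀ w ∈ N, ∀ j, w ^ 2 ^ j = 1 → ∃ c ∈ N,
      c * w * c⁻¹ ∈ (T : Subgroup N).map N.subtype := by
    intro w hw j hj
    have hp : IsPGroup 2 (zpowers (⟨w, hw⟩ : N)) := by
      obtain ⟨m, -, hm⟩ := (Nat.dvd_prime_pow Nat.prime_two).1 (orderOf_dvd_of_pow_eq_one hj)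
      exact IsPGroup.of_card (by rw [Nat.card_zpowers, orderOf_mk, hm])
    obtain ⟨Q, hQ⟩ := hp.exists_le_sylow
    obtain ⟨c, rfl⟩ := MulAction.exists_smul_eq N Q T
    exact ⟨c, c.2, _, smul_mem_pointwise_smul _ (MulAut.conj c) _ (hQ (mem_zpowers _)), rfl⟩
  obtain ⟨c, cN, hc⟩ := cT u uN 1 (by rw [pow_one, pow_two, u2])
  have v2 : c * u * c⁻¹ * (c * u * c⁻¹) = 1 := by rw [conj_mul, u2]; group
  have v1 : c * u * c⁻¹ ≠ 1 := fun e => u1 (conj_eq_one_iff.1 e)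
  obtain ⟨p1, p2, p3⟩ := pure h (T.isPGroup'.map N.subtype) (g := g)
    (by rintro _ ⟨a, ha, rfl⟩; exact ⟨g * a * g⁻¹, (mem_normalizer_iff.1 hg a).1 ha, rfl⟩)
    (fun v a b => by simpa using nofix h hone hi og hn (Nat.coprime_one_right r) a b)
    (fun v a b e => nofix h hone hi og hn ((Nat.coprime_primes hr Nat.prime_two).2 r2) a b
      (Eq.trans (by rw [pow_two]; group) e)) hc v2 v1
  refine ⟨g, g.2, _, mul_mem (mul_mem cN uN) (inv_mem cN), n, og, hn, v2, v1, p1, ?_,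
    fun w hw j hj => ?_⟩
  · exact Eq.trans (by rw [pow_three]; group) p2
  · obtain ⟨d, dN, hd⟩ := cT w hw j hj
    exact ⟨d, dN, p3 _ hd⟩

theorem sq1 (hi : 3 ∣ (centralizer ({X (hh k)} : Set G)).index) {y u : G} (oy : orderOf y = 3)
    (uy : u * y = y * u) (u2 : u * u = 1) (u1 : u ≠ 1) {w : G} (wy : w * y = y * w) {j : ℕ}
    (hj : w ^ 2 ^ j = 1) : w * w = 1 := by
  obtain ⟨g, -, v, -, n, -, -, v2, -, -, -, p⟩ := key h hy hone Nat.prime_three (by norm_num) hi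
    (centralizer {y}) (mem_centralizer_singleton_iff.2 rfl)
    (fun n hn => mem_centralizer_singleton_iff.1 hn) oy (cenI hy Nat.prime_three (by norm_num) oy)
    (mem_centralizer_singleton_iff.2 uy) u2 u1
  obtain ⟨c, -, e⟩ := p w (mem_centralizer_singleton_iff.2 wy) j hj
  have : c * w * c⁻¹ * (c * w * c⁻¹) = 1 := by
    rcases e with e | e | e | e <;> simp only [e, conj_mul, v2, mul_one, mul_inv_cancel]
  rwa [conj_mul, conj_eq_one_iff] at this

theorem noinv (hi : 3 ∣ (centralizer ({X (hh k)} : Set G)).index) {y u : G} (oy : orderOf y = 3)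
    (uy : u * y = y * u) (u2 : u * u = 1) (u1 : u ≠ 1) {w : G} (wy : w * y = y * w) {q : ℕ}
    (hq : q.Prime) (q2 : q ≠ 2) (ow : orderOf w = q) (hw : u * w * u⁻¹ = w⁻¹) : False := by
  haveI := Fact.mk hq
  haveI : Fact (Nat.Prime 2) := ⟨Nat.prime_two⟩
  have fin : u * w * u⁻¹ ≠ w := fun e => by
    have : w ^ 2 = 1 := by rw [pow_two, ← mul_inv_cancel w, ← hw, e]
    have := orderOf_dvd_of_pow_eq_one this
    rw [ow] at this
    exact q2 ((Nat.prime_dvd_prime_iff_eq hq Nat.prime_two).1 this)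
  set D := centralizer ({y} : Set G) with hD
  have yD : y ∈ D := mem_centralizer_singleton_iff.2 rfl
  have uD : u ∈ D := mem_centralizer_singleton_iff.2 uy
  have wD : w ∈ D := mem_centralizer_singleton_iff.2 wy
  have yc : ∀ n ∈ D, n * y = y * n := fun n hn => mem_centralizer_singleton_iff.1 hn
  by_cases q3 : q = 3
  · subst q3
    obtain ⟨K, hK, k1, k2⟩ := cpl (hy.sub D) Nat.prime_three q2 (y := ⟨y, yD⟩)
      (fun n => Subtype.ext (yc n n.2)) (by rw [orderOf_mk, oy])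
    have uK := k2 ⟨u, uD⟩ (by
      rw [orderOf_mk, orderOf_eq_prime (p := 2) (by rw [pow_two, u2]) u1]; norm_num)
    have m := mul_mem (hK.conj_mem _ uK ⟨w, wD⟩) (inv_mem uK)
    have e : (⟨w, wD⟩ : D) * ⟨u, uD⟩ * (⟨w, wD⟩ : D)⁻¹ * (⟨u, uD⟩ : D)⁻¹ = (⟨w, wD⟩ : D) ^ 2 := by
      apply Subtype.ext
      show w * u * w⁻¹ * u⁻¹ = w ^ 2
      calc _ = w * (u * w * u⁻¹)⁻¹ := by group
        _ = _ := by rw [hw, inv_inv, pow_two]
    rw [e] at m
    have := Subgroup.orderOf_dvd_natCard _ m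
    rw [Nat.Coprime.orderOf_pow (by rw [orderOf_mk, ow]; norm_num), orderOf_mk, ow] at this
    exact k1 this
  obtain ⟨Q, hQ⟩ := (IsPGroup.of_card (G := zpowers (⟨w, wD⟩ : D)) (p := q) (n := 1)
    (by rw [Nat.card_zpowers, orderOf_mk, ow, pow_one])).exists_le_sylow
  obtain ⟨g, hg, n, og, hn⟩ := fr hy D Nat.prime_three (by norm_num) q3 yD yc oy
    (cenI hy Nat.prime_three (by norm_num) oy) Q
  haveI := (hy.sub D) q hq q2 Q Q.isPGroup'
  have wQ := hQ (mem_zpowers _)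
  have mk : ∀ x : G, x * w * x⁻¹ ∈ zpowers w → x ∈ normalizer (zpowers w : Set G) := by
    intro x hx
    refine mem_normalizer_fintype ?_
    rintro _ ⟨m, rfl⟩
    simp only [← conj_zpow]
    exact zpow_mem hx m
  have gN : (g : G) ∈ normalizer (zpowers w : Set G) := by
    refine mk _ ?_
    obtain ⟨m, hm⟩ := mem_zpowers_iff.1 (cyc (A := (Q : Subgroup D)) (a := ⟨_, wQ⟩)
      (b := ⟨_, (mem_normalizer_iff.1 hg _).1 wQ⟩) (by
        apply Subtype.ext
        rw [orderOf_mk]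
        show (g * ⟨w, wD⟩ * g⁻¹) ^ _ = 1
        rw [conj_pow, pow_orderOf_eq_one]; group))
    exact ⟨m, congrArg (fun x : (Q : Subgroup D) => ((x : D) : G)) hm⟩
  have hN : ¬ 3 ∣ (D ⊓ normalizer (zpowers w : Set G)).index := fun e => hn (by
    have := Subgroup.orderOf_dvd_natCard (D ⊓ normalizer (zpowers w : Set G)) ⟨g.2, gN⟩
    rw [orderOf_coe, og] at this
    rw [← card_mul_index (D ⊓ normalizer (zpowers w : Set G)), pow_succ]
    exact mul_dvd_mul this e)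
  have uN := mk u (by rw [hw]; exact inv_mem (mem_zpowers w))
  obtain ⟨a, ha, v, hv, -, -, -, v2, -, p1, -, p⟩ := key h hy hone Nat.prime_three (by norm_num) hi
    (D ⊓ normalizer (zpowers w : Set G))
    ⟨yD, mk y (by rw [← wy, mul_inv_cancel_right]; exact mem_zpowers w)⟩
    (fun n hn => yc n hn.1) oy hN ⟨uD, uN⟩ u2 u1
  obtain ⟨c, hc, e⟩ := p u ⟨uD, uN⟩ 1 (by rw [pow_one, pow_two, u2])
  have a1 := act ha.2 hv.2
  have a2 := act ha.2 (mul_mem (mul_mem ha.2 hv.2) (inv_mem ha.2))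
  have a3 : v * w * v⁻¹ = w := by
    rw [← a1, ← a2, ← p1]
    calc _ = v * (a * v * a⁻¹ * w * (a * v * a⁻¹)⁻¹) * v⁻¹ := by group
      _ = v * v * w * (v * v)⁻¹ := by rw [a1]; group
      _ = w := by rw [v2]; group
  apply fin
  rw [← act hc.2 uN]
  rcases e with e | e | e | e <;> rw [e]
  · group
  · exact a3
  · rw [a1, a3]
  · rw [a2, a1, a3]

theorem cnt (hi : 3 ∣ (centralizer ({X (hh k)} : Set G)).index) {y u : G} (oy : orderOf y = 3)
    (uy : u * y = y * u) (u2 : u * u = 1) (u1 : u ≠ 1) : ∃ v w : G, u ≠ v ∧ u ≠ w ∧ v ≠ w ∧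
      v * u = u * v ∧ ∀ x, (x * y = y * x ∧ x * x = 1 ∧ x ≠ 1) ↔ (x = u ∨ x = v ∨ x = w) := by
  haveI : Fact (Nat.Prime 2) := ⟨Nat.prime_two⟩
  have cm : ∀ a b : G, a * y = y * a → b * y = y * b → a * a = 1 → b * b = 1 →
      a * b * (a * b) = 1 := by
    intro a b ay by' a2 b2
    by_cases a1 : a = 1
    · rw [a1, one_mul, b2]
    have xy : a * b * y = y * (a * b) := by rw [mul_assoc, by', ← mul_assoc, ay, mul_assoc]
    have inv : a * (a * b) * a⁻¹ = (a * b)⁻¹ := by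
      rw [← mul_assoc, a2, one_mul, mul_inv_rev, inv_eq_of_mul_eq_one_right b2]
    have e := Nat.eq_prime_pow_of_unique_prime_dvd (p := 2) (orderOf_pos (a * b)).ne'
      (fun {q} hq hd => by
        by_contra q2
        refine noinv h hy hone hi oy ay a2 a1 (w := (a * b) ^ (orderOf (a * b) / q))
          (Commute.pow_left xy _) hq q2 (orderOf_pow_orderOf_div (orderOf_pos _).ne' hd) ?_
        rw [← conj_pow, inv, inv_pow])
    exact sq1 h hy hone hi oy uy u2 u1 xy (by rw [← e, pow_orderOf_eq_one])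
  let E : Subgroup G :=
    { carrier := {x | x * y = y * x ∧ x * x = 1}
      one_mem' := by simp
      mul_mem' := fun {a b} ha hb =>
        ⟨by rw [mul_assoc, hb.1, ← mul_assoc, ha.1, mul_assoc], cm a b ha.1 hb.1 ha.2 hb.2⟩
      inv_mem' := fun {a} ha => by rw [inv_eq_of_mul_eq_one_right ha.2]; exact ha }
  have hE : IsPGroup 2 E := fun a => ⟨1, Subtype.ext (by rw [pow_one, pow_two]; exact a.2.2)⟩
  obtain ⟨g, hg, -, -, n, og, hn, -⟩ := key h hy hone Nat.prime_three (by norm_num) hi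
    (centralizer {y}) (mem_centralizer_singleton_iff.2 rfl)
    (fun n hn => mem_centralizer_singleton_iff.1 hn) oy (cenI hy Nat.prime_three (by norm_num) oy)
    (mem_centralizer_singleton_iff.2 uy) u2 u1
  have gy := mem_centralizer_singleton_iff.1 hg
  have cE : ∀ a ∈ E, g * a * g⁻¹ ∈ E := fun a ha =>
    ⟨mem_centralizer_singleton_iff.1 (mul_mem (mul_mem hg (mem_centralizer_singleton_iff.2 ha.1))
      (inv_mem hg)), by rw [conj_mul, ha.2]; group⟩
  have n1 : ∀ v, v * v = 1 → v ≠ 1 → g * v * g⁻¹ ≠ v := fun v a b => by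
    simpa using nofix h hone hi og hn (Nat.coprime_one_right 3) a b
  have n2 : ∀ v, v * v = 1 → v ≠ 1 → g * (g * v * g⁻¹) * g⁻¹ ≠ v := fun v a b e =>
    nofix h hone hi og hn (j := 2) (by norm_num) a b (Eq.trans (by rw [pow_two]; group) e)
  have uE : u ∈ E := ⟨uy, u2⟩
  obtain ⟨-, -, p3⟩ := pure h hE cE n1 n2 uE u2 u1
  have c1 : ∀ v : G, v ≠ 1 → g * v * g⁻¹ ≠ 1 := fun v e e' => e (conj_eq_one_iff.1 e')
  have vE := cE u uE
  refine ⟨_, _, (n1 u u2 u1).symm, (n2 u u2 u1).symm, (n1 _ vE.2 (c1 u u1)).symm, ?_,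
    fun x => ⟨fun hx => (p3 x ⟨hx.1, hx.2.1⟩).resolve_left hx.2.2, ?_⟩⟩
  · have e := (mul_mem uE vE).2
    rw [← inv_eq_of_mul_eq_one_right e, mul_inv_rev, inv_eq_of_mul_eq_one_right u2,
      inv_eq_of_mul_eq_one_right vE.2]
  · rintro (rfl | rfl | rfl)
    · exact ⟨uy, u2, u1⟩
    · exact ⟨vE.1, vE.2, c1 u u1⟩
    · exact ⟨(cE _ vE).1, (cE _ vE).2, c1 _ (c1 u u1)⟩

theorem start {r : ℕ} (hr : r.Prime) (hC : r ∣ Nat.card (centralizer ({X (hh k)} : Set G)))
    (hi : r ∣ (centralizer ({X (hh k)} : Set G)).index) : ∃ g v : G, ∃ n, orderOf g = r ^ n ∧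
      ¬ r ^ (n + 1) ∣ Nat.card G ∧ v * v = 1 ∧ v ≠ 1 ∧ g ^ 3 * v * (g ^ 3)⁻¹ = v := by
  haveI := Fact.mk hr
  have r2 : r ≠ 2 := by
    rintro rfl
    exact P.not_dvd_index (hi.trans (index_dvd_of_le h.le_cent_z))
  obtain ⟨y, oy⟩ := exists_prime_orderOf_dvd_card' r hC
  rw [← orderOf_coe] at oy
  obtain ⟨g, -, v, -, n, og, hn, v2, v1, -, p, -⟩ := key h hy hone hr r2 hi
    (centralizer {(y : G)}) (mem_centralizer_singleton_iff.2 rfl)
    (fun n hn => mem_centralizer_singleton_iff.1 hn) oy (cenI hy hr r2 oy)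
    (mem_centralizer_singleton_iff.2 (mem_centralizer_singleton_iff.1 y.2).symm) (t2 h) (t1 h)
  exact ⟨g, v, n, og, hn, v2, v1, p⟩

theorem nine (hC : 3 ∣ Nat.card (centralizer ({X (hh k)} : Set G)))
    (hi : 3 ∣ (centralizer ({X (hh k)} : Set G)).index) :
    (centralizer ({X (hh k)} : Set G)).index % 9 = 3 := by
  classical
  haveI : Fact (Nat.Prime 2) := ⟨Nat.prime_two⟩
  obtain ⟨g, u, n, og, hn, u2, u1, p⟩ := start h hy hone Nat.prime_three hC hi
  obtain ⟨m, rfl⟩ : ∃ m, n = m + 2 := by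
    refine ⟨n - 2, ?_⟩
    by_contra hlt
    apply hn
    rw [← card_mul_index (centralizer ({X (hh k)} : Set G))]
    exact (pow_dvd_pow 3 (show n + 1 ≤ 2 by omega)).trans (mul_dvd_mul hC hi)
  have oa : orderOf (g ^ 3 ^ m) = 9 := by
    rw [orderOf_pow_of_dvd (by positivity) (og ▸ pow_dvd_pow 3 (by omega)), og, pow_add,
      Nat.mul_div_cancel_left _ (by positivity)]
    rfl
  set a := g ^ 3 ^ m with ha
  have oy : orderOf (a ^ 3) = 3 := by
    rw [orderOf_pow_of_dvd (by norm_num) (by rw [oa]; norm_num), oa]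
  have uy : u * a ^ 3 = a ^ 3 * u := by
    rw [ha, ← pow_mul, mul_comm, pow_mul]
    exact Commute.pow_right (mul_inv_eq_iff_eq_mul.1 p).symm _
  obtain ⟨v, w, d1, d2, d3, -, hx⟩ := cnt h hy hone hi oy uy u2 u1
  let I : Finset G := Finset.univ.filter fun x => x * x = 1 ∧ x ≠ 1
  have cI : I.card = (centralizer ({X (hh k)} : Set G)).index := by
    rw [centralizer_eq_comap_stabilizer]
    refine Eq.trans ?_ (index_comap_of_surjective _ ConjAct.toConjAct.surjective).symm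
    rw [MulAction.index_stabilizer, ← Set.ncard_coe_finset]
    congr 1
    ext x
    simp only [I, Finset.coe_filter, Finset.mem_univ, true_and, Set.mem_setOf_eq,
      ConjAct.mem_orbit_conjAct]
    refine ⟨fun e => (hone x (orderOf_eq_prime (by rw [pow_two, e.1]) e.2)).symm, fun e => ?_⟩
    obtain ⟨c, rfl⟩ := isConj_iff.1 e.symm
    exact ⟨by rw [conj_mul, t2 h]; group, fun e => t1 h (conj_eq_one_iff.1 e)⟩
  let T : Finset G := I.filter fun x => ¬ x * a ^ 3 = a ^ 3 * x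
  have cT : T.card + 3 = I.card := by
    rw [← Finset.card_filter_add_card_filter_not (s := I) (fun x => x * a ^ 3 = a ^ 3 * x), add_comm]
    congr 1
    rw [eq_comm, Finset.card_eq_three]
    refine ⟨u, v, w, d1, d2, d3, ?_⟩
    ext x
    simp only [I, Finset.mem_filter, Finset.mem_univ, true_and, Finset.mem_insert,
      Finset.mem_singleton, ← hx x]
    tauto
  let S : Subgroup (ConjAct G) := zpowers (ConjAct.toConjAct a)
  have mem : ∀ s ∈ S, ∃ j < 9, s = ConjAct.toConjAct (a ^ j) := by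
    intro s hs
    rw [mem_zpowers_iff_mem_range_orderOf, MulEquiv.orderOf_eq, oa] at hs
    obtain ⟨j, j1, j2⟩ := Finset.mem_image.1 hs
    exact ⟨j, by simpa using j1, by rw [map_pow, j2]⟩
  have hb := Ov.PE.burn S T (fun s hs x hx => by
    obtain ⟨j, -, rfl⟩ := mem s hs
    simp only [T, I, Finset.mem_filter, Finset.mem_univ, true_and, ConjAct.toConjAct_smul] at hx ⊢
    refine ⟨⟨by rw [conj_mul, hx.1.1]; group, fun e => hx.1.2 (conj_eq_one_iff.1 e)⟩,
      fun e => hx.2 ?_⟩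
    calc x * a ^ 3 = (a ^ j)⁻¹ * (a ^ j * x * (a ^ j)⁻¹ * a ^ 3) * a ^ j := by group
      _ = _ := by rw [e]; group)
  rw [Finset.sum_eq_single (1 : S)] at hb
  · have e : Ov.F T ((1 : S) : ConjAct G) = T := by ext x; simp [Ov.mem_F]
    rw [e, Nat.card_zpowers, MulEquiv.orderOf_eq, oa] at hb
    omega
  · intro s _ s1
    rw [Finset.card_eq_zero, Finset.eq_empty_iff_forall_notMem]
    intro x hx
    obtain ⟨x1, x2⟩ := Ov.mem_F.1 hx
    obtain ⟨j, j9, e⟩ := mem s s.2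
    have j0 : j ≠ 0 := by rintro rfl; exact s1 (Subtype.ext (by rw [e]; simp))
    obtain ⟨i, hi'⟩ : ∃ i < 9, j * i % 9 = 3 := by
      have : ∀ j < 9, j ≠ 0 → ∃ i < 9, j * i % 9 = 3 := by decide
      exact this j j9 j0
    rw [e, ConjAct.toConjAct_smul, mul_inv_eq_iff_eq_mul] at x2
    refine (Finset.mem_filter.1 x1).2 ?_
    rw [← hi'.2, ← oa, pow_mod_orderOf, pow_mul]
    exact Commute.pow_right x2.symm _
  · simp

end PI

open PI

variable {G : Type*} [Group G] [Fintype G] {P : Sylow 2 G} {k : ℕ} {X Y : ZMod (2 ^ k) → G}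
  (h : MC (P : Subgroup G) k (hh k) 0 X Y) (hy : Cy G)
  (hone : ∀ a : G, orderOf a = 2 → IsConj (X (hh k)) a)
include h hy hone

theorem idx {r : ℕ} (hr : r.Prime) (hC : r ∣ Nat.card (centralizer ({X (hh k)} : Set G)))
    (hi : r ∣ (centralizer ({X (hh k)} : Set G)).index) :
    r = 3 ∧ ¬ 9 ∣ (centralizer ({X (hh k)} : Set G)).index := by
  have r3 : r = 3 := by
    by_contra r3
    obtain ⟨g, v, n, og, hn, v2, v1, p⟩ := start h hy hone hr hC hi
    exact nofix h hone hi og hn ((Nat.coprime_primes hr Nat.prime_three).2 r3) v2 v1 p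
  subst r3
  have := nine h hy hone hC hi
  exact ⟨rfl, by omega⟩

theorem idx3 {p : ℕ} [Fact p.Prime] {ρ : centralizer ({X (hh k)} : Set G) →* PGL(2, ZMod p)}
    {O : Subgroup (centralizer ({X (hh k)} : Set G))} (hr : RH (tC h) (zC h) (sC h) p ρ O)
    (hO : ∀ g ∈ O, g * zC h = zC h * g ∧ g * sC h = sC h * g)
    (h3 : 3 ∣ (centralizer ({X (hh k)} : Set G)).index)
    (hp : p = 3 ∨ (p = 5 ∧ (centralizer ({X (hh k)} : Set G)).index = 357)) : False := by
  haveI : Fact (Nat.Prime 2) := ⟨Nat.prime_two⟩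
  have hC : 3 ∣ Nat.card (centralizer ({X (hh k)} : Set G)) := by
    rw [hr.card]
    rcases hp with rfl | ⟨rfl, -⟩ <;> exact Dvd.dvd.mul_right (by norm_num) _
  rcases hp with rfl | ⟨-, e⟩
  swap
  · have := nine h hy hone hC h3
    omega
  obtain ⟨y, oy⟩ := exists_prime_orderOf_dvd_card' 3 hC
  have oy' : orderOf (y : G) = 3 := by rw [orderOf_coe, oy]
  have ty := (mem_centralizer_singleton_iff.1 y.2).symm
  obtain ⟨v, w, d1, -, -, c1, hx⟩ := cnt h hy hone h3 oy' ty (t2 h) (t1 h)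
  obtain ⟨vy, v2, v1⟩ := (hx v).2 (Or.inr (Or.inl rfl))
  have ev : ∀ g ∈ O, g * g = 1 → g = 1 := fun g hg e => by
    by_contra g1
    have := Subgroup.orderOf_dvd_natCard O hg
    rw [orderOf_eq_prime (p := 2) (by rw [pow_two, e]) g1] at this
    exact (Nat.not_even_iff_odd.2 hr.oddO) (even_iff_two_dvd.2 this)
  have tt : tC h * tC h = 1 := Subtype.ext (t2 h)
  have tc : ∀ g, g * tC h = tC h * g := mem_center_iff.1 (tC_center h)
  let v' : centralizer ({X (hh k)} : Set G) := ⟨v, mem_centralizer_singleton_iff.2 c1⟩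
  have v2' : v' * v' = 1 := Subtype.ext v2
  have y3 : y ^ 3 = 1 := oy ▸ pow_orderOf_eq_one y
  refine pgl3 (a := ρ y) (b := ρ v') (by rw [← map_pow, y3, map_one])
    (fun e => ?_) (by rw [pow_two, ← map_mul, v2', map_one]) (fun e => ?_)
    (by rw [← map_mul, ← map_mul]; exact congrArg ρ (Subtype.ext vy.symm))
  · rcases (hr.ker y).1 e with e | e
    · refine z_big h (sq1 h hy hone h3 oy' ty (t2 h) (t1 h)
        (congrArg Subtype.val (hO y e).1).symm (j := 2) ?_)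
      rw [show (2 : ℕ) ^ 2 = 2 + 2 from rfl, pow_add, pow_two, zz h, t2 h]
    · have e3 := pow_mem e 3
      rw [Commute.mul_pow (tc y).symm, y3, mul_one, pow_three, tt, mul_one] at e3
      exact t1 h (congrArg Subtype.val (ev _ e3 tt))
  · rcases (hr.ker v').1 e with e | e
    · exact v1 (congrArg Subtype.val (ev _ e v2'))
    · have := ev _ e (by rw [mul_assoc, ← mul_assoc v', tc v', mul_assoc, v2', mul_one, tt])
      refine d1 (mul_left_cancel (a := X (hh k)) ?_)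
      rw [t2 h]
      exact (congrArg Subtype.val this).symm

end Cfsg.Agent.H26.SW
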