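import Cfsg.Agent.H26.SW5
import Cfsg.Agent.GW.PMax
import Cfsg.Agent.GW.DG
import Cfsg.Agent.H28.PSLOut
import Cfsg.Agent.H9.PSolv
import Cfsg.Agent.H12.Transport
import Cfsg.Agent.S4145

/-!
# The projection onto `PGL(2, p)` when the central involution is central
-/

set_option linter.unusedSectionVars false

namespace Cfsg.Agent.H26.SW

open Cfsg Cfsg.Agent.H4 Cfsg.Agent.H6 Subgroup
open Cfsg.Agent.H11 (MC hh qq IsSylIn cj)
open scoped MatrixGroups

theorem Cy.card_le {Q : Type*} [Group Q] [Finite Q] (hy : Cy Q) {r : ℕ} (hr : r.Prime) (h2 : r ≠ 2)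
    (he : ∀ x : Q, x ^ r = 1) : Nat.card Q ≤ r := by
  have h1 := hy r hr h2 ⊤ fun x => ⟨1, Subtype.ext (by simpa using he x)⟩
  haveI : IsCyclic Q := isCyclic_of_surjective (⊤ : Subgroup Q).subtype fun x => ⟨⟨x, trivial⟩, rfl⟩
  rw [← IsCyclic.exponent_eq_card]
  exact Nat.le_of_dvd hr.pos (Monoid.exponent_dvd_of_forall_pow_eq_one he)

theorem not_Cy_A7 : ¬ Cy GW.A7 := fun hy => by
  let a : GW.A7 := ⟨Equiv.swap 0 1 * Equiv.swap 1 2, Equiv.Perm.mem_alternatingGroup.2 (by decide)⟩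
  let b : GW.A7 := GW.a7c
  have hab : Commute a b := Subtype.ext (by decide)
  let f : Multiplicative (ZMod 3 × ZMod 3) →* GW.A7 :=
    MonoidHom.mk' (fun x => a ^ x.toAdd.1.val * b ^ x.toAdd.2.val) (by decide)
  have hf : Function.Injective f := (injective_iff_map_eq_one f).2 (by decide)
  have := (hy.inj f hf).card_le Nat.prime_three (by decide) (by decide)
  simp at this

theorem Cy.psl {F : Type} [Field F] [Fintype F] (ho : Odd (Fintype.card F)) (hy : Cy PSL(2, F)) :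
    (Fintype.card F).Prime := by
  have h2 := GW.two_ne_zero_of_odd ho
  obtain ⟨p, hp⟩ := CharP.exists F
  obtain ⟨n, pp, hn⟩ := FiniteField.card F p
  let f : Multiplicative F →* PSL(2, F) := (QuotientGroup.mk' _).comp H12.upperHom
  have hf : Function.Injective f := (injective_iff_map_eq_one f).2 fun x hx => by
    rcases H12.psl2_mk_eq_one_iff.1 hx with e | e
    · exact H12.upper_injective (F := F) (e.trans H12.upper_zero.symm)
    · have := congrArg (fun g : SL(2, F) => g 0 0) e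
      simp [H12.upperHom] at this
      exact absurd (by linear_combination this) h2
  have p2 : p ≠ 2 := fun e => h2 (by subst e; exact CharP.cast_eq_zero F 2)
  have := (hy.inj f hf).card_le pp p2 fun x => by
    apply Multiplicative.toAdd.injective
    simp
  rw [Nat.card_eq_fintype_card, Fintype.card_multiplicative, hn] at this
  have h1 : (n : ℕ) ≤ 1 := (Nat.pow_le_pow_iff_right pp.one_lt).1 (by simpa using this)
  have h3 : (n : ℕ) = 1 := le_antisymm h1 n.pos
  rw [hn, h3, pow_one]; exact pp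

theorem gam_top {F : Type} [Field F] [Fintype F] (hp : (Fintype.card F).Prime) : GW.Gam F = ⊤ := by
  haveI := Fact.mk hp
  let e := ZMod.ringEquivOfPrime F hp rfl
  refine eq_top_iff.2 fun α _ => ?_
  obtain ⟨g, σ, h⟩ := H28.aut_PSL_two α
  have : σ = 1 := by
    ext x
    obtain ⟨y, rfl⟩ := e.surjective x
    exact congrArg (fun φ : ZMod (Fintype.card F) →+* F => φ y)
      (Subsingleton.elim ((σ : F →+* F).comp e) e)
  exact ⟨g, by rw [h, this, map_one, mul_one]⟩

/-- recognition of `PGL(2, p)` -/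
theorem pgl_of {Q : Type*} [Group Q] [Finite Q] (hc : GW.CD (⊤ : Subgroup Q)) (hO : oddCore Q = ⊥)
    (hy : Cy Q) (h2 : ¬ IsPGroup 2 Q) {a b : Q} (ha : orderOf a = 2) (hb : orderOf b = 2)
    (hab : ¬ IsConj a b) : ∃ (p : ℕ) (_ : Fact p.Prime), p ≠ 2 ∧ Nonempty (Q ≃* PGL(2, ZMod p)) ∧
      (5 ≤ p → ¬ IsPSolvable p Q) := by
  rcases GW.cd_cases3 hc hO with h | ⟨F, _, _, φ, ho, hi, hl⟩ | ⟨⟨e⟩⟩
  · exact absurd h h2
  swap
  · exact absurd (hy.inj e.symm.toMonoidHom e.symm.injective) not_Cy_A7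
  obtain ⟨e⟩ := GW.nonempty_comap_Li hi hl
  have hp := Cy.psl ho ((hy.sub _).inj e.symm.toMonoidHom e.symm.injective)
  haveI := Fact.mk hp
  have hG := gam_top hp
  have hne : ¬ φ.range ≤ GW.Li F := fun hle => hab (by
    have ma : a ∈ (GW.Li F).comap φ := hle ⟨a, rfl⟩
    have mb : b ∈ (GW.Li F).comap φ := hle ⟨b, rfl⟩
    have := H12.psl2_isConj_invol (GW.two_ne_zero_of_odd ho) (x := e ⟨a, ma⟩) (y := e ⟨b, mb⟩)
      (by rw [e.orderOf_eq, orderOf_mk, ha]) (by rw [e.orderOf_eq, orderOf_mk, hb])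
    simpa using ((((GW.Li F).comap φ).subtype.comp e.symm.toMonoidHom).map_isConj this))
  have hi2 : (GW.Li F).index = 2 := by
    have h1 := GW.card_Gam ho
    have h3 := (GW.Li F).index_mul_card
    rw [hG, card_top, ← h3] at h1
    exact Nat.eq_of_mul_eq_mul_right Nat.card_pos h1
  have hs : Function.Surjective φ := fun α => by
    obtain ⟨x, hx, hx'⟩ := SetLike.not_le_iff_exists.1 hne
    by_cases h : α ∈ GW.Li F
    · exact hl h
    · exact (mul_mem_cancel_left hx).1 (hl ((mul_mem_iff_of_index_two hi2).2 (by simp [h, hx'])))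
  refine ⟨_, this, fun e => by simp [e] at ho; exact absurd ho (by decide),
    ⟨(MulEquiv.ofBijective φ ⟨hi, hs⟩).trans (topEquiv.symm.trans
    ((MulEquiv.subgroupCongr hG.symm).trans ((GW.gamEquiv F).symm.trans
      (H12.pglCongr _ (ZMod.ringEquivOfPrime F hp rfl).symm))))⟩, fun h5 hs => ?_⟩
  have h3 : 3 < Fintype.card F := by omega
  haveI := GW.psl_simple h3
  have hc := H12.card_PSL2 (F := F) rfl
  obtain ⟨m, hm⟩ := ho
  rw [show Nat.gcd 2 (Fintype.card F - 1) = 2 from Nat.gcd_eq_left ⟨m, by omega⟩] at hc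
  have cop : (Fintype.card F).Coprime 2 := (Nat.coprime_primes hp Nat.prime_two).2 (by omega)
  rcases H9.core_ne_bot_of_isPSolvable ((H9.isPSolvable_congr e).1 (H9.isPSolvable_subgroup hs _))
    with h | h
  · have h4 := (IsSimpleGroup.eq_bot_or_eq_top_of_normal _ inferInstance).resolve_left h
    have h6 : IsPGroup (Fintype.card F) PSL(2, F) := H1.pCore_eq_top_iff.1 h4
    haveI := h6.isNilpotent
    exact GW.psl_ncomm h3 ⟨⟨IsSimpleGroup.comm_iff_isSolvable.2 inferInstance⟩⟩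
  · have h4 := (IsSimpleGroup.eq_bot_or_eq_top_of_normal _ inferInstance).resolve_left h
    have h6 := H10.pPrimeCore_coprime (Fintype.card F) PSL(2, F)
    rw [h4, card_top] at h6
    have h7 : Fintype.card F ∣ Nat.card PSL(2, F) := cop.dvd_of_dvd_mul_left ⟨_, hc⟩
    exact hp.one_lt.ne' (Nat.Coprime.eq_one_of_dvd h6.symm h7)

variable {G : Type*} [Group G] [Fintype G] {P : Sylow 2 G} {k : ℕ} {X Y : ZMod (2 ^ k) → G}
  (h : MC (P : Subgroup G) k (hh k) 0 X Y)
include h

theorem rho (hc : X (hh k) ∈ center G) (hu : IsConj (X (qq k)) (Y 1)) (hy : Cy G) :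
    ∃ (p : ℕ) (_ : Fact p.Prime) (ρ : G →* PGL(2, ZMod p)) (O : Subgroup G),
      RH (X (hh k)) (X (qq k)) (Y 0) p ρ O := by
  set O := oddCore G with hO
  have oO : Odd (Nat.card O) := GW.odd_oddCore
  have PO : ∀ g ∈ (P : Subgroup G), g ∈ O → g = 1 := fun g hg hg' => by
    obtain ⟨j, hj⟩ := exists_orderOf_eq_of_mem Nat.prime_two P.isPGroup' hg
    have := (oO.of_dvd_nat (orderOf_dvd_natCard O hg'))
    rw [hj] at this
    rcases j with _ | j
    · exact orderOf_eq_one_iff.1 hj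
    · exact absurd this (by simp [Nat.odd_pow_iff])
  have tt : X (hh k) * X (hh k) = 1 := h.X_sq_eq_one.2 (Or.inr rfl)
  have t1 : X (hh k) ≠ 1 := fun e => by simpa [e] using h.orderOf_z
  let τ : G ⧸ O := (X (hh k) : G)
  have hτ : zpowers τ ≤ center (G ⧸ O) := zpowers_le.2 (mem_center_iff.2 fun g => by
    obtain ⟨g, rfl⟩ := QuotientGroup.mk_surjective g
    exact congrArg (QuotientGroup.mk' O) (mem_center_iff.1 hc g))
  haveI : (zpowers τ).Normal := ⟨fun n hn g => by
    rw [mem_center_iff.1 (hτ hn) g]; simpa using hn⟩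
  have τ2 : τ * τ = 1 := by rw [← QuotientGroup.mk_mul, tt, QuotientGroup.mk_one]
  have τo : orderOf τ = 2 := H11.orderOf_two_of
    (fun e => t1 (PO _ (h.X_mem _) ((QuotientGroup.eq_one_iff _).1 e))) τ2
  let f : G →* (G ⧸ O) ⧸ zpowers τ := (QuotientGroup.mk' _).comp (QuotientGroup.mk' O)
  have fs : Function.Surjective f :=
    (QuotientGroup.mk'_surjective _).comp (QuotientGroup.mk'_surjective O)
  have fk : ∀ g, f g = 1 ↔ g ∈ O ∨ X (hh k) * g ∈ O := fun g => by
    change (((g : G ⧸ O)) : (G ⧸ O) ⧸ zpowers τ) = 1 ↔ _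
    rw [QuotientGroup.eq_one_iff, H11.mem_zpowers_invol τ2, QuotientGroup.eq_one_iff,
      ← QuotientGroup.eq_one_iff (X (hh k) * g), QuotientGroup.mk_mul, ← τ2, mul_right_inj]
  have fP : ∀ g ∈ (P : Subgroup G), f g = 1 → g = 1 ∨ g = X (hh k) := fun g hg e =>
    ((fk g).1 e).imp (PO g hg) fun e' =>
      mul_left_cancel ((PO _ (mul_mem (h.X_mem _) hg) e').trans tt.symm)
  have ft : f (X (hh k)) = 1 := (fk _).2 (Or.inr (tt ▸ one_mem _))
  have ss : Y 0 * Y 0 = 1 := by rw [h.Y_sq, mul_zero, add_zero, h.X_zero]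
  have cd : GW.CD (⊤ : Subgroup ((G ⧸ O) ⧸ zpowers τ)) := by
    refine GW.cd_of_gen (H11.isSylIn_top (P.mapSurjective fs)) (a := f (X 1)) (s := f (Y 0)) ?_
      (by rw [← map_mul, ss, map_one]) ?_
    · rintro _ ⟨g, hg, rfl⟩
      have hx : ∀ a, f (X a) ∈ closure {f (X 1), f (Y 0)} := fun a => by
        obtain ⟨n, hn⟩ := h.X_mem_zpowers_one a
        rw [← hn, map_zpow]
        exact zpow_mem (subset_closure (by simp)) n
      obtain ⟨a, rfl | rfl⟩ := (h.mem g).1 hg
      · exact hx a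
      · rw [← zero_add a, ← h.YX, map_mul]
        exact mul_mem (subset_closure (by simp)) (hx a)
    · rw [← map_inv, ← map_mul, ← map_mul, h.YXY, mul_one, ← h.XX, map_mul, ft, mul_one, ← h.X_inv,
        map_inv]
  have oc : oddCore ((G ⧸ O) ⧸ zpowers τ) = ⊥ := GW.oddCore_of_central
    (H1.pPrimeCore_quotient_pPrimeCore 2) (QuotientGroup.mk'_surjective _)
    (by rw [QuotientGroup.ker_mk']; exact hτ)
  have n2 : ¬ IsPGroup 2 ((G ⧸ O) ⧸ zpowers τ) := fun h2 => by
    obtain ⟨g, hg⟩ := isConj_iff.1 hu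
    have : f g ∈ (P.mapSurjective fs : Subgroup _) := by
      rw [← (P.mapSurjective fs).is_maximal' (h2.to_subgroup ⊤) le_top]; trivial
    obtain ⟨s, hs, e⟩ := this
    have m := zpowers_le.2 (h.X_mem_zpowers_one _) (h.conj_X_mem (qq k) hs)
    have e2 : f ((s * X (qq k) * s⁻¹)⁻¹ * Y 1) = 1 := by
      rw [← hg]; simp [e, mul_assoc]
    refine h.Y_not_mem_zpowers 1 1 ((mul_mem_cancel_left (inv_mem m)).1 ?_)
    rcases fP _ (mul_mem (inv_mem (h.zpowers_le 1 m)) (h.Y_mem 1)) e2 with e | e <;> rw [e]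
    exacts [one_mem _, h.X_mem_zpowers_one _]
  have oz : orderOf (f (X (qq k))) = 2 := H11.orderOf_two_of (fun e => by
    rcases fP _ (h.X_mem _) e with e | e <;> exact z_big h (by rw [e]; simp [tt]))
    (by rw [← map_mul, zz h, ft])
  have os : orderOf (f (Y 0)) = 2 := H11.orderOf_two_of (fun e => by
    rcases fP _ (h.Y_mem _) e with e | e
    exacts [h.Y_ne_one _ e, h.Y_ne_X _ _ e]) (by rw [← map_mul, ss, map_one])
  have nc : ¬ IsConj (f (X (qq k))) (f (Y 0)) := fun hc' => by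
    obtain ⟨g, hg⟩ := isConj_iff.1 hc'
    obtain ⟨g, rfl⟩ := fs g
    have e : (Y 0 : G ⧸ O)⁻¹ * ((g * X (qq k) * g⁻¹ : G) : G ⧸ O) ∈ zpowers τ :=
      QuotientGroup.eq.1 (show f (Y 0) = f (g * X (qq k) * g⁻¹) by simpa using hg.symm)
    have e1 : ((g * X (qq k) * g⁻¹ : G) : G ⧸ O) * ((g * X (qq k) * g⁻¹ : G) : G ⧸ O) = τ := by
      rw [← QuotientGroup.mk_mul]
      congr 1
      calc _ = g * (X (qq k) * X (qq k)) * g⁻¹ := by group
        _ = _ := by rw [zz h, mem_center_iff.1 hc g]; group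
    have e2 : (Y 0 : G ⧸ O) * (Y 0 : G ⧸ O) = 1 := by
      rw [← QuotientGroup.mk_mul, ss, QuotientGroup.mk_one]
    generalize ((g * X (qq k) * g⁻¹ : G) : G ⧸ O) = w at e e1
    have : τ = 1 := by
      rcases (H11.mem_zpowers_invol τ2).1 e with e | e <;>
        rw [inv_mul_eq_iff_eq_mul] at e <;> rw [← e1, e]
      · simpa using e2
      · rw [mul_assoc, ← mul_assoc τ, ← mem_center_iff.1 (hτ (mem_zpowers τ)), mul_assoc, τ2,
          mul_one, e2]
    simp [this] at τo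
  obtain ⟨p, hp, p2, ⟨e⟩, hs⟩ := pgl_of cd oc (hy.surj f fs) n2 oz os nc
  have cQ : Nat.card ((G ⧸ O) ⧸ zpowers τ) = p * (p ^ 2 - 1) := by
    rw [Nat.card_congr e.toEquiv, H12.card_PGL2 (ZMod.card p)]
  have cI : O.index = p * (p ^ 2 - 1) * 2 := by
    have := card_eq_card_quotient_mul_card_subgroup (zpowers τ)
    rwa [cQ, Nat.card_zpowers, τo] at this
  refine ⟨p, hp, e.toMonoidHom.comp f, O, p2, e.surjective.comp fs, inferInstance, oO,
    fun g => by rw [← fk]; simp, fun c => nc (by simpa using e.symm.toMonoidHom.map_isConj c),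
    by rw [← O.index_mul_card, cI]; ring, fun h5 hd => hs h5 ?_⟩
  obtain ⟨R⟩ : Nonempty (Sylow p G) := inferInstance
  exact H9.isPSolvable_of_surjective f fs (S4145.result p R (hy p hp.out p2 R R.isPGroup') O hd
    (by rw [cI, mul_assoc]; exact dvd_mul_right _ _)).2

end Cfsg.Agent.H26.SW
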