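import Cfsg.Agent.H26.SW7
import Cfsg.Agent.H26.SWCen
import Cfsg.Agent.H26.SWRho
import Cfsg.Agent.H26.SWSt
import Cfsg.Agent.H26.SWIdx

/-!
# No simple group has semidihedral Sylow 2-subgroups and cyclic odd Sylow subgroups
-/

set_option linter.unusedSectionVars false

namespace Cfsg.Agent.H26.SW

open Cfsg Cfsg.Agent.H4 Cfsg.Agent.H6 Subgroup
open Cfsg.Agent.H11 (MC hh qq IsSylIn cj)

theorem sd_perfect {G : Type*} [Group G] [Fintype G] {P : Sylow 2 G} {k : ℕ}
    {X Y : ZMod (2 ^ k) → G} (h : MC (P : Subgroup G) k (hh k) 0 X Y) (hG : commutator G = ⊤)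
    (hy : Cy G) : False := by
  classical
  have hk := h.qd_three
  have no2 : ∀ K : Subgroup G, K.index ≠ 2 := fun K hK => by
    haveI := normal_of_index_eq_two hK
    haveI : Fact (Nat.card (G ⧸ K)).Prime := ⟨by rw [← index_eq_card, hK]; exact Nat.prime_two⟩
    haveI := isCyclic_of_prime_card (α := G ⧸ K) rfl
    letI := IsCyclic.commGroup (α := G ⧸ K)
    have := Abelianization.commutator_subset_ker (QuotientGroup.mk' K)
    rw [hG, QuotientGroup.ker_mk', top_le_iff] at this
    simp [this] at hK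
  have hu : IsConj (X (qq k)) (Y 1) := by
    by_contra hc
    obtain ⟨K, -, -, hK, -⟩ := h.qd_K_of_not_uv hc
    exact no2 K hK
  have hts : IsConj (X (hh k)) (Y 0) := by
    by_contra hc
    obtain ⟨K, -, -, hK, -⟩ := h.qd_K_of_not_tz hc
    exact no2 K hK
  have hone : ∀ a : G, orderOf a = 2 → IsConj (X (hh k)) a := fun a ha =>
    (h.qd_invol_G ha).elim id hts.trans
  have hC := h.sylow_subtype h.le_cent_z
  obtain ⟨p, _, ρ, O, hr⟩ := rho hC (tC_center h) (hu_C h hu) (hy.sub _)
  obtain ⟨St, ε, hS, hm⟩ := st hC (tC_center h) (hu_C h hu) hr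
  obtain ⟨ω, hω, hωd, hω1⟩ := cen h hr
  obtain ⟨A, B, C, A0, A1, Ad, Bd, e1, e2, e3⟩ := degs h hS hG hu hone hm
  have hid := fun r hr => idx h hy hone (r := r) hr
  have hi3 := idx3 h hy hone hr
  have hcard := hr.card
  have hidx := (centralizer ({X (hh k)} : Set G)).card_mul_index
  have hi0 : 0 < (centralizer ({X (hh k)} : Set G)).index := Nat.pos_of_ne_zero index_ne_zero_of_finite
  have hc0 := Nat.card_pos (α := centralizer ({X (hh k)} : Set G))
  have hn0 := Nat.card_pos (α := normalizer (zpowers (X (qq k)) : Set G))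
  have hm0 := Nat.card_pos (α := ↥(normalizer (zpowers (X (qq k)) : Set G) ⊓ centralizer {Y 0}))
  generalize (centralizer ({X (hh k)} : Set G)).index = i at *
  generalize Nat.card ↥(normalizer (zpowers (X (qq k)) : Set G) ⊓ centralizer {Y 0}) = cN at *
  generalize Nat.card (normalizer (zpowers (X (qq k)) : Set G)) = n at *
  have hnp := hr.np
  generalize Nat.card O = o at hcard hnp
  generalize Nat.card (centralizer ({X (hh k)} : Set G)) = c at *
  have hp3 := hS.three
  have hp := (Fact.out : p.Prime)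
  have hp1 : 1 ≤ p ^ 2 := Nat.one_le_pow _ _ hp.pos
  have hω0 : 0 < ω := Nat.pos_of_ne_zero fun e => by
    rw [e] at hω
    have : 0 < 2 * c * n := by positivity
    simp at hω; omega
  have e4 : (i : ℤ) * (A - -ε * p) ^ 2 = p * (4 * (p ^ 2 - 1) * ω) * (A * (A + 1)) := by
    zify [hp1] at hω
    rw [hω] at e3
    exact mul_right_cancel₀ (by positivity : (cN : ℤ) ^ 2 ≠ 0) (by linear_combination e3)
  have h4 : 4 ∣ -ε * p - 1 := dvd_trans (by simpa using pow_dvd_pow (2 : ℤ) (by omega : 2 ≤ k - 1)) hm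
  have hmp : -ε * p = p ∨ -ε * p = -p := by rcases hS.hε with e | e <;> simp [e]
  generalize -ε * p = m at *
  have cop : ∀ r : ℕ, r.Prime → r ∣ c → (r : ℤ) ∣ i → r = 3 ∧ ¬ (9 : ℤ) ∣ i := fun r hr h1 h2 => by
    obtain ⟨h3, h4⟩ := hid r hr h1 (Int.natCast_dvd_natCast.1 h2)
    exact ⟨h3, fun h5 => h4 (by exact_mod_cast h5)⟩
  by_cases h5 : 5 ≤ p
  · have hpi : ¬ p ∣ i := fun hd => by
      have := (hid p hp (hcard ▸ (dvd_mul_right _ _).mul_right _) hd).1
      omega
    have hp' := Nat.prime_iff_prime_int.1 hp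
    have hpp : ¬ (p : ℤ) * p ∣ Nat.card G := fun hd => by
      replace hd : p * p ∣ Nat.card G := by exact_mod_cast hd
      rw [← hidx, hcard, mul_assoc, mul_assoc, Nat.mul_dvd_mul_iff_left hp.pos] at hd
      rcases (Nat.Prime.dvd_mul hp).1 hd with h1 | h1
      · exact hp.one_lt.ne' (Nat.dvd_one.1 ((Nat.dvd_sub_iff_right hp1 (dvd_pow_self p two_ne_zero)).1 h1))
      rcases (Nat.Prime.dvd_mul hp).1 h1 with h1 | h1
      · rcases (Nat.Prime.dvd_mul hp).1 h1 with h1 | h1
        · have := Nat.le_of_dvd two_pos h1; omega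
        · exact hnp h5 h1
      · exact hpi h1
    have hAB : (p : ℤ) * p ∣ A * B := ⟨C, by rcases hmp with e | e <;> rw [e2, e] <;> ring⟩
    have key : ∀ {A B : ℤ}, (p : ℤ) * p ∣ A * B → B ∣ Nat.card G → (p : ℤ) ∣ A := by
      intro A B h1 h2
      by_contra h3
      rw [← sq] at h1 hpp
      exact hpp ((hp'.pow_dvd_of_dvd_mul_left 2 h3 h1).trans h2)
    have hmA : ∀ {A : ℤ}, (p : ℤ) ∣ A → m ∣ A := fun h => by
      rcases hmp with e | e <;> simpa [e] using h
    obtain ⟨a, rfl⟩ := hmA (key hAB Bd)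
    obtain ⟨b, rfl⟩ := hmA (key (mul_comm (m * a) B ▸ hAB) Ad)
    have hm0 : m ^ 2 ≠ 0 := pow_ne_zero _ (left_ne_zero_of_mul A0)
    obtain rfl : C = a * b := mul_left_cancel₀ hm0 (by linear_combination -e2)
    obtain ⟨h1, h2, h3⟩ := ar5 (b := b) hmp (by exact_mod_cast h5) h4 (by linear_combination e1)
      (by exact_mod_cast hi0) (by exact_mod_cast hω0) A0 A1 e4 fun r hr hd => cop r hr (by
        rw [hcard]
        rcases hd with hd | hd | hd
        · exact ((Int.natCast_dvd_natCast.1 hd).mul_right _).mul_left _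
        · refine (Dvd.dvd.mul_left ?_ _).mul_right _
          rw [← Int.natCast_dvd_natCast]; push_cast [hp1]; exact hd
        · exact hcard ▸ hωd r hr (Int.natCast_dvd_natCast.1 hd))
    exact hi3 (hω1 (by omega)) (by omega) (Or.inr ⟨by omega, by omega⟩)
  · obtain rfl : p = 3 := by have := hS.odd; rw [Nat.odd_iff] at this; omega
    obtain rfl : m = -3 := by omega
    obtain ⟨h1, h2⟩ := ar3 (A := A) (B := B) (i := i) (ω := ω) (by linear_combination e2 - 9 * e1)
      (by exact_mod_cast hω0) A0 A1 (by push_cast at e4; linear_combination e4)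
      fun r hr hd => cop r hr (by
        rcases hd with hd | hd
        · exact (Int.natCast_dvd_natCast.1 (show (r : ℤ) ∣ (6 : ℕ) from hd)).trans (by omega)
        · exact hωd r hr (Int.natCast_dvd_natCast.1 hd))
    exact hi3 (hω1 (by omega)) (by omega) (Or.inl rfl)

theorem sd {K : Type*} [Group K] [Finite K] [IsSimpleGroup K] (hy : Cy K) (S : Sylow 2 K) :
    ¬ IsQuasiDihedral (S : Subgroup K) := fun hS => by
  haveI := Fintype.ofFinite K
  obtain ⟨k, X, Y, hk, h⟩ := H11.exists_MC_of_qd hS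
  refine sd_perfect h ?_ hy
  rcases IsSimpleGroup.eq_bot_or_eq_top_of_normal (commutator K) inferInstance with e | e
  · have hc : ∀ a b : K, a * b = b * a := fun a b => commutatorElement_eq_one_iff_mul_comm.1
      (mem_bot.1 (e ▸ commutator_mem_commutator (mem_top a) (mem_top b)))
    have h4 := h.orderOf_X_four.2 (Or.inl rfl)
    rcases h.XY_comm_iff.1 (hc (X (qq k)) (Y 0)) with h1 | h1 <;> rw [h1] at h4
    · simp [h.X_zero] at h4
    · simp [h.orderOf_z] at h4
  · exact e

end Cfsg.Agent.H26.SW
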