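import Cfsg.Agent.H26.SW5
import Cfsg.Agent.GW.Cor2
import Cfsg.Agent.H25.AbHall

/-!
# From a normal `(P)SL(2, p)` to the structure theorem
-/

set_option autoImplicit false
set_option linter.unusedSectionVars false

namespace Cfsg.Agent.H26.SW

open Cfsg Subgroup
open scoped MatrixGroups commutatorElement

universe u

theorem H2.surj {G H : Type*} [Group G] [Group H] [Finite G] (h : H2 G) (f : G →* H)
    (hf : Function.Surjective f) : H2 H := by
  haveI := Finite.of_surjective f hf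
  haveI : Fact (Nat.Prime 2) := ⟨Nat.prime_two⟩
  intro P
  obtain ⟨Q, rfl⟩ := Sylow.mapSurjective_surjective hf 2 P
  obtain ⟨C, hC, hi⟩ := h Q
  refine ⟨C.map (f.subgroupMap Q), ?_, (C.index_map_dvd (f.subgroupMap_surjective Q)).trans hi⟩
  exact isCyclic_of_surjective ((f.subgroupMap Q).subgroupMap C)
    ((f.subgroupMap Q).subgroupMap_surjective C)

theorem H2.inj {G H : Type*} [Group G] [Group H] (h : H2 G) (f : H →* G)
    (hf : Function.Injective f) : H2 H := by
  intro P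
  obtain ⟨Q, hQ⟩ := (P.isPGroup'.map f).exists_le_sylow
  obtain ⟨C, hC, hi⟩ := h Q
  let φ : (P : Subgroup H) →* (Q : Subgroup G) := (inclusion hQ).comp (f.subgroupMap P)
  have hφ : Function.Injective φ := fun x y e =>
    Subtype.ext (hf (congrArg (fun a : (Q : Subgroup G) => (a : G)) e))
  haveI : C.Normal := by
    rcases (Nat.dvd_prime Nat.prime_two).1 hi with e | e
    · rw [index_eq_one.1 e]; infer_instance
    · exact normal_of_index_eq_two e
  refine ⟨C.comap φ, ?_, ?_⟩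
  · exact isCyclic_of_injective (φ.subgroupComap C) fun x y e =>
      Subtype.ext (hφ (congrArg Subtype.val e))
  · rw [index_comap]
    exact (relIndex_dvd_index_of_normal C _).trans hi

namespace R2

theorem cyc2 {S : Type*} [Group S] [Finite S] (D : Subgroup S) [IsCyclic D] {x y : S} (hx : x ∈ D)
    (hy : y ∈ D) (x2 : x * x = 1) (y2 : y * y = 1) : x = 1 ∨ y = 1 ∨ x * y = 1 := by
  classical
  haveI := Fintype.ofFinite D
  by_contra hc
  push Not at hc
  obtain ⟨h1, h2, h3⟩ := hc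
  have h4 := IsCyclic.card_pow_eq_one_le (α := D) (n := 2) two_pos
  have h5 : ({1, ⟨x, hx⟩, ⟨y, hy⟩} : Finset D) ⊆ Finset.univ.filter fun a : D => a ^ 2 = 1 := by
    intro a ha
    simp only [Finset.mem_insert, Finset.mem_singleton] at ha
    rcases ha with rfl | rfl | rfl <;> simp [pow_two, Subtype.ext_iff, x2, y2]
  have h6 := Finset.card_le_card h5
  rw [Finset.card_eq_three.2 ⟨_, _, _, by simpa [Subtype.ext_iff] using h1.symm,
    by simpa [Subtype.ext_iff] using h2.symm,
    fun e => h3 (by rw [← show x = y from congrArg Subtype.val e, x2]), rfl⟩] at h6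
  omega

theorem e8 {Q : Type*} [Group Q] [Finite Q] (h : H2 Q) {a b c : Q} (a2 : a * a = 1)
    (b2 : b * b = 1) (c2 : c * c = 1) (ab : Commute a b) (ac : Commute a c) (bc : Commute b c) :
    a = 1 ∨ b = 1 ∨ c = 1 ∨ a * b = 1 ∨ a * c = 1 ∨ b * c = 1 ∨ a * b * c = 1 := by
  set E := closure ({a, b, c} : Set Q) with hEd
  have k1 : ∀ x ∈ E, ∀ s ∈ ({a, b, c} : Set Q), Commute x s := by
    intro x hx
    induction hx using closure_induction with
    | mem x hx =>
      intro s hs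
      rcases hx with rfl | rfl | rfl <;> rcases hs with rfl | rfl | rfl <;>
        first | exact Commute.refl _ | assumption | (apply Commute.symm; assumption)
    | one => exact fun s _ => Commute.one_left s
    | mul x y _ _ hx hy => exact fun s hs => (hx s hs).mul_left (hy s hs)
    | inv x _ hx => exact fun s hs => (hx s hs).inv_left
  have k2 : ∀ x ∈ E, ∀ y ∈ E, Commute x y := by
    intro x hx y hy
    induction hy using closure_induction with
    | mem y hy => exact k1 x hx y hy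
    | one => exact Commute.one_right x
    | mul a b _ _ ha hb => exact ha.mul_right hb
    | inv a _ ha => exact ha.inv_right
  have k3 : ∀ x ∈ E, x * x = 1 := by
    intro x hx
    induction hx using closure_induction with
    | mem x hx => rcases hx with rfl | rfl | rfl <;> assumption
    | one => simp
    | mul x y hx hy h1 h2 =>
      calc x * y * (x * y) = x * (y * x) * y := by group
        _ = x * x * (y * y) := by rw [← (k2 x hx y hy).eq]; group
        _ = 1 := by rw [h1, h2, one_mul]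
    | inv x _ hx => rw [← mul_inv_rev, hx, inv_one]
  have p1 : IsPGroup 2 E := fun x => ⟨1, Subtype.ext (by simpa [pow_two] using k3 x x.2)⟩
  obtain ⟨S, hS⟩ := p1.exists_le_sylow
  obtain ⟨D, hD, hi⟩ := h S
  have ma : a ∈ E := subset_closure (by simp)
  have mb : b ∈ E := subset_closure (by simp)
  have mc : c ∈ E := subset_closure (by simp)
  let I : Q → Prop := fun x => ∃ hx : x ∈ E, (⟨x, hS hx⟩ : (S : Subgroup Q)) ∈ D
  have t1 : ∀ x ∈ E, ∀ y ∈ E, I x ∨ I y ∨ I (x * y) := by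
    intro x hx y hy
    rcases (Nat.dvd_prime Nat.prime_two).1 hi with e | e
    · exact .inl ⟨hx, by rw [index_eq_one.1 e]; trivial⟩
    · by_cases h1 : (⟨x, hS hx⟩ : (S : Subgroup Q)) ∈ D
      · exact .inl ⟨hx, h1⟩
      by_cases h2 : (⟨y, hS hy⟩ : (S : Subgroup Q)) ∈ D
      · exact .inr (.inl ⟨hy, h2⟩)
      · exact .inr (.inr ⟨mul_mem hx hy, (mul_mem_iff_of_index_two e
          (a := ⟨x, hS hx⟩) (b := ⟨y, hS hy⟩)).2 (by tauto)⟩)
  have t2 : ∀ x y, I x → I y → x = 1 ∨ y = 1 ∨ x * y = 1 := by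
    rintro x y ⟨hx, h1⟩ ⟨hy, h2⟩
    simpa [Subtype.ext_iff] using cyc2 D h1 h2 (Subtype.ext (k3 x hx)) (Subtype.ext (k3 y hy))
  have e1 : b * (a * c) = a * b * c := by rw [← mul_assoc, ab.eq]
  have e2 : a * b * (a * c) = b * c := by
    rw [ab.eq, mul_assoc, ← mul_assoc a a, a2, one_mul]
  have e3 : a * (b * c) = a * b * c := (mul_assoc _ _ _).symm
  by_cases ia : I a
  · rcases t1 b mb c mc with i | i | i <;> have := t2 _ _ ia i <;> rw [e3] at * <;> tauto
  · rcases t1 a ma b mb with i | i | i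
    · exact absurd i ia
    · rcases t1 a ma c mc with j | j | j
      · exact absurd j ia
      · have := t2 _ _ i j; tauto
      · have := t2 _ _ i j; rw [e1] at this; tauto
    · rcases t1 a ma c mc with j | j | j
      · exact absurd j ia
      · have := t2 _ _ i j; tauto
      · have := t2 _ _ i j; rw [e2] at this; tauto

theorem tz {F : Type*} [Field F] (h2 : (2 : F) ≠ 0) (A : SL(2, F)) (h : A 1 1 = -A 0 0) :
    (QuotientGroup.mk A : PSL(2, F)) * QuotientGroup.mk A = 1 ∧
      (QuotientGroup.mk A : PSL(2, F)) ≠ 1 := by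
  have hd : A 0 0 * A 1 1 - A 0 1 * A 1 0 = 1 := by
    have := A.det_coe
    rwa [Matrix.det_fin_two] at this
  constructor
  · rw [← QuotientGroup.mk_mul, QuotientGroup.eq_one_iff, Matrix.SpecialLinearGroup.mem_center_iff]
    refine ⟨-1, by simp, ?_⟩
    ext i j
    fin_cases i <;> fin_cases j <;>
      simp [Matrix.mul_apply, Fin.sum_univ_two, h] <;> rw [h] at hd <;>
      first | linear_combination hd | linear_combination -hd | ring
  · intro e
    rw [QuotientGroup.eq_one_iff, Matrix.SpecialLinearGroup.mem_center_iff] at e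
    obtain ⟨r, hr, e⟩ := e
    have e0 : r = A 0 0 := by simpa using congrFun (congrFun e 0) 0
    have e1 : r = A 1 1 := by simpa using congrFun (congrFun e 1) 1
    have : 2 * r = 0 := by linear_combination e0 + e1 + h
    rw [(mul_eq_zero.1 this).resolve_left h2] at hr
    simp at hr

theorem four (p : ℕ) [Fact p.Prime] (h2 : (2 : ZMod p) ≠ 0) : ∃ a b : PSL(2, ZMod p),
    a * a = 1 ∧ b * b = 1 ∧ a * b * (a * b) = 1 ∧ a ≠ 1 ∧ b ≠ 1 ∧ a * b ≠ 1 := by
  obtain ⟨x, y, hxy⟩ := ZMod.sq_add_sq p (-1)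
  let i : SL(2, ZMod p) := ⟨!![0, 1; -1, 0], by simp [Matrix.det_fin_two]⟩
  let j : SL(2, ZMod p) := ⟨!![x, y; y, -x], by
    rw [Matrix.det_fin_two]; simp; linear_combination -hxy⟩
  have h1 := tz h2 i (by simp [i])
  have h3 := tz h2 j (by simp [j])
  have h4 := tz h2 (i * j) (by
    change (i.1 * j.1) 1 1 = -(i.1 * j.1) 0 0
    simp [i, j, Matrix.mul_apply, Fin.sum_univ_two])
  rw [QuotientGroup.mk_mul] at h4
  exact ⟨_, _, h1.1, h3.1, h4.1, h1.2, h3.2, h4.2⟩

theorem mem_Gam (p : ℕ) [Fact p.Prime] (x : GW.PA (ZMod p)) : x ∈ GW.Gam (ZMod p) := by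
  obtain ⟨g, σ, rfl⟩ := H28.aut_PSL_two x
  have : σ = 1 := by
    ext y
    obtain ⟨n, rfl⟩ := ZMod.natCast_zmod_surjective y
    simp
  rw [this, map_one, mul_one]; exact ⟨g, rfl⟩

variable {G : Type*} [Group G]

/-- an element acting trivially modulo the centre of a perfect normal subgroup centralizes it -/
theorem cent_of (K : Subgroup G) [K.Normal] (hp : commutator K = ⊤) (g : G)
    (h : ∀ x : K, x⁻¹ * MulAut.conjNormal g x ∈ center K) : g ∈ centralizer (K : Set G) := by
  have h1 : commutator K ≤ (MulAut.conjNormal g : MulAut K).toMonoidHom.eqLocus (MonoidHom.id K) := by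
    rw [commutator_def, commutator_le]
    intro x _ y _
    change MulAut.conjNormal g ⁅x, y⁆ = ⁅x, y⁆
    rw [map_commutatorElement]
    have hx := mem_center_iff.1 (h x)
    have hy := mem_center_iff.1 (h y)
    generalize MulAut.conjNormal g x = x' at *
    generalize MulAut.conjNormal g y = y' at *
    obtain ⟨c, rfl⟩ : ∃ c, x' = x * c := ⟨x⁻¹ * x', by group⟩
    obtain ⟨d, rfl⟩ : ∃ d, y' = y * d := ⟨y⁻¹ * y', by group⟩
    simp only [inv_mul_cancel_left] at hx hy
    calc ⁅x * c, y * d⁆ = x * (c * (y * d)) * c⁻¹ * x⁻¹ * d⁻¹ * y⁻¹ := by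
          rw [commutatorElement_def]; group
      _ = x * y * (d * x⁻¹) * d⁻¹ * y⁻¹ := by rw [← hx]; group
      _ = ⁅x, y⁆ := by rw [← hy, commutatorElement_def]; group
  refine mem_centralizer_iff.2 fun x hx => ?_
  have h2 : MulAut.conjNormal g (⟨x, hx⟩ : K) = ⟨x, hx⟩ := h1 (hp ▸ mem_top _)
  have h3 : g * x * g⁻¹ = x := congrArg Subtype.val h2
  calc x * g = g * x * g⁻¹ * g := by rw [h3]
    _ = g * x := by group

theorem idx2 (K : Subgroup G) [K.Normal] (hp : commutator K = ⊤) {Q : Type*} [Group Q]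
    (ψ : K ⧸ center K ≃* Q) (hQ : ∀ α β : MulAut Q, α ∉ Inn Q → β ∉ Inn Q → α * β ∈ Inn Q) :
    (K ⊔ centralizer (K : Set G)).index ∣ 2 := by
  let α : G → MulAut Q := fun g => (ψ.symm.trans (QuotientGroup.congr (center K) (center K)
    (MulAut.conjNormal g) (characteristic_iff_map_eq.1 inferInstance _))).trans ψ
  have hα : ∀ g (x : K), α g (ψ x) = ψ ((MulAut.conjNormal g x : K) : K ⧸ center K) := by
    intro g x
    simp only [α, MulEquiv.trans_apply, MulEquiv.symm_apply_apply]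
    rfl
  have sur : ∀ q : Q, ∃ x : K, ψ x = q := fun q => by
    obtain ⟨y, rfl⟩ := ψ.surjective q
    obtain ⟨x, rfl⟩ := QuotientGroup.mk_surjective y
    exact ⟨x, rfl⟩
  have hm : ∀ g h, α (g * h) = α g * α h := by
    intro g h
    ext q
    obtain ⟨x, rfl⟩ := sur q
    rw [MulAut.mul_apply, hα, hα, hα, map_mul, MulAut.mul_apply]
  have key : ∀ g, α g ∈ Inn Q ↔ g ∈ K ⊔ centralizer (K : Set G) := by
    intro g
    constructor
    · rintro ⟨q, hq⟩
      obtain ⟨k, rfl⟩ := sur q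
      have : (k : G)⁻¹ * g ∈ centralizer (K : Set G) := cent_of K hp _ fun x => by
        have h1 := hα g x
        rw [← hq, MulAut.conj_apply, ← map_inv, ← map_mul, ← map_mul, ψ.apply_eq_iff_eq,
          ← QuotientGroup.mk_inv, ← QuotientGroup.mk_mul, ← QuotientGroup.mk_mul,
          QuotientGroup.eq] at h1
        have h2 := (inferInstance : (center K).Normal).conj_mem _ h1 k⁻¹
        convert h2 using 1
        refine Subtype.ext ?_
        simp only [coe_mul, coe_inv, MulAut.conjNormal_apply]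
        group
      have h3 := mul_mem (mem_sup_left k.2 : (k : G) ∈ K ⊔ centralizer (K : Set G))
        (mem_sup_right this)
      rwa [mul_inv_cancel_left] at h3
    · intro hg
      rw [← SetLike.mem_coe, normal_mul] at hg
      obtain ⟨k, hk, c, hc, rfl⟩ := hg
      refine ⟨ψ (⟨k, hk⟩ : K), ?_⟩
      ext q
      obtain ⟨x, rfl⟩ := sur q
      rw [hα, MulAut.conj_apply, ← map_inv, ← map_mul, ← map_mul, ← QuotientGroup.mk_inv,
        ← QuotientGroup.mk_mul, ← QuotientGroup.mk_mul]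
      congr 2
      refine Subtype.ext ?_
      simp only [coe_mul, coe_inv, MulAut.conjNormal_apply]
      have := mem_centralizer_iff.1 hc x x.2
      calc k * x * k⁻¹ = k * (x * c) * c⁻¹ * k⁻¹ := by group
        _ = _ := by rw [this]; group
  by_cases ht : K ⊔ centralizer (K : Set G) = ⊤
  · rw [ht, index_top]; exact one_dvd _
  obtain ⟨a, ha⟩ : ∃ a, a ∉ K ⊔ centralizer (K : Set G) := by
    by_contra hc
    push Not at hc
    exact ht (eq_top_iff.2 fun a _ => hc a)
  refine dvd_of_eq (index_eq_two_iff.2 ⟨a, fun b => ?_⟩)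
  by_cases hb : b ∈ K ⊔ centralizer (K : Set G)
  · exact .inr ⟨hb, fun e => ha ((mul_mem_cancel_left hb).1 e)⟩
  · refine .inl ⟨(key _).1 ?_, hb⟩
    rw [hm]
    exact hQ _ _ (mt (key b).1 hb) (mt (key a).1 ha)

theorem core [Finite G] (hy : Cy G) (h2 : H2 G) (K : Subgroup G) [K.Normal]
    (hp : commutator K = ⊤) (hz : ∀ x ∈ center K, x * x = 1) (p : ℕ) [Fact p.Prime] (h5 : 5 ≤ p)
    (ψ : K ⧸ center K ≃* PSL(2, ZMod p)) :
    ∃ G₀ : Subgroup G, G₀.Normal ∧ G₀.index ∣ 2 ∧
      ∃ X L : Subgroup ↥G₀, X.Normal ∧ L.Normal ∧ X ⊓ L = ⊥ ∧ X ⊔ L = ⊤ ∧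
        (Nat.card X).Coprime (Nat.card L) ∧ Odd (Nat.card X) ∧
        (∃ (C : Subgroup ↥X) (_ : C.Normal), IsCyclic C ∧ IsCyclic (↥X ⧸ C)) ∧
        Nonempty (L ≃* K) := by
  classical
  haveI : Fact (Nat.Prime 2) := ⟨Nat.prime_two⟩
  have hp2 : (2 : ZMod p) ≠ 0 := by
    intro e
    have := (ZMod.natCast_eq_zero_iff 2 p).1 (by exact_mod_cast e)
    have := Nat.le_of_dvd two_pos this
    omega
  set C := centralizer (K : Set G) with hCd
  set Z := K ⊓ C with hZd
  haveI : C.Normal := inferInstance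
  haveI : Z.Normal := inferInstance
  have hZ : ∀ x : K, ψ x = 1 ↔ (x : G) ∈ Z := by
    intro x
    rw [ψ.map_eq_one_iff, QuotientGroup.eq_one_iff, mem_center_iff]
    exact ⟨fun h => ⟨x.2, fun y hy => congrArg Subtype.val (h ⟨y, hy⟩)⟩,
      fun h y => Subtype.ext (h.2 y y.2)⟩
  have hZ2 : ∀ z ∈ Z, z * z = 1 := fun z hz' => congrArg Subtype.val
    (hz ⟨z, hz'.1⟩ (mem_center_iff.2 fun y => Subtype.ext (hz'.2 y y.2)))
  have sur : ∀ q, ∃ x : K, ψ x = q := fun q => by
    obtain ⟨y, rfl⟩ := ψ.surjective q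
    obtain ⟨x, rfl⟩ := QuotientGroup.mk_surjective y
    exact ⟨x, rfl⟩
  -- the index of `Z` in `C` is odd
  have hodd : ¬ 2 ∣ (Z.subgroupOf C).index := by
    intro hd
    obtain ⟨c', hc'⟩ := exists_prime_orderOf_dvd_card' (G := C ⧸ Z.subgroupOf C) 2 hd
    obtain ⟨c, rfl⟩ := QuotientGroup.mk_surjective c'
    have c1 : (c : G) ∉ Z := fun e => by
      rw [(QuotientGroup.eq_one_iff c).2 (mem_subgroupOf.2 e), orderOf_one] at hc'
      omega
    have c2 : (c : G) * c ∈ Z := by
      have := pow_orderOf_eq_one (QuotientGroup.mk c : C ⧸ Z.subgroupOf C)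
      rw [hc', pow_two, ← QuotientGroup.mk_mul, QuotientGroup.eq_one_iff, mem_subgroupOf] at this
      exact this
    have cK : ∀ k : K, (k : G) * c ∉ Z := fun k e =>
      c1 ⟨(mul_mem_cancel_left k.2).1 e.1, c.2⟩
    obtain ⟨a', b', a2, b2, ab2, a1, b1, ab1⟩ := four p hp2
    obtain ⟨a, rfl⟩ := sur a'
    obtain ⟨b, rfl⟩ := sur b'
    simp only [← map_mul, ← QuotientGroup.mk_mul, Ne, hZ] at a2 b2 ab2 a1 b1 ab1
    have q1 : ∀ x : G, (QuotientGroup.mk x : G ⧸ Z) = 1 ↔ x ∈ Z := QuotientGroup.eq_one_iff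
    have a2' : ((a : G) : G ⧸ Z) * (a : G) = 1 := (q1 _).2 a2
    have b2' : ((b : G) : G ⧸ Z) * (b : G) = 1 := (q1 _).2 b2
    have ab2' : ((a : G) : G ⧸ Z) * (b : G) * (((a : G) : G ⧸ Z) * (b : G)) = 1 := (q1 _).2 ab2
    have cm : ∀ k : K, Commute ((k : G) : G ⧸ Z) ((c : G) : G ⧸ Z) := fun k =>
      congrArg (QuotientGroup.mk : G → G ⧸ Z) (c.2 k k.2)
    have := e8 (h2.surj (QuotientGroup.mk' Z) (QuotientGroup.mk'_surjective Z))
      (a := ((a : G) : G ⧸ Z)) (b := ((b : G) : G ⧸ Z)) (c := ((c : G) : G ⧸ Z)) a2' b2'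
      ((q1 _).2 c2) (by
        have e1 := inv_eq_of_mul_eq_one_right a2'
        have e2 := inv_eq_of_mul_eq_one_right b2'
        have e3 := inv_eq_of_mul_eq_one_right ab2'
        rw [mul_inv_rev, e1, e2] at e3
        exact e3.symm) (cm a) (cm b)
    simp only [← QuotientGroup.mk_mul, q1] at this
    rcases this with e | e | e | e | e | e | e
    · exact a1 e
    · exact b1 e
    · exact c1 e
    · exact ab1 e
    · exact cK a e
    · exact cK b e
    · exact cK (a * b) e
  have pZ : IsPGroup 2 (Z.subgroupOf C) := fun z =>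
    ⟨1, Subtype.ext (Subtype.ext (by simpa [pow_two] using hZ2 _ (mem_subgroupOf.1 z.2)))⟩
  obtain ⟨n, hn⟩ := IsPGroup.iff_card.1 pZ
  obtain ⟨X', hX'⟩ := exists_right_complement'_of_coprime (N := Z.subgroupOf C)
    (by rw [hn]; exact ((Nat.Prime.coprime_iff_not_dvd Nat.prime_two).2 hodd).pow_left n)
  set X0 := X'.map C.subtype with hX0
  have xC : X0 ≤ C := map_subtype_le _
  have dec : ∀ c ∈ C, ∃ z ∈ Z, ∃ x ∈ X0, z * x = c := by
    intro c hc
    obtain ⟨⟨z, x⟩, e, -⟩ := hX'.existsUnique ⟨c, hc⟩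
    exact ⟨_, mem_subgroupOf.1 z.2, _, ⟨x.1, x.2, rfl⟩, congrArg Subtype.val e⟩
  have disj : ∀ x ∈ X0, x ∈ K → x = 1 := by
    rintro _ ⟨x, hx, rfl⟩ hk
    have := disjoint_def.1 hX'.disjoint (x := x) (mem_subgroupOf.2 ⟨hk, x.2⟩) hx
    rw [this]; rfl
  have cX : Nat.card X0 = (Z.subgroupOf C).index := by
    rw [hX'.symm.index_eq_card, hX0, card_map_of_injective C.subtype_injective]
  have kN : K ≤ normalizer (X0 : Set G) := fun k hk => centralizer_le_normalizer _
    (mem_centralizer_iff.2 fun x hx => ((xC hx) k hk).symm)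
  have gN : K ⊔ C ≤ normalizer (X0 : Set G) := sup_le kN fun c hc => by
    obtain ⟨z, hz', x, hx, rfl⟩ := dec c hc
    exact mul_mem (kN hz'.1) (le_normalizer hx)
  have x0 : X0 ≤ K ⊔ C := xC.trans le_sup_right
  have eX : Nat.card (X0.subgroupOf (K ⊔ C)) = Nat.card X0 :=
    Nat.card_congr (subgroupOfEquivOfLe x0).toEquiv
  have eL : Nat.card (K.subgroupOf (K ⊔ C)) = Nat.card K :=
    Nat.card_congr (subgroupOfEquivOfLe le_sup_left).toEquiv
  have oX : Odd (Nat.card (X0.subgroupOf (K ⊔ C))) := by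
    rw [eX, cX, ← Nat.not_even_iff_odd, even_iff_two_dvd]; exact hodd
  refine ⟨K ⊔ C, inferInstance, idx2 K hp ψ fun α β h1 h3 =>
    GW.mul_mem_Li hp2 (mem_Gam p α) (mem_Gam p β) h1 h3, X0.subgroupOf _, K.subgroupOf _,
    normal_subgroupOf_of_le_normalizer gN, inferInstance, ?_, ?_, ?_, oX, ?_,
    ⟨subgroupOfEquivOfLe le_sup_left⟩⟩
  · refine eq_bot_iff.2 fun x hx => mem_bot.2 (Subtype.ext ?_)
    exact disj _ (mem_subgroupOf.1 hx.1) (mem_subgroupOf.1 hx.2)
  · rw [← subgroupOf_sup x0 le_sup_left, subgroupOf_eq_top]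
    refine sup_le le_sup_right fun c hc => ?_
    obtain ⟨z, hz', x, hx, rfl⟩ := dec c hc
    exact mul_mem (mem_sup_right hz'.1) (mem_sup_left hx)
  · refine Nat.coprime_of_dvd fun r hr h1 h3 => ?_
    have r2 : r ≠ 2 := by
      rintro rfl
      exact (Nat.not_even_iff_odd.2 oX) (even_iff_two_dvd.2 h1)
    haveI := Fact.mk hr
    rw [eX] at h1
    rw [eL] at h3
    obtain ⟨x, hx⟩ := exists_prime_orderOf_dvd_card' r h1
    obtain ⟨k, hk⟩ := exists_prime_orderOf_dvd_card' r h3
    rw [← orderOf_coe] at hx hk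
    have px : IsPGroup r (zpowers (x : G)) :=
      IsPGroup.of_card (n := 1) (by rw [Nat.card_zpowers, hx, pow_one])
    have pk : IsPGroup r (zpowers (k : G)) :=
      IsPGroup.of_card (n := 1) (by rw [Nat.card_zpowers, hk, pow_one])
    have pR : IsPGroup r (zpowers (x : G) ⊔ zpowers (k : G) : Subgroup G) :=
      px.to_sup_of_normal_right' pk (by
        rw [zpowers_le]
        exact centralizer_le_normalizer _ (mem_centralizer_iff.2 fun y hy =>
          (xC x.2) y ((zpowers_le.2 k.2) hy)))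
    haveI := hy r hr r2 _ pR
    set R : Subgroup G := zpowers (x : G) ⊔ zpowers (k : G)
    haveI := Fintype.ofFinite R
    let x' : R := ⟨x, mem_sup_left (mem_zpowers _)⟩
    let k' : R := ⟨k, mem_sup_right (mem_zpowers _)⟩
    have ok : orderOf k' = r := by rw [← orderOf_coe]; exact hk
    have h4 := IsCyclic.card_pow_eq_one_le (α := R) (n := r) hr.pos
    have h5 : (Finset.univ.filter fun a : R => a ∈ zpowers k') ⊆
        Finset.univ.filter fun a : R => a ^ r = 1 := by
      intro a ha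
      simp only [Finset.mem_filter, Finset.mem_univ, true_and] at ha ⊢
      obtain ⟨m, rfl⟩ := ha
      rw [← zpow_natCast, ← zpow_mul, mul_comm, zpow_mul, zpow_natCast, ← ok, pow_orderOf_eq_one,
        one_zpow]
    have h6 : (Finset.univ.filter fun a : R => a ∈ zpowers k').card = r := by
      rw [← Fintype.card_subtype, ← Nat.card_eq_fintype_card]
      exact (Nat.card_zpowers k').trans ok
    have h7 := Finset.eq_of_subset_of_card_le h5 (by omega)
    have h8 : x' ∈ Finset.univ.filter fun a : R => a ^ r = 1 := by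
      simp only [Finset.mem_filter, Finset.mem_univ, true_and]
      exact Subtype.ext (by simp only [x', SubgroupClass.coe_pow, ← hx, pow_orderOf_eq_one]; rfl)
    rw [← h7, Finset.mem_filter] at h8
    obtain ⟨m, hm⟩ := h8.2
    have h9 : (x : G) ∈ K := by
      have : (k : G) ^ m = x := congrArg Subtype.val hm
      exact this ▸ zpow_mem k.2 m
    rw [disj _ x.2 h9, orderOf_one] at hx
    exact hr.one_lt.ne hx
  · haveI : IsZGroup (X0.subgroupOf (K ⊔ C)) := ⟨fun r hr P => by
      by_cases r2 : r = 2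
      · subst r2
        obtain ⟨m, hm⟩ := IsPGroup.iff_card.1 P.isPGroup'
        have h1 := oX.of_dvd_nat (card_subgroup_dvd_card (P : Subgroup (X0.subgroupOf (K ⊔ C))))
        rw [hm] at h1
        have h3 : m = 0 := by
          by_contra h3
          exact (Nat.not_even_iff_odd.2 h1) (even_iff_two_dvd.2 (dvd_pow_self 2 h3))
        rw [h3, pow_zero] at hm
        haveI := (Nat.card_eq_one_iff_unique.1 hm).1
        infer_instance
      · exact ((hy.sub _).sub _) r hr r2 _ P.isPGroup'⟩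
    exact ⟨commutator _, inferInstance, IsZGroup.isCyclic_commutator _,
      IsZGroup.isCyclic_abelianization⟩

end R2

open R2 in
theorem r2 {G : Type*} [Group G] [Finite G] (hy : Cy G) (h2 : H2 G) (K : Subgroup G) [K.Normal]
    (p : ℕ) [Fact p.Prime] (h5 : 5 ≤ p)
    (hK : Nonempty (K ≃* Matrix.ProjectiveSpecialLinearGroup (Fin 2) (ZMod p)) ∨
      Nonempty (K ≃* Matrix.SpecialLinearGroup (Fin 2) (ZMod p))) :
    ∃ G₀ : Subgroup G, G₀.Normal ∧ G₀.index ∣ 2 ∧
      ∃ X L : Subgroup ↥G₀, X.Normal ∧ L.Normal ∧ X ⊓ L = ⊥ ∧ X ⊔ L = ⊤ ∧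
        (Nat.card X).Coprime (Nat.card L) ∧ Odd (Nat.card X) ∧
        (∃ (C : Subgroup ↥X) (_ : C.Normal), IsCyclic C ∧ IsCyclic (↥X ⧸ C)) ∧
        ∃ (p : ℕ) (_ : Fact p.Prime), 5 ≤ p ∧
          (Nonempty (↥L ≃* Matrix.ProjectiveSpecialLinearGroup (Fin 2) (ZMod p)) ∨
           Nonempty (↥L ≃* Matrix.SpecialLinearGroup (Fin 2) (ZMod p))) := by
  have h3 : 3 < Fintype.card (ZMod p) := by rw [ZMod.card]; omega
  have perf : ∀ {Q : Type} [Group Q] (_ : K ≃* Q), commutator Q = ⊤ → commutator K = ⊤ := by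
    intro Q _ e h
    have := congrArg (Subgroup.map e.symm.toMonoidHom) h
    rwa [commutator_def, map_commutator, map_top_of_surjective _ e.symm.surjective] at this
  have cen : ∀ {Q : Type} [Group Q] (e : K ≃* Q), (center K).map e.toMonoidHom = center Q := by
    intro Q _ e
    ext y
    obtain ⟨x, rfl⟩ := e.surjective y
    rw [mem_map_equiv, e.symm_apply_apply, mem_center_iff, mem_center_iff]
    refine ⟨fun h y => ?_, fun h y => e.injective (by rw [map_mul, map_mul, h])⟩
    obtain ⟨z, rfl⟩ := e.surjective y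
    rw [← map_mul, ← map_mul, h]
  have H : ∃ _ : K ⧸ center K ≃* PSL(2, ZMod p), commutator K = ⊤ ∧ ∀ x ∈ center K, x * x = 1 := by
    rcases hK with ⟨⟨e⟩⟩ | ⟨⟨e⟩⟩
    · haveI := GW.psl_simple h3
      have hc : center PSL(2, ZMod p) = ⊥ := (inferInstance : (center _).Normal).eq_bot_or_eq_top.resolve_right
        fun h => GW.psl_ncomm h3 ⟨⟨fun a b => (mem_center_iff.1 (h ▸ mem_top b : b ∈ center _) a)⟩⟩
      have hc' : center K = ⊥ := by
        have := cen e
        rwa [hc, map_eq_bot_iff_of_injective _ e.injective] at this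
      refine ⟨((QuotientGroup.quotientMulEquivOfEq hc').trans QuotientGroup.quotientBot).trans e,
        perf e (GW.psl_perfect h3), fun x hx => ?_⟩
      rw [hc', mem_bot] at hx
      rw [hx, one_mul]
    · refine ⟨QuotientGroup.congr _ _ e (cen e),
        perf e (H12.commutator_SL_fin_eq_top 2 le_rfl fun _ => h3), fun x hx => e.injective ?_⟩
      have h4 : e x ∈ center SL(2, ZMod p) := cen e ▸ mem_map_of_mem _ hx
      obtain ⟨r, hr, e'⟩ := Matrix.SpecialLinearGroup.mem_center_iff.1 h4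
      rw [map_mul, map_one]
      refine Subtype.ext ?_
      rw [Matrix.SpecialLinearGroup.coe_mul, ← e', ← map_mul, ← pow_two]
      simp only [Fintype.card_fin] at hr
      rw [hr, map_one]; rfl
  obtain ⟨ψ, hp, hz⟩ := H
  obtain ⟨G₀, a1, a2, X, L, a3, a4, a5, a6, a7, a8, a9, ⟨e⟩⟩ := core hy h2 K hp hz p h5 ψ
  exact ⟨G₀, a1, a2, X, L, a3, a4, a5, a6, a7, a8, a9, p, inferInstance, h5,
    hK.imp (fun ⟨f⟩ => ⟨e.trans f⟩) fun ⟨f⟩ => ⟨e.trans f⟩⟩

theorem fin (r1 : ∀ {K : Type u} [Group K] [Finite K] [Nontrivial K], commutator K = ⊤ → Cy K →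
      H2 K → ∃ (p : ℕ) (_ : Fact p.Prime), 5 ≤ p ∧
        (Nonempty (K ≃* Matrix.ProjectiveSpecialLinearGroup (Fin 2) (ZMod p)) ∨
          Nonempty (K ≃* Matrix.SpecialLinearGroup (Fin 2) (ZMod p))))
    {G : Type u} [Group G] [Finite G] (hns : ¬ Group.IsSolvable G)
    (hodd : ∀ p : ℕ, p.Prime → p ≠ 2 → ∀ P : Sylow p G, IsCyclic P)
    (h2 : ∀ S : Sylow 2 G, ∃ C : Subgroup ↥(S : Subgroup G), IsCyclic C ∧ C.index ∣ 2) :
    ∃ G₀ : Subgroup G, G₀.Normal ∧ G₀.index ∣ 2 ∧
      ∃ X L : Subgroup ↥G₀, X.Normal ∧ L.Normal ∧ X ⊓ L = ⊥ ∧ X ⊔ L = ⊤ ∧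
        (Nat.card X).Coprime (Nat.card L) ∧ Odd (Nat.card X) ∧
        (∃ (C : Subgroup ↥X) (_ : C.Normal), IsCyclic C ∧ IsCyclic (↥X ⧸ C)) ∧
        ∃ (p : ℕ) (_ : Fact p.Prime), 5 ≤ p ∧
          (Nonempty (↥L ≃* Matrix.ProjectiveSpecialLinearGroup (Fin 2) (ZMod p)) ∨
           Nonempty (↥L ≃* Matrix.SpecialLinearGroup (Fin 2) (ZMod p))) := by
  have hy : Cy G := Cy.of_sylow hodd
  obtain ⟨K, hK, hp, hs⟩ := H25.exists_perfect_normal hns
  haveI : Nontrivial K := by
    by_contra hc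
    rw [not_nontrivial_iff_subsingleton] at hc
    exact hs inferInstance
  have hp' : commutator K = ⊤ := by
    apply map_injective K.subtype_injective
    rw [commutator_def, map_commutator, ← MonoidHom.range_eq_map, range_subtype, hp]
  obtain ⟨p, _, h5, h⟩ := r1 hp' (hy.sub K) (H2.inj h2 K.subtype K.subtype_injective)
  exact r2 hy h2 K p h5 h

end Cfsg.Agent.H26.SW
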