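import Cfsg.Agent.H26.PElt
import Cfsg.Agent.H2.Subnormal
import Cfsg.Agent.H1.SylowIn

/-! Subnormalizers of p-subgroups. -/

set_option autoImplicit false

namespace Cfsg.Agent.H26
open Subgroup
open scoped Pointwise

variable {G : Type*} [Group G]

theorem subnormal_sup_iff [Finite G] {p : ℕ} [Fact p.Prime] {H K : Subgroup G} (hH : IsPGroup p H) :
    (H.subgroupOf (H ⊔ K)).IsSubnormal ↔
      ∃ R : Subgroup G, IsPGroup p R ∧ H ≤ R ∧ K ≤ normalizer (R : Set G) := by
  constructor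
  · intro h
    have h1 : H10.SubnormalIn H (H ⊔ K) := ⟨le_sup_left, h⟩
    exact ⟨_, H1.isPGroup_map_pCore p _, h1.le_OpOf hH, le_sup_right.trans
      (le_normalizer.trans (H1.normalizer_le_normalizer_map_subtype_of_characteristic _ _))⟩
  · rintro ⟨R, hR, h1, h2⟩
    have h3 : H10.SubnormalIn H R := H2.subnormalIn_of_isNilpotent hR.isNilpotent h1
    exact ((h3.trans (H10.SubnormalIn.of_normal le_normalizer le_rfl)).of_le le_sup_left
      (sup_le (h1.trans le_normalizer) h2)).2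

theorem subnormal_sup_zpowers_iff [Finite G] {p : ℕ} [Fact p.Prime] {H : Subgroup G}
    (hH : IsPGroup p H) {g : G} : (H.subgroupOf (H ⊔ zpowers g)).IsSubnormal ↔
      ∃ R : Subgroup G, IsPGroup p R ∧ H ≤ R ∧ g ∈ normalizer (R : Set G) := by
  simp only [subnormal_sup_iff hH, zpowers_le]

theorem exists_radical_ge [Finite G] {p : ℕ} [Fact p.Prime] {R K : Subgroup G} (hR : IsPGroup p R)
    (hK : K ≤ normalizer (R : Set G)) : ∃ S : Subgroup G, R ≤ S ∧
      (pCore p (normalizer (S : Set G))).map (normalizer (S : Set G)).subtype = S ∧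
      K ≤ normalizer (S : Set G) := by
  obtain ⟨S, h1, ⟨h2, h3⟩, hmax⟩ := Finite.exists_le_maximal
    (p := fun S : Subgroup G => IsPGroup p S ∧ K ≤ normalizer (S : Set G)) (a := R) ⟨hR, hK⟩
  have h4 := H1.le_map_pCore le_normalizer le_rfl h2
  refine ⟨S, h1, le_antisymm (hmax ⟨H1.isPGroup_map_pCore p _, h3.trans ?_⟩ h4) h4, h3⟩
  exact le_normalizer.trans (H1.normalizer_le_normalizer_map_subtype_of_characteristic _ _)

theorem le_of_radical [Finite G] {p : ℕ} [Fact p.Prime] {R I : Subgroup G}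
    (hR : (pCore p (normalizer (R : Set G))).map (normalizer (R : Set G)).subtype = R)
    (hI : ∀ Q : Sylow p G, R ≤ Q → I ≤ Q) : I ≤ R := by
  set J : Subgroup G := ⨅ Q : {Q : Sylow p G // R ≤ Q}, (Q.1 : Subgroup G) with hJ
  have hRp : IsPGroup p R := hR ▸ H1.isPGroup_map_pCore p _
  obtain ⟨Q0, hQ0⟩ := hRp.exists_le_sylow
  have hJp : IsPGroup p J := Q0.isPGroup'.to_le (iInf_le _ (⟨Q0, hQ0⟩ : {Q : Sylow p G // R ≤ Q}))
  have h1 : normalizer (R : Set G) ≤ normalizer (J : Set G) := by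
    intro g hg
    refine mem_normalizer_fintype fun x hx => mem_iInf.mpr fun Q => ?_
    have := mem_iInf.mp hx ⟨g⁻¹ • Q.1, fun y hy => mem_smul_sylow.mpr (by
      rw [inv_inv]; exact Q.2 ((mem_normalizer_iff.mp hg y).mp hy))⟩
    rwa [mem_smul_sylow, inv_inv] at this
  refine (le_iInf fun Q => hI Q.1 Q.2 : I ≤ J).trans ?_
  by_contra hn
  have h2 := H1.lt_normalizer_inf_of_isNilpotent hJp.isNilpotent
    (lt_of_le_not_ge (le_iInf fun Q => Q.2) hn)
  have h3 := H1.le_map_pCore (p := p) (N := normalizer (R : Set G) ⊓ J) inf_le_left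
    (H1.le_normalizer_inf le_normalizer h1) hJp.to_inf_right
  rw [hR] at h3
  exact h2.not_ge h3

end Cfsg.Agent.H26
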