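import Mathlib
import Cfsg.Agent.H26.SylNum

set_option autoImplicit false

namespace Cfsg.Agent.H26

open Subgroup MulAction
open scoped Pointwise commutatorElement

variable {G : Type*} [Group G]

theorem isPGroup_of_forall_prime_orderOf [Finite G] {p : ℕ} [hp : Fact p.Prime] {H : Subgroup G}
    (h : ∀ c ∈ H, (orderOf c).Prime → orderOf c = p) : IsPGroup p H := by
  rw [IsPGroup.iff_card]
  refine ⟨_, Nat.eq_prime_pow_of_unique_prime_dvd Nat.card_pos.ne' fun {q} hq hd => ?_⟩
  have : Fact q.Prime := ⟨hq⟩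
  obtain ⟨c, hc⟩ := exists_prime_orderOf_dvd_card' q hd
  have h1 : orderOf (c : G) = q := by rw [orderOf_coe, hc]
  rw [← h1]
  exact h c c.2 (h1 ▸ hq)

theorem isCyclic_mulAut_of_card_prime {P : Type*} [Group P] {p : ℕ} (hp : p.Prime)
    (h : Nat.card P = p) : IsCyclic (MulAut P) := by
  have : Fact p.Prime := ⟨hp⟩
  have hc : IsCyclic P := isCyclic_of_prime_card h
  have e := IsCyclic.mulAutMulEquiv P
  rw [h] at e
  have := ZMod.isCyclic_units_prime hp
  exact isCyclic_of_surjective e.symm e.symm.surjective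

theorem isCyclic_of_le_normalizer_of_card_prime {P S : Subgroup G} {p : ℕ} (hp : p.Prime)
    (h : Nat.card P = p) (hS : S ≤ normalizer (P : Set G))
    (hC : S ⊓ centralizer (P : Set G) = ⊥) : IsCyclic S := by
  have := isCyclic_mulAut_of_card_prime hp h
  refine isCyclic_of_injective (P.normalizerMonoidHom.comp (inclusion hS)) ?_
  rw [injective_iff_map_eq_one]
  intro a ha
  have h1 : inclusion hS a ∈ P.normalizerMonoidHom.ker := ha
  rw [normalizerMonoidHom_ker, mem_subgroupOf] at h1
  have h2 : (a : G) ∈ S ⊓ centralizer (P : Set G) := ⟨a.2, h1⟩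
  rw [hC, mem_bot] at h2
  exact Subtype.ext h2

theorem dvd_card_of_one_lt_card_sylow [Finite G] {p : ℕ} [hp : Fact p.Prime]
    (h : 1 < Nat.card (Sylow p G)) : p ∣ Nat.card G := by
  by_contra hn
  have : Subsingleton (Sylow p G) := ⟨fun P Q => Sylow.ext (by
    have h1 : ∀ R : Sylow p G, (R : Subgroup G) = ⊥ := fun R => by
      rw [← card_eq_one, R.card_eq_multiplicity, Nat.factorization_eq_zero_of_not_dvd hn, pow_zero]
    rw [h1, h1])⟩
  exact (Nat.card_of_subsingleton (default : Sylow p G) ▸ h).false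

theorem exists_le_normalizer_sylow [Finite G] {p q : ℕ} [Fact p.Prime] [Fact q.Prime]
    {S : Subgroup G} (hS : IsPGroup q S) (h : ¬ q ∣ Nat.card (Sylow p G)) :
    ∃ P : Sylow p G, S ≤ normalizer (P : Set G) := by
  obtain ⟨P, hP⟩ := hS.nonempty_fixed_point_of_prime_not_dvd_card (Sylow p G) h
  exact ⟨P, fun x hx => Sylow.smul_eq_iff_mem_normalizer.mp (hP ⟨x, hx⟩)⟩

theorem card_sylow_ne_two_mul_add_one [Finite G] {p : ℕ} [hp : Fact p.Prime] (hp3 : 3 ≤ p)
    (h5 : 5 ∣ 2 * p + 1) (h25 : ¬ 25 ∣ (2 * p + 1) * (p * (p - 1))) :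
    Nat.card (Sylow p G) ≠ 2 * p + 1 := by
  intro hn
  obtain ⟨G, _, _, hG, h⟩ := exists_sylMin p G
  rw [← h] at hn
  clear h
  have hp2 : p ≠ 2 := by omega
  have hodd : p % 2 = 1 := hp.out.eq_two_or_odd.resolve_left hp2
  have hd : p ∣ Nat.card G := dvd_card_of_one_lt_card_sylow (by omega)
  have hcard : ∀ P : Sylow p G, Nat.card P = p := fun P =>
    card_eq_of_forall_relIndex P hG.pCore_eq_bot hd fun Q hQ =>
      relIndex_eq_of_card_sylow_le_sq hQ (by rw [hn]; nlinarith)
  have hC : ∀ P : Sylow p G, centralizer (P : Set G) = P := by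
    intro P
    have hc : IsCyclic P := isCyclic_of_prime_card (hcard P)
    refine P.is_maximal' (isPGroup_of_forall_prime_orderOf fun c hc hq => ?_) P.le_centralizer
    by_contra hne
    have : Fact (orderOf c).Prime := ⟨hq⟩
    have h1 := ncard_fixedBy_modEq_one P hc
    have h2 := hG.ncard_fixedBy_lt (c := c) (by rintro rfl; rw [orderOf_one] at hq; exact Nat.not_prime_one hq)
    have h3 := card_modEq_ncard_fixedBy (Ω := Sylow p G) (pow_orderOf_eq_one c)
    set f := (fixedBy (Sylow p G) c).ncard with hf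
    rw [hn] at h2 h3
    have h4 : f = 1 ∨ f = p + 1 := by
      have h6 := Nat.div_add_mod f p
      rw [h1, Nat.mod_eq_of_lt hp.out.one_lt] at h6
      have : f / p < 2 := by
        rw [Nat.div_lt_iff_lt_mul hp.out.pos]
        by_contra h7
        have : f = 2 * p := by omega
        rw [this, Nat.ModEq, Nat.mul_mod_left, Nat.mod_eq_of_lt hp.out.one_lt] at h1
        omega
      interval_cases f / p <;> omega
    have h6 := (Nat.modEq_iff_dvd' h2.le).mp h3.symm
    rcases h4 with h4 | h4
    · rw [h4, Nat.add_sub_cancel] at h6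
      rcases (Nat.Prime.dvd_mul hq).mp h6 with h7 | h7
      · have h8 := (Nat.prime_dvd_prime_iff_eq hq Nat.prime_two).mp h7
        obtain ⟨H, hH⟩ := exists_index_two_of_odd (Ω := Sylow p G) (c := c)
          (by rw [← h8]; exact pow_orderOf_eq_one c) (by rw [← hf, hn, h4]; omega)
        exact hG.index_ne_two hp2 H hH
      · exact hne ((Nat.prime_dvd_prime_iff_eq hq hp.out).mp h7)
    · rw [h4, show 2 * p + 1 - (p + 1) = p by omega] at h6
      exact hne ((Nat.prime_dvd_prime_iff_eq hq hp.out).mp h6)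
  have hGodd : ¬ 2 ∣ Nat.card G := by
    intro h2
    obtain ⟨S⟩ : Nonempty (Sylow 2 G) := inferInstance
    obtain ⟨Q, hQ⟩ := exists_le_normalizer_sylow (p := p) S.isPGroup' (by rw [hn]; omega)
    have h3 : IsCyclic S := by
      refine isCyclic_of_le_normalizer_of_card_prime hp.out (hcard Q) hQ ?_
      have := hC Q
      erw [this]
      exact (IsPGroup.disjoint_of_ne 2 p hp2.symm _ _ S.isPGroup' Q.isPGroup').eq_bot
    obtain ⟨H, hH⟩ := H11.exists_index_two_of_isCyclic (even_iff_two_dvd.mpr h2) S h3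
    exact hG.index_ne_two hp2 H hH
  obtain ⟨P⟩ : Nonempty (Sylow p G) := inferInstance
  have h1 := relIndex_centralizer_dvd_of_card_prime hp.out (hcard P)
  have h2 := H1.card_mul_relIndex (centralizer_le_normalizer (P : Set G))
  have h3 := (normalizer (P : Set G)).index_mul_card
  rw [← P.card_eq_index_normalizer, hn, ← h2] at h3
  have h4 : Nat.card (centralizer (P : Set G)) = p := by rw [hC P]; exact hcard P
  rw [h4] at h3
  have h6 : Nat.card G ∣ (2 * p + 1) * (p * (p - 1)) := by
    rw [← h3]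
    exact Nat.mul_dvd_mul_left _ (Nat.mul_dvd_mul_left _ h1)
  have : Fact (Nat.Prime 5) := ⟨by norm_num⟩
  refine hG.not_hasNormalPComplement (q := 5) (by rintro rfl; omega) (h3 ▸ h5.mul_right _) ?_
  refine hasNormalPComplement_of_not_sq_dvd (fun h => h25 (h.trans h6)) ?_
  exact ((Nat.Prime.coprime_iff_not_dvd Nat.prime_two).mpr hGodd).symm.pow_right 2

end Cfsg.Agent.H26
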