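import Cfsg.Agent.H26.U33a

set_option maxRecDepth 100000

namespace Cfsg.Agent.H26.U33

/-- the ring of integers of the eighth cyclotomic field, in coordinates -/
structure Z8 where
  a : ℤ
  b : ℤ
  c : ℤ
  d : ℤ
  deriving DecidableEq

instance : Zero Z8 := ⟨⟨0, 0, 0, 0⟩⟩
instance : Add Z8 := ⟨fun x y => ⟨x.a + y.a, x.b + y.b, x.c + y.c, x.d + y.d⟩⟩
instance : Mul Z8 := ⟨fun x y => ⟨x.a * y.a - x.b * y.d - x.c * y.c - x.d * y.b,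
  x.a * y.b + x.b * y.a - x.c * y.d - x.d * y.c, x.a * y.c + x.b * y.b + x.c * y.a - x.d * y.d,
  x.a * y.d + x.b * y.c + x.c * y.b + x.d * y.a⟩⟩
def cst (n : ℤ) : Z8 := ⟨n, 0, 0, 0⟩
def bar (x : Z8) : Z8 := ⟨x.a, -x.d, -x.c, -x.b⟩
def zq : ℕ → Z8
  | 0 => ⟨1, 0, 0, 0⟩
  | 1 => ⟨0, 1, 0, 0⟩
  | 2 => ⟨0, 0, 1, 0⟩
  | 3 => ⟨0, 0, 0, 1⟩
  | 4 => ⟨-1, 0, 0, 0⟩
  | 5 => ⟨0, -1, 0, 0⟩
  | 6 => ⟨0, 0, -1, 0⟩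
  | _ => ⟨0, 0, 0, -1⟩
def ph (j e : ℕ) : Z8 := if e = 0 then 0 else zq (j * (e - 1) % 8)

def TN : List ℕ := [0x1010200, 0x1100010, 0x1440570, 0x1450470, 0x1470870, 0x1480770, 0x10100002, 0x10404705, 0x10405805, 0x10407405, 0x10408505, 0x44100075, 0x44412736, 0x44421536, 0x44436836, 0x44463436, 0x45100085, 0x45416816, 0x45423416, 0x45431516, 0x45462716, 0x47100045, 0x47413426, 0x47426826, 0x47432726, 0x47461526, 0x48100055, 0x48411566, 0x48422766, 0x48433466, 0x48466866, 0x114411353, 0x114432342, 0x114480337, 0x115413143, 0x115436172, 0x115480117, 0x117416283, 0x117433252, 0x117480227, 0x118412673, 0x118431682, 0x118480667, 0x124421656, 0x124440635, 0x124462641, 0x125423246, 0x125440215, 0x125466271, 0x127426186, 0x127440125, 0x127463151, 0x128422376, 0x128440365, 0x128461381,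 0x134470138, 0x135470618, 0x137470328, 0x138470268, 0x164450234, 0x165450314, 0x167450624, 0x168450164]
def TI : List ℕ := [0x1010200, 0x1030300, 0x1100010, 0x1300060, 0x10001100, 0x10003600, 0x10100002, 0x10300003, 0x44048300, 0x44057100, 0x44100075, 0x44300084, 0x45047100, 0x45054600, 0x45100085, 0x45300054, 0x47045200, 0x47058300, 0x47100045, 0x47300074, 0x48044600, 0x48055200, 0x48100055, 0x48300044, 0x100001020, 0x100003030, 0x100010001, 0x100030006]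
def TF : List ℕ := [0x1010200, 0x1440570, 0x1450470, 0x10404705, 0x10405805, 0x44048300, 0x44412736, 0x44436836, 0x45047100, 0x45416816, 0x45431516, 0x47413426, 0x47432726, 0x48411566, 0x48433466, 0x114118750, 0x114141766, 0x114173713, 0x115117840, 0x115143826, 0x115172863, 0x117146416, 0x117171433, 0x118142536, 0x118176523, 0x124128550, 0x124153516, 0x124181563, 0x125127440, 0x125152466, 0x125183423, 0x127151836, 0x127186813, 0x128156726, 0x128182733, 0x134138850, 0x134143811, 0x134151862, 0x135137540, 0x135142561, 0x135153522, 0x137141731, 0x137156712, 0x138146421, 0x138152432, 0x141181507, 0x142182707, 0x143183407, 0x146186807, 0x151171408, 0x152172808, 0x153173708, 0x156176508, 0x164168450, 0x164171461, 0x164183412, 0x165167740, 0x165173721, 0x165182762, 0x167176511, 0x167181532,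 0x168172831, 0x168186822]

def valL (v : E) (T : List ℕ) (j i : ℕ) : Z8 :=
  (T.map (fun t => ph j (eigV (mv (mt t 0) v) (mv (rm i) (mv (mt t 0) v))))).sum
def valF (i : ℕ) : Z8 :=
  (TF.map (fun t => if qF (mt t 0) (fun j => mv (rm i) (col (mt t 0) j)) then cst 1 else 0)).sum

def VI1 : List Z8 := [⟨28, 0, 0, 0⟩, ⟨1, 0, 0, 0⟩, ⟨-4, 0, 0, 0⟩, ⟨0, 0, -4, 0⟩, ⟨0, 0, 4, 0⟩, ⟨0, 0, 0, 0⟩, ⟨0, 0, 1, 0⟩, ⟨0, 0, -1, 0⟩, ⟨-1, 0, 0, 0⟩, ⟨1, 0, 0, 0⟩, ⟨0, 0, 0, 0⟩, ⟨0, 0, 0, 0⟩, ⟨0, 0, 0, 0⟩, ⟨0, 0, 0, 0⟩]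
def VI2 : List Z8 := [⟨28, 0, 0, 0⟩, ⟨1, 0, 0, 0⟩, ⟨4, 0, 0, 0⟩, ⟨-4, 0, 0, 0⟩, ⟨-4, 0, 0, 0⟩, ⟨0, 0, 0, 0⟩, ⟨-1, 0, 0, 0⟩, ⟨-1, 0, 0, 0⟩, ⟨1, 0, 0, 0⟩, ⟨1, 0, 0, 0⟩, ⟨0, 0, -2, 0⟩, ⟨0, 0, 2, 0⟩, ⟨0, 0, 0, 0⟩, ⟨0, 0, 0, 0⟩]
def VI3 : List Z8 := [⟨28, 0, 0, 0⟩, ⟨1, 0, 0, 0⟩, ⟨-4, 0, 0, 0⟩, ⟨0, 0, 4, 0⟩, ⟨0, 0, -4, 0⟩, ⟨0, 0, 0, 0⟩, ⟨0, 0, -1, 0⟩, ⟨0, 0, 1, 0⟩, ⟨-1, 0, 0, 0⟩, ⟨1, 0, 0, 0⟩, ⟨0, 0, 0, 0⟩, ⟨0, 0, 0, 0⟩, ⟨0, 0, 0, 0⟩, ⟨0, 0, 0, 0⟩]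
def VI6 : List Z8 := [⟨28, 0, 0, 0⟩, ⟨1, 0, 0, 0⟩, ⟨4, 0, 0, 0⟩, ⟨-4, 0, 0, 0⟩, ⟨-4, 0, 0, 0⟩, ⟨0, 0, 0, 0⟩, ⟨-1, 0, 0, 0⟩, ⟨-1, 0, 0, 0⟩, ⟨1, 0, 0, 0⟩, ⟨1, 0, 0, 0⟩, ⟨0, 0, 2, 0⟩, ⟨0, 0, -2, 0⟩, ⟨0, 0, 0, 0⟩, ⟨0, 0, 0, 0⟩]
def VN0 : List Z8 := [⟨63, 0, 0, 0⟩, ⟨9, 0, 0, 0⟩, ⟨7, 0, 0, 0⟩, ⟨7, 0, 0, 0⟩, ⟨7, 0, 0, 0⟩, ⟨3, 0, 0, 0⟩, ⟨1, 0, 0, 0⟩, ⟨1, 0, 0, 0⟩, ⟨1, 0, 0, 0⟩, ⟨0, 0, 0, 0⟩, ⟨1, 0, 0, 0⟩, ⟨1, 0, 0, 0⟩, ⟨0, 0, 0, 0⟩, ⟨0, 0, 0, 0⟩]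
def VN1 : List Z8 := [⟨63, 0, 0, 0⟩, ⟨9, 0, 0, 0⟩, ⟨-5, 0, 0, 0⟩, ⟨-1, 0, -6, 0⟩, ⟨-1, 0, 6, 0⟩, ⟨1, 0, 0, 0⟩, ⟨-1, 0, 0, 0⟩, ⟨-1, 0, 0, 0⟩, ⟨1, 0, 0, 0⟩, ⟨0, 0, 0, 0⟩, ⟨0, 0, -1, 0⟩, ⟨0, 0, 1, 0⟩, ⟨0, 0, 0, 0⟩, ⟨0, 0, 0, 0⟩]
def VF : List Z8 := [⟨63, 0, 0, 0⟩, ⟨0, 0, 0, 0⟩, ⟨15, 0, 0, 0⟩, ⟨3, 0, 0, 0⟩, ⟨3, 0, 0, 0⟩, ⟨3, 0, 0, 0⟩, ⟨0, 0, 0, 0⟩, ⟨0, 0, 0, 0⟩, ⟨0, 0, 0, 0⟩, ⟨3, 0, 0, 0⟩, ⟨1, 0, 0, 0⟩, ⟨1, 0, 0, 0⟩, ⟨0, 0, 0, 0⟩, ⟨0, 0, 0, 0⟩]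

theorem vI1 : ∀ i < 14, valL vI TI 1 i = VI1.getD i 0 := by decide +kernel
theorem vI2 : ∀ i < 14, valL vI TI 2 i = VI2.getD i 0 := by decide +kernel
theorem vI3 : ∀ i < 14, valL vI TI 3 i = VI3.getD i 0 := by decide +kernel
theorem vI6 : ∀ i < 14, valL vI TI 6 i = VI6.getD i 0 := by decide +kernel
theorem vN0 : ∀ i < 14, valL (ee 0) TN 0 i = VN0.getD i 0 := by decide +kernel
theorem vN1 : ∀ i < 14, valL (ee 0) TN 1 i = VN1.getD i 0 := by decide +kernel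
theorem vF : ∀ i < 14, valF i = VF.getD i 0 := by decide +kernel

theorem suN : TN.all (fun t => isSU (mt t 0)) = true := by decide +kernel
theorem suI : TI.all (fun t => isSU (mt t 0)) = true := by decide +kernel
theorem suF : TF.all (fun t => isSU (mt t 0)) = true := by decide +kernel
theorem pwN : TN.Pairwise (fun s t => eigV (mv (mt s 0) (ee 0)) (mv (mt t 0) (ee 0)) = 0) := by
  decide +kernel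
theorem pwI : TI.Pairwise (fun s t => eigV (mv (mt s 0) vI) (mv (mt t 0) vI) = 0) := by
  decide +kernel
theorem pwF : TF.Pairwise (fun s t => qF (mt s 0) (col (mt t 0)) = false) := by decide +kernel

def nrm (v : ℕ → Z8) : Z8 := ((List.range 14).map (fun i => cst (SZ.getD i 0) * (v i * bar (v i)))).sum

def w21 (i : ℕ) : Z8 := VN0.getD i 0 + cst (-1) * VF.getD i 0 + VI2.getD i 0 +
  cst (-1) * VN1.getD i 0 + VI6.getD i 0 + VI1.getD i 0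
def w6 (i : ℕ) : Z8 := cst 9 * (VI3.getD i 0 * VI3.getD i 0) + cst (-2) * VF.getD i 0 +
  cst (-4) * VI6.getD i 0 + cst 3 * VN0.getD i 0 + cst (-4) * (VI2.getD i 0 * VN0.getD i 0) +
  VI1.getD i 0 + VI3.getD i 0 + cst (-1)

theorem n28 : nrm (fun i => VI1.getD i 0) = cst 6048 ∧ VI1.getD 0 0 = cst (28 : ℕ) := by decide +kernel
theorem n21 : nrm w21 = cst 6048 ∧ w21 0 = cst (21 : ℕ) := by decide +kernel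
theorem n6 : nrm w6 = cst 6048 ∧ w6 0 = cst (6 : ℕ) := by decide +kernel

end Cfsg.Agent.H26.U33
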